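/-
Helper7 library: every automorphism of `M23` (the stabiliser of the extra point in `M24`) is inner.
-/
import Cfsg.Agent.Helper7.M23Closure
import Cfsg.Agent.Helper7.ChainTools
import Cfsg.Prelude.Def_Spor_Mathieu

set_option autoImplicit false
open scoped Pointwise

namespace Cfsg.Agent.Helper7

open Cfsg

/-- The octad through the points 23, 0, 1, 2, 3. -/
def O23 : ℕ := 0x82402f

theorem m23c_code_gen {c : ℕ} (hc : c ∈ m23ccodes) :
    ∃ g ∈ Subgroup.closure ({gA, cubeTwist} : Set (Equiv.Perm GolayPt)), IsTbl g c := by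
  rw [← m23ccodes_eq] at hc
  refine closure_codes _ m23cprog [cubeTwist, gA] m23cgens
    (.cons isTbl_cubeTwist (.cons isTbl_gA .nil)) ?_ c hc
  intro g hg
  simp only [List.mem_cons, List.not_mem_nil, or_false] at hg
  rcases hg with rfl | rfl <;> simp

/-- The stabiliser of the point 23 in `M24` is generated by `gA` and `cubeTwist`. -/
theorem M23_le_closure :
    M24 ⊓ fixL [23] ≤ Subgroup.closure ({gA, cubeTwist} : Set (Equiv.Perm GolayPt)) := by
  set K := Subgroup.closure ({gA, cubeTwist} : Set (Equiv.Perm GolayPt)) with hK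
  have hKG : K ≤ M24 := (Subgroup.closure_le _).mpr (by
    rintro g (rfl | rfl)
    exacts [gA_mem, cubeTwist_mem])
  have l0 := level_of_check K [23] 0 0xffffff m23clev0 6
    (fun c hc => m23c_code_gen (m23clev0_sub c hc)) m23clev0_ok
  have l1 := level_of_check K [23, 0] 1 0xffffff m23clev1 6
    (fun c hc => m23c_code_gen (m23clev1_sub c hc)) m23clev1_ok
  have l2 := level_of_check K [23, 0, 1] 2 0xffffff m23clev2 6
    (fun c hc => m23c_code_gen (m23clev2_sub c hc)) m23clev2_ok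
  have l3 := level_of_check K [23, 0, 1, 2] 3 0xffffff m23clev3 6
    (fun c hc => m23c_code_gen (m23clev3_sub c hc)) m23clev3_ok
  have l4 := level_of_check K [23, 0, 1, 2, 3] 5 0x82402f m23clev4 2
    (fun c hc => m23c_code_gen (m23clev4_sub c hc)) m23clev4_ok
  have l5 := level_of_check K [23, 0, 1, 2, 3, 5] 4 0x7dbfd0 m23clev5 4
    (fun c hc => m23c_code_gen (m23clev5_sub c hc)) m23clev5_ok
  have hO : ∀ g ∈ M24, ∀ pre : List ℕ, g ∈ fixL pre →
      (∀ j, j < 24 → (0x80000f : ℕ).testBit j = true → j ∈ pre) → g • setOf O23 = setOf O23 :=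
    fun g hg pre hfix hF => octad_fixed_of_fixL hg (X := O23) (F := 0x80000f) (by decide +kernel)
      (by decide +kernel) (by decide +kernel) hfix hF
  have p7 : M24 ⊓ fixL [23, 0, 1, 2, 3, 5, 4] ≤ K := by
    intro g hg
    have h1 : g = 1 := rigid_of_check [] m23crigid 0x80003f m23crigid_ok g hg.1
      (by intro P hP; cases hP) (fixL_setOf hg.2 (by decide))
    rw [h1]
    exact K.one_mem
  have p6 := peel_level K M24 [23, 0, 1, 2, 3, 5] 4 (lvD (0xffffff ^^^ O23) [23, 0, 1, 2, 3, 5])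
    (fun g hg => lvOut_h1 hg.2 (hO g hg.1 _ hg.2 (by decide)) (by norm_num) (by decide +kernel)
      (by decide) (by decide)) (lv_h2' l5 le_rfl) hKG p7
  have p5 := peel_level K M24 [23, 0, 1, 2, 3] 5 (lvD O23 [23, 0, 1, 2, 3])
    (fun g hg => lvIn_h1 hg.2 (hO g hg.1 _ hg.2 (by decide)) (by norm_num) (by decide +kernel)
      (by decide) (by decide)) (lv_h2' l4 le_rfl) hKG p6
  have p4 := peel_level K M24 [23, 0, 1, 2] 3 (lvD 0xffffff [23, 0, 1, 2])
    (fun g hg => lv_h1 hg.2 (by norm_num) (by decide) (by decide)) (lv_h2' l3 le_rfl) hKG p5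
  have p3 := peel_level K M24 [23, 0, 1] 2 (lvD 0xffffff [23, 0, 1])
    (fun g hg => lv_h1 hg.2 (by norm_num) (by decide) (by decide)) (lv_h2' l2 le_rfl) hKG p4
  have p2 := peel_level K M24 [23, 0] 1 (lvD 0xffffff [23, 0])
    (fun g hg => lv_h1 hg.2 (by norm_num) (by decide) (by decide)) (lv_h2' l1 le_rfl) hKG p3
  exact peel_level K M24 [23] 0 (lvD 0xffffff [23])
    (fun g hg => lv_h1 hg.2 (by norm_num) (by decide) (by decide)) (lv_h2' l0 le_rfl) hKG p2

theorem mem_M23_iff {g : Equiv.Perm GolayPt} : g ∈ Spor.M23 ↔ g ∈ M24 ∧ g none = none := Iff.rfl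

theorem M23_le : Spor.M23 ≤ Subgroup.closure ({gA, cubeTwist} : Set (Equiv.Perm GolayPt)) := by
  intro g hg
  apply M23_le_closure
  refine ⟨hg.1, mem_fixL_one.mpr ?_⟩
  rw [pt_23]
  exact hg.2

theorem gA_none : gA none = none := rfl

theorem cubeTwist_none : cubeTwist none = none := rfl

theorem gDbl_none : gDbl none = none := by
  have h := isTbl_gDbl.apply_pt (j := 23) (by norm_num)
  have h2 : tbl cDbl 23 = 23 := by decide +kernel
  rw [h2, pt_23] at h
  exact h

/-! ### Fingerprints -/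

def codes23 : List ℕ := [cA, cDbl, cC]

def cand23 (ε j : ℕ) : List ℕ := [pwA.getD ε 0, cDbl, comp cC (pwDbl.getD j 0)]

def words23 : List (List ℕ × ℕ) := [([0, 2, 2], 5)]

theorem words23_orig :
    words23.all (fun wn => Nat.beq (powC (evalC codes23 wn.1) wn.2) idCode) = true := by
  decide +kernel

def fp23 (ε j : ℕ) : Bool :=
  (Nat.beq ε 1 && Nat.beq j 0) ||
    words23.any (fun wn => moves (powC (evalC (cand23 ε j) wn.1) wn.2))

theorem fp23_all : [1, 22].all (fun ε => (List.range 11).all fun j => fp23 ε j) = true := by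
  decide +kernel

/-- Every automorphism of `M23` is inner. -/
theorem aut_M23_inner (α : MulAut ↥Spor.M23) : α ∈ Inn ↥Spor.M23 := by
  have : Fact (Nat.Prime 23) := ⟨by norm_num⟩
  have hp2 : ¬ 23 ^ 2 ∣ Nat.card ↥Spor.M23 := by
    intro h
    have h1 : Nat.card ↥Spor.M23 ∣ Nat.card ↥M24 :=
      Subgroup.card_dvd_of_le (show Spor.M23 ≤ M24 from inf_le_left)
    have h2 := h.trans h1
    rw [card_M24] at h2
    revert h2
    decide
  let eA : ↥Spor.M23 := ⟨gA, gA_mem, gA_none⟩
  let eDbl : ↥Spor.M23 := ⟨gDbl, gDbl_mem, gDbl_none⟩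
  let eTw : ↥Spor.M23 := ⟨cubeTwist, cubeTwist_mem, cubeTwist_none⟩
  have hA : orderOf eA = 23 := by
    rw [← Subgroup.orderOf_coe]; exact orderOf_gA
  have hBA : eDbl * eA * eDbl⁻¹ = eA ^ 2 := Subtype.ext rel_dbl_A
  have hcent : ∀ y : ↥Spor.M23, y * eA = eA * y → ∃ i : ℕ, y = eA ^ i := by
    intro y hy
    obtain ⟨e, -, he⟩ := cent_gA (y := y.1) (congrArg Subtype.val hy)
    exact ⟨e, Subtype.ext he⟩
  obtain ⟨β, hβ, ε, hε, hγA, hγB⟩ :=
    normalize_frob hp2 hA hBA hcent [1, 22] (by decide) (by decide) α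
  have hcentB : ∀ U : ↥Spor.M23, ∀ n : ℕ, U * eDbl * U⁻¹ = eDbl ^ n →
      ∃ j < 11, (β * α) U = U * eDbl ^ j := by
    intro U n hrel
    have hc := tied_commute (β * α) (S := eDbl) (S' := eDbl ^ n) (U := U) hγB
      (by rw [map_pow, hγB]) hrel
    obtain ⟨j, hj, hje⟩ := cent_gDbl (y := (U⁻¹ * (β * α) U).1) (U⁻¹ * (β * α) U).2.1
      (congrArg Subtype.val hc)
    refine ⟨j, hj, ?_⟩
    have : U⁻¹ * (β * α) U = eDbl ^ j := Subtype.ext hje
    rw [← this]; group
  obtain ⟨j, hj, hγD⟩ := hcentB eTw 3 (Subtype.ext rel_tw_dbl)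
  have hε23 : ε < 23 := by
    simp only [List.mem_cons, List.not_mem_nil, or_false] at hε
    omega
  have key : ε = 1 ∧ j = 0 := by
    have hfp : fp23 ε j = true := by
      have h1 := List.all_eq_true.mp fp23_all ε hε
      exact List.all_eq_true.mp h1 j (List.mem_range.mpr hj)
    rw [fp23, Bool.or_eq_true] at hfp
    rcases hfp with hfp | hfp
    · rw [Bool.and_eq_true] at hfp
      exact ⟨Nat.eq_of_beq_eq_true hfp.1, Nat.eq_of_beq_eq_true hfp.2⟩
    · exfalso
      rw [List.any_eq_true] at hfp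
      obtain ⟨wn, hwn, hmv⟩ := hfp
      have horig := List.all_eq_true.mp words23_orig wn hwn
      refine fingerprint (β * α) [eA, eDbl, eTw] (codes := codes23)
        (codes' := cand23 ε j) ?_ ?_ wn.1 wn.2 horig hmv
      · exact .cons isTbl_gA (.cons isTbl_gDbl (.cons isTbl_cubeTwist .nil))
      · simp only [List.map_cons, List.map_nil, hγA, hγB, hγD]
        refine .cons ?_ (.cons isTbl_gDbl (.cons ?_ .nil))
        · rw [pwA_eq, getD_powList hε23]
          exact isTbl_pow isTbl_gA ε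
        · rw [pwDbl_eq, getD_powList hj]
          exact isTbl_cubeTwist.mul (isTbl_pow isTbl_gDbl j)
  obtain ⟨rfl, rfl⟩ := key
  have hγ1 : β * α = 1 := by
    apply aut_eq_one_of_closure (S := ({gA, cubeTwist} : Set (Equiv.Perm GolayPt))) M23_le
      (by
        rintro g (rfl | rfl)
        exacts [⟨gA_mem, gA_none⟩, ⟨cubeTwist_mem, cubeTwist_none⟩])
    intro x hx
    rcases hx with rfl | rfl
    · rw [show (⟨gA, _⟩ : ↥Spor.M23) = eA from rfl, hγA, pow_one]
    · rw [show (⟨cubeTwist, _⟩ : ↥Spor.M23) = eTw from rfl, hγD, pow_zero, mul_one]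
  exact inn_of_mul hβ (hγ1 ▸ Subgroup.one_mem _)

end Cfsg.Agent.Helper7
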