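/-
Helper7 library: further tools for automorphism groups: a conjugation automorphism that is not
inner, and the two-coset conclusion.
-/
import Cfsg.Agent.Helper7.AutTools

set_option autoImplicit false

namespace Cfsg.Agent.Helper7

open Cfsg

/-- `conjAut` by an element `n` of a group `L ≥ K` outside the subgroup `K` is not inner, provided
the centraliser in `L` of some element of `K` lies in `K`. -/
theorem conjAut_not_inner_of_le {H : Type*} [Group H] (K L : Subgroup H) (hKL : K ≤ L) (n : H)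
    (hnL : n ∈ L) (h1 : ∀ x ∈ K, n * x * n⁻¹ ∈ K) (h2 : ∀ x ∈ K, n⁻¹ * x * n ∈ K) (hn : n ∉ K)
    (b : H) (hb : b ∈ K) (hcent : ∀ y ∈ L, y * b = b * y → y ∈ K) :
    conjAut K n h1 h2 ∉ Inn ↥K := by
  rintro ⟨m, hm⟩
  have h3 := congrArg (fun f : MulAut ↥K => ((f ⟨b, hb⟩ : ↥K) : H)) hm
  simp only [MulAut.conj_apply, conjAut_apply, Subgroup.coe_mul, Subgroup.coe_inv] at h3
  have h4 : (m.1⁻¹ * n) * b = b * (m.1⁻¹ * n) := by
    have h5 : n * b = m.1 * b * m.1⁻¹ * n := by rw [h3]; group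
    calc (m.1⁻¹ * n) * b = m.1⁻¹ * (n * b) := by group
      _ = m.1⁻¹ * (m.1 * b * m.1⁻¹ * n) := by rw [h5]
      _ = b * (m.1⁻¹ * n) := by group
  have h6 := hcent _ (L.mul_mem (L.inv_mem (hKL m.2)) hnL) h4
  apply hn
  have : n = m.1 * (m.1⁻¹ * n) := by group
  rw [this]
  exact K.mul_mem m.2 h6

/-- If an automorphism becomes trivial after multiplying by an inner automorphism and possibly
by `τ`, then it lies in one of the two cosets `Inn`, `τ⁻¹ Inn`. -/
theorem inn_or_of_normalized {G : Type*} [Group G] {τ β α : MulAut G} (hβ : β ∈ Inn G)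
    (h : β * α = 1 ∨ τ * (β * α) = 1) : α ∈ Inn G ∨ τ * α ∈ Inn G := by
  rcases h with h | h
  · left
    exact inn_of_mul hβ (h ▸ Subgroup.one_mem _)
  · right
    have h1 : α = β⁻¹ * τ⁻¹ := by
      have : α = β⁻¹ * τ⁻¹ * (τ * (β * α)) := by group
      rw [this, h, mul_one]
    rw [h1]
    have h2 : τ * (β⁻¹ * τ⁻¹) = τ * β⁻¹ * τ⁻¹ := by group
    rw [h2]
    exact (innNormal G).conj_mem β⁻¹ (Subgroup.inv_mem _ hβ) τ

/-- Composition with an automorphism `τ` that inverts (or powers) `A` and fixes `B`. -/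
theorem normalize_outer {G : Type*} [Group G] {p : ℕ} {A B : G} (hA : orderOf A = p)
    (τ γ : MulAut G) {ε k : ℕ} (hτA : τ A = A ^ k) (hτB : τ B = B) (hγA : γ A = A ^ ε)
    (hγB : γ B = B) (hk : (k * ε) % p = 1) : (τ * γ) A = A ∧ (τ * γ) B = B := by
  constructor
  · rw [MulAut.mul_apply, hγA, map_pow, hτA, ← pow_mul, pow_eq_pow_mod_of_orderOf hA, hk, pow_one]
  · rw [MulAut.mul_apply, hγB, hτB]

end Cfsg.Agent.Helper7
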