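/-
Helper7 library: every automorphism of `M24` is inner.

The elements used: `gA : t ↦ t + 1` (order 23), `gDbl : t ↦ 2 t` (order 11, normalising `⟨gA⟩`),
`projInv : t ↦ -1/t` (inverting `gDbl`) and `cubeTwist` (normalising `⟨gDbl⟩`).
-/
import Cfsg.Agent.Helper7.CentSearch
import Cfsg.Agent.Helper7.PrimeGen
import Cfsg.Agent.Helper7.M24

set_option autoImplicit false
open scoped Pointwise

namespace Cfsg.Agent.Helper7

open Cfsg

/-- Table code of `t ↦ 2 t`. -/
def cDbl : ℕ := 0xbd6717b56939461b52507314831040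

theorem cDbl_ok : codeM24 cDbl = true := by decide +kernel

/-- The permutation `t ↦ 2 t`. -/
noncomputable def gDbl : Equiv.Perm GolayPt := permOf cDbl

theorem isTbl_gDbl : IsTbl gDbl cDbl := by
  have h := cDbl_ok
  rw [codeM24, Bool.and_eq_true] at h
  exact isTbl_permOf h.1

theorem gDbl_mem : gDbl ∈ M24 := permOf_mem_M24 cDbl_ok

/-- Codes of the powers of `gA`. -/
def pwA : List ℕ := [0xbdab49ca307b9ac5a928398a418820, 0xb82d5a4e5183dcd62d4941cc520c41, 0xb8416ad2728c1ee6b16a4a0e629062, 0xb8820b56939460f7358b5250731483, 0xb8c4105ab49ca307b9ac5a928398a4, 0xb9062082d5a4e5183dcd62d4941cc5, 0xb948310416ad2728c1ee6b16a4a0e6, 0xb98a418820b56939460f7358b52507, 0xb9cc520c4105ab49ca307b9ac5a928, 0xba0e629062082d5a4e5183dcd62d49, 0xba5073148310416ad2728c1ee6b16a, 0xba928398a418820b56939460f7358b, 0xbad4941cc520c4105ab49ca307b9ac, 0xbb16a4a0e629062082d5a4e5183dcd, 0xbb58b525073148310416ad2728c1ee, 0xbb9ac5a928398a418820b56939460f, 0xbbdcd62d4941cc520c4105ab49ca30,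 0xbc1ee6b16a4a0e629062082d5a4e51, 0xbc60f7358b525073148310416ad272, 0xbca307b9ac5a928398a418820b5693, 0xbce5183dcd62d4941cc520c4105ab4, 0xbd2728c1ee6b16a4a0e629062082d5, 0xbd6939460f7358b525073148310416]

theorem pwA_eq : pwA = powList cA 23 := by decide +kernel

/-- Codes of the powers of `gDbl`. -/
def pwDbl : List ℕ := [0xbdab49ca307b9ac5a928398a418820, 0xbd6717b56939461b52507314831040, 0xbcdeb38ed2728c2ac5a92869062080, 0xbbcf671aad2d1849ac7250a290c100, 0xb9dd52b263544287d8cda117212600, 0xbb8b3505e6a2c503d5838a2cd24920, 0xb954fa08ec8d88974c265c2a343640, 0xbaa87891c15d5122bc4cb266680da0, 0xbd22e5a0a2b4e0d51c81ac9ec49860, 0xbc565b4144abd23a39029b4e1930c0, 0xbaecaaa68899e468960478dc268580]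

theorem pwDbl_eq : pwDbl = powList cDbl 11 := by decide +kernel

/-- Orbit data of `gA`. -/
def orbA : List (ℕ × ℕ) := [(1, 0), (1, 1), (1, 2), (1, 3), (1, 4), (1, 5), (1, 6), (1, 7), (1, 8), (1, 9), (1, 10), (1, 11), (1, 12), (1, 13), (1, 14), (1, 15), (1, 16), (1, 17), (1, 18), (1, 19), (1, 20), (1, 21), (1, 22), (0, 0)]

def oidA : List ℕ := [1, 1, 1, 1, 1, 1, 1, 1, 1, 1, 1, 1, 1, 1, 1, 1, 1, 1, 1, 1, 1, 1, 1, 0]

/-- Orbit data of `gDbl`. -/
def orbDbl : List (ℕ × ℕ) := [(1, 0), (2, 0), (2, 1), (2, 8), (2, 2), (3, 0), (2, 9), (3, 9), (2, 3), (2, 5), (3, 1), (3, 4), (2, 10), (2, 7), (3, 10), (3, 8), (2, 4), (3, 3), (2, 6), (3, 7), (3, 2), (3, 6), (3, 5), (0, 0)]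

def oidDbl : List ℕ := [1, 2, 2, 2, 2, 3, 2, 3, 2, 2, 3, 3, 2, 2, 3, 3, 2, 3, 2, 3, 3, 3, 3, 0]

theorem searchA : searchP (fun vals => pwA.contains (conjCode pwA orbA vals)) oidA
    [(List.range 24).filter (fun v => Nat.beq (tbl cA v) v), List.range 24] [] = true := by
  decide +kernel

/-- The centraliser of `gA` in the symmetric group consists of the powers of `gA`. -/
theorem cent_gA {y : Equiv.Perm GolayPt} (hy : y * gA = gA * y) : ∃ e < 23, y = gA ^ e := by
  obtain ⟨c, hc, hc'⟩ := conj_search isTbl_gA isTbl_gA hy 23 pwA pwA pwA_eq pwA_eq [23, 0] orbA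
    (by decide +kernel) (by decide +kernel) oidA (by decide +kernel)
    [(List.range 24).filter (fun v => Nat.beq (tbl cA v) v), List.range 24]
    (.cons (idx_mem_fixList isTbl_gA (fix_of_semiconj hy (by
      apply idx_injective
      rw [isTbl_gA]
      decide +kernel))) (.cons (idx_mem_range _) .nil))
    (fun c => pwA.contains c) searchA
  have hmem : c ∈ pwA := List.contains_iff_mem.mp hc'
  rw [pwA_eq, powList, List.mem_map] at hmem
  obtain ⟨e, he, rfl⟩ := hmem
  exact ⟨e, List.mem_range.mp he, hc.eq (isTbl_pow isTbl_gA e)⟩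

theorem searchDbl : searchP (fun vals =>
      !(basis.all (fun b => inCode (pm (conjCode pwDbl orbDbl vals) b))) ||
        pwDbl.contains (conjCode pwDbl orbDbl vals)) oidDbl
    [(List.range 24).filter (fun v => Nat.beq (tbl cDbl v) v),
      (List.range 24).filter (fun v => Nat.beq (tbl cDbl v) v), List.range 24, List.range 24] []
      = true := by
  decide +kernel

/-- The centraliser of `gDbl` in `M24` consists of the powers of `gDbl`. -/
theorem cent_gDbl {y : Equiv.Perm GolayPt} (hM : y ∈ M24) (hy : y * gDbl = gDbl * y) :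
    ∃ e < 11, y = gDbl ^ e := by
  have hfix : ∀ j, j = 23 ∨ j = 0 → gDbl (pt j) = pt j := by
    intro j hj
    apply idx_injective
    rw [isTbl_gDbl]
    rcases hj with rfl | rfl <;> decide +kernel
  obtain ⟨c, hc, hc'⟩ := conj_search isTbl_gDbl isTbl_gDbl hy 11 pwDbl pwDbl pwDbl_eq pwDbl_eq
    [23, 0, 1, 5] orbDbl (by decide +kernel) (by decide +kernel) oidDbl (by decide +kernel)
    [(List.range 24).filter (fun v => Nat.beq (tbl cDbl v) v),
      (List.range 24).filter (fun v => Nat.beq (tbl cDbl v) v), List.range 24, List.range 24]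
    (.cons (idx_mem_fixList isTbl_gDbl (fix_of_semiconj hy (hfix 23 (Or.inl rfl))))
      (.cons (idx_mem_fixList isTbl_gDbl (fix_of_semiconj hy (hfix 0 (Or.inr rfl))))
        (.cons (idx_mem_range _) (.cons (idx_mem_range _) .nil))))
    (fun c => !(basis.all (fun b => inCode (pm c b))) || pwDbl.contains c) searchDbl
  rw [basisAll_of_mem_M24 hc hM, Bool.not_true, Bool.false_or] at hc'
  have hmem : c ∈ pwDbl := List.contains_iff_mem.mp hc'
  rw [pwDbl_eq, powList, List.mem_map] at hmem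
  obtain ⟨e, he, rfl⟩ := hmem
  exact ⟨e, List.mem_range.mp he, hc.eq (isTbl_pow isTbl_gDbl e)⟩

/-! ### Relations -/

/-- A conjugation relation read off from table codes. -/
theorem conj_rel_of_codes {u s s' : Equiv.Perm GolayPt} {cu cs cs' : ℕ} (hu : IsTbl u cu)
    (hs : IsTbl s cs) (hs' : IsTbl s' cs') (h : comp cu cs = comp cs' cu) : u * s * u⁻¹ = s' := by
  have h2 : IsTbl (s' * u) (comp cu cs) := by
    rw [h]
    exact hs'.mul hu
  have h1 : u * s = s' * u := (hu.mul hs).eq h2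
  rw [h1]
  group

theorem relc_dbl_A : comp cDbl cA = comp (powC cA 2) cDbl := by decide +kernel

theorem relc_inv_dbl : comp cB cDbl = comp (powC cDbl 10) cB := by decide +kernel

theorem relc_tw_dbl : comp cC cDbl = comp (powC cDbl 3) cC := by decide +kernel

theorem rel_dbl_A : gDbl * gA * gDbl⁻¹ = gA ^ 2 :=
  conj_rel_of_codes isTbl_gDbl isTbl_gA (isTbl_pow isTbl_gA 2) relc_dbl_A

theorem rel_inv_dbl : projInv * gDbl * projInv⁻¹ = gDbl ^ 10 :=
  conj_rel_of_codes isTbl_projInv isTbl_gDbl (isTbl_pow isTbl_gDbl 10) relc_inv_dbl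

theorem rel_tw_dbl : cubeTwist * gDbl * cubeTwist⁻¹ = gDbl ^ 3 :=
  conj_rel_of_codes isTbl_cubeTwist isTbl_gDbl (isTbl_pow isTbl_gDbl 3) relc_tw_dbl

theorem orderOf_gA : orderOf gA = 23 :=
  haveI : Fact (Nat.Prime 23) := ⟨by norm_num⟩
  orderOf_of_ordCheck isTbl_gA 23 (by decide +kernel)

theorem orderOf_gDbl : orderOf gDbl = 11 :=
  haveI : Fact (Nat.Prime 11) := ⟨by norm_num⟩
  orderOf_of_ordCheck isTbl_gDbl 11 (by decide +kernel)

/-! ### Fingerprints -/

/-- Codes of the four generators `gA`, `gDbl`, `projInv`, `cubeTwist`. -/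
def codes24 : List ℕ := [cA, cDbl, cB, cC]

/-- Codes of the candidate images. -/
def cand24 (ε j' j : ℕ) : List ℕ :=
  [pwA.getD ε 0, cDbl, comp cB (pwDbl.getD j' 0), comp cC (pwDbl.getD j 0)]

/-- The words used as fingerprints, with the orders of their values. -/
def words24 : List (List ℕ × ℕ) := [([0, 0, 3, 0, 2], 10), ([0, 3, 3], 5)]

theorem words24_orig :
    words24.all (fun wn => Nat.beq (powC (evalC codes24 wn.1) wn.2) idCode) = true := by
  decide +kernel

def fp24 (ε j' j : ℕ) : Bool :=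
  (Nat.beq ε 1 && (Nat.beq j' 0 && Nat.beq j 0)) ||
    words24.any (fun wn => moves (powC (evalC (cand24 ε j' j) wn.1) wn.2))

theorem fp24_all : [1, 22].all (fun ε => (List.range 11).all fun j' =>
    (List.range 11).all fun j => fp24 ε j' j) = true := by
  decide +kernel

/-! ### The theorem -/

/-- Every automorphism of `M24` is inner. -/
theorem aut_M24_inner (α : MulAut ↥M24) : α ∈ Inn ↥M24 := by
  have : Fact (Nat.Prime 23) := ⟨by norm_num⟩
  have hp2 : ¬ 23 ^ 2 ∣ Nat.card ↥M24 := by rw [card_M24]; decide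
  let eA : ↥M24 := ⟨gA, gA_mem⟩
  let eDbl : ↥M24 := ⟨gDbl, gDbl_mem⟩
  let eInv : ↥M24 := ⟨projInv, projInv_mem⟩
  let eTw : ↥M24 := ⟨cubeTwist, cubeTwist_mem⟩
  have hA : orderOf eA = 23 := by
    rw [Subgroup.orderOf_mk]; exact orderOf_gA
  have hBA : eDbl * eA * eDbl⁻¹ = eA ^ 2 := Subtype.ext rel_dbl_A
  have hcent : ∀ y : ↥M24, y * eA = eA * y → ∃ i : ℕ, y = eA ^ i := by
    intro y hy
    obtain ⟨e, -, he⟩ := cent_gA (y := y.1) (congrArg Subtype.val hy)
    exact ⟨e, Subtype.ext he⟩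
  obtain ⟨β, hβ, ε, hε, hγA, hγB⟩ :=
    normalize_frob hp2 hA hBA hcent [1, 22] (by decide) (by decide) α
  -- the tied elements
  have hcentB : ∀ U : ↥M24, ∀ n : ℕ, U * eDbl * U⁻¹ = eDbl ^ n →
      ∃ j < 11, (β * α) U = U * eDbl ^ j := by
    intro U n hrel
    have hc := tied_commute (β * α) (S := eDbl) (S' := eDbl ^ n) (U := U) hγB
      (by rw [map_pow, hγB]) hrel
    obtain ⟨j, hj, hje⟩ := cent_gDbl (y := (U⁻¹ * (β * α) U).1) (U⁻¹ * (β * α) U).2
      (congrArg Subtype.val hc)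
    refine ⟨j, hj, ?_⟩
    have : U⁻¹ * (β * α) U = eDbl ^ j := Subtype.ext hje
    rw [← this]; group
  obtain ⟨j', hj', hγC⟩ := hcentB eInv 10 (Subtype.ext rel_inv_dbl)
  obtain ⟨j, hj, hγD⟩ := hcentB eTw 3 (Subtype.ext rel_tw_dbl)
  -- fingerprints
  have hε23 : ε < 23 := by
    simp only [List.mem_cons, List.not_mem_nil, or_false] at hε
    omega
  have key : ε = 1 ∧ j' = 0 ∧ j = 0 := by
    have hfp : fp24 ε j' j = true := by
      have h1 := List.all_eq_true.mp fp24_all ε hε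
      have h2 := List.all_eq_true.mp h1 j' (List.mem_range.mpr hj')
      exact List.all_eq_true.mp h2 j (List.mem_range.mpr hj)
    rw [fp24, Bool.or_eq_true] at hfp
    rcases hfp with hfp | hfp
    · rw [Bool.and_eq_true, Bool.and_eq_true] at hfp
      exact ⟨Nat.eq_of_beq_eq_true hfp.1, Nat.eq_of_beq_eq_true hfp.2.1,
        Nat.eq_of_beq_eq_true hfp.2.2⟩
    · exfalso
      rw [List.any_eq_true] at hfp
      obtain ⟨wn, hwn, hmv⟩ := hfp
      have horig := List.all_eq_true.mp words24_orig wn hwn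
      refine fingerprint (β * α) [eA, eDbl, eInv, eTw] (codes := codes24)
        (codes' := cand24 ε j' j) ?_ ?_ wn.1 wn.2 horig hmv
      · exact .cons isTbl_gA (.cons isTbl_gDbl (.cons isTbl_projInv (.cons isTbl_cubeTwist .nil)))
      · simp only [List.map_cons, List.map_nil, hγA, hγB, hγC, hγD]
        refine .cons ?_ (.cons isTbl_gDbl (.cons ?_ (.cons ?_ .nil)))
        · rw [pwA_eq, getD_powList hε23]
          exact isTbl_pow isTbl_gA ε
        · rw [pwDbl_eq, getD_powList hj']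
          exact isTbl_projInv.mul (isTbl_pow isTbl_gDbl j')
        · rw [pwDbl_eq, getD_powList hj]
          exact isTbl_cubeTwist.mul (isTbl_pow isTbl_gDbl j)
  obtain ⟨rfl, rfl, rfl⟩ := key
  have hγ1 : β * α = 1 := by
    apply aut_eq_one_of_closure (S := gens3) (by rw [← G3_eq]; exact le_rfl)
      (by rw [← Subgroup.closure_le, ← G3_eq]; exact le_rfl)
    intro x hx
    simp only [gens3, Set.mem_insert_iff, Set.mem_singleton_iff] at hx
    rcases hx with rfl | rfl | rfl
    · rw [show (⟨gA, _⟩ : ↥M24) = eA from rfl, hγA, pow_one]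
    · rw [show (⟨projInv, _⟩ : ↥M24) = eInv from rfl, hγC, pow_zero, mul_one]
    · rw [show (⟨cubeTwist, _⟩ : ↥M24) = eTw from rfl, hγD, pow_zero, mul_one]
  exact inn_of_mul hβ (hγ1 ▸ Subgroup.one_mem _)

end Cfsg.Agent.Helper7
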