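/-
Helper7 library: facts shared by the computations of the automorphism groups of the small
Mathieu groups: values of the explicit permutations at the two special points, the relations
with `projInv`, and the Sylow 11-condition.
-/
import Cfsg.Agent.Helper7.CentTw
import Cfsg.Agent.Helper7.OutM23
import Cfsg.Agent.Helper7.AutTools2

set_option autoImplicit false
open scoped Pointwise

namespace Cfsg.Agent.Helper7

open Cfsg

theorem pt_0 : pt 0 = some 0 := by decide

/-- The value of a permutation given by a table at an index. -/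
theorem apply_pt_of_tbl {g : Equiv.Perm GolayPt} {c : ℕ} (hg : IsTbl g c) {j k : ℕ} (hj : j < 24)
    (h : tbl c j = k) : g (pt j) = pt k := by
  rw [hg.apply_pt hj, h]

theorem gDbl_zero : gDbl (some 0) = some 0 := by
  have h := apply_pt_of_tbl isTbl_gDbl (j := 0) (k := 0) (by norm_num) (by decide +kernel)
  rwa [pt_0] at h

theorem cubeTwist_zero : cubeTwist (some 0) = some 0 := by
  have h := apply_pt_of_tbl isTbl_cubeTwist (j := 0) (k := 0) (by norm_num) (by decide +kernel)
  rwa [pt_0] at h

theorem projInv_none : projInv none = some 0 := by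
  have h := apply_pt_of_tbl isTbl_projInv (j := 23) (k := 0) (by norm_num) (by decide +kernel)
  rwa [pt_0, pt_23] at h

theorem projInv_zero : projInv (some 0) = none := by
  have h := apply_pt_of_tbl isTbl_projInv (j := 0) (k := 23) (by norm_num) (by decide +kernel)
  rwa [pt_0, pt_23] at h

theorem gU22_none : gU22 none = none := by
  have h := apply_pt_of_tbl isTbl_gU22 (j := 23) (k := 23) (by norm_num) (by decide +kernel)
  rwa [pt_23] at h

theorem gU22_zero : gU22 (some 0) = some 0 := by
  have h := apply_pt_of_tbl isTbl_gU22 (j := 0) (k := 0) (by norm_num) (by decide +kernel)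
  rwa [pt_0] at h

theorem gU11_zero : gU11 (some 0) = some 0 := by
  have h := apply_pt_of_tbl isTbl_gU11 (j := 0) (k := 0) (by norm_num) (by decide +kernel)
  rwa [pt_0] at h

theorem conj_apply_of_fix {n x : Equiv.Perm GolayPt} {p q : GolayPt} (hpq : n p = q)
    (hx : x p = p) : (n * x * n⁻¹) q = q := by
  subst hpq
  simp [hx]

theorem conj_inv_apply_of_fix {n x : Equiv.Perm GolayPt} {p q : GolayPt} (hpq : n p = q)
    (hx : x q = q) : (n⁻¹ * x * n) p = p := by
  rw [Equiv.Perm.mul_apply, Equiv.Perm.mul_apply, hpq, hx, Equiv.Perm.inv_eq_iff_eq, hpq]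

theorem relc_inv_tw : comp cB cC = comp cC cB := by decide +kernel

theorem rel_inv_tw : projInv * cubeTwist * projInv⁻¹ = cubeTwist :=
  conj_rel_of_codes isTbl_projInv isTbl_cubeTwist isTbl_cubeTwist relc_inv_tw

theorem relc_u22_tw : comp cU22 cC = comp (powC cC 2) cU22 := by decide +kernel

theorem rel_u22_tw : gU22 * cubeTwist * gU22⁻¹ = cubeTwist ^ 2 :=
  conj_rel_of_codes isTbl_gU22 isTbl_cubeTwist (isTbl_pow isTbl_cubeTwist 2) relc_u22_tw

theorem relc_u11_tw : comp cU11 cC = comp (powC cC 2) cU11 := by decide +kernel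

theorem rel_u11_tw : gU11 * cubeTwist * gU11⁻¹ = cubeTwist ^ 2 :=
  conj_rel_of_codes isTbl_gU11 isTbl_cubeTwist (isTbl_pow isTbl_cubeTwist 2) relc_u11_tw

theorem relc_z12_tw : comp cZ12 cC = comp cC cZ12 := by decide +kernel

theorem rel_z12_tw : gZ12 * cubeTwist * gZ12⁻¹ = cubeTwist :=
  conj_rel_of_codes isTbl_gZ12 isTbl_cubeTwist isTbl_cubeTwist relc_z12_tw

/-- The square of 11 does not divide the order of a subgroup of `M24`. -/
theorem not_sq11_dvd_card {K : Subgroup (Equiv.Perm GolayPt)} (hK : K ≤ M24) :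
    ¬ 11 ^ 2 ∣ Nat.card ↥K := by
  intro h
  have h2 := h.trans (Subgroup.card_dvd_of_le hK)
  rw [card_M24] at h2
  revert h2
  decide

/-- A power of `cubeTwist` from a code in `pwTw`. -/
theorem eq_pow_of_mem_pwTw {y : Equiv.Perm GolayPt} {c : ℕ} (hc : c ∈ pwTw) (hy : IsTbl y c) :
    ∃ i < 5, y = cubeTwist ^ i := by
  rw [pwTw_eq, powList, List.mem_map] at hc
  obtain ⟨i, hi, rfl⟩ := hc
  exact ⟨i, List.mem_range.mp hi, hy.eq (isTbl_pow isTbl_cubeTwist i)⟩

end Cfsg.Agent.Helper7
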