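/-
Helper7 library: simplicity of the concrete groups `M24 ⊓ fixL [0]` (degree 23),
`M24 ⊓ fixL [0, 1]` (degree 22) and `M12grp ⊓ fixL [0]` (degree 11).
-/
import Cfsg.Agent.Helper7.M23Gen
import Cfsg.Agent.Helper7.M22Gen
import Cfsg.Agent.Helper7.M11Gen

set_option autoImplicit false
open scoped Pointwise

namespace Cfsg.Agent.Helper7

open Cfsg

instance fact_prime_23 : Fact (Nat.Prime 23) := ⟨by norm_num⟩
instance fact_prime_11 : Fact (Nat.Prime 11) := ⟨by norm_num⟩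

/-! ### Orders of the point stabilizers -/

theorem card_M24_fix : Nat.card ↥(M24 ⊓ fixL [0]) = 10200960
    ∧ Nat.card ↥(M24 ⊓ fixL [0, 1]) = 443520 ∧ Nat.card ↥(M24 ⊓ fixL [0, 1, 2]) = 20160 := by
  have e0 : Nat.card ↥M24 = Nat.card ↥(M24 ⊓ fixL []) := by
    rw [fixL_nil, inf_top_eq]
  have c0 := card_level M24 [] 0 (lvD 0xffffff [])
    (fun g hg => lv_h1 hg.2 (by norm_num) (by decide) (by decide)) (lv_h2 m24level0 G3_le)
  have c1 := card_level M24 [0] 1 (lvD 0xffffff [0])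
    (fun g hg => lv_h1 hg.2 (by norm_num) (by decide) (by decide)) (lv_h2 m24level1 G3_le)
  have c2 := card_level M24 [0, 1] 2 (lvD 0xffffff [0, 1])
    (fun g hg => lv_h1 hg.2 (by norm_num) (by decide) (by decide)) (lv_h2 m24level2 G3_le)
  simp only [List.nil_append, List.cons_append] at c0 c1 c2
  rw [lvD_card0] at c0
  rw [lvD_card1] at c1
  rw [lvD_card2] at c2
  have h := card_M24
  rw [e0] at h
  omega

/-! ### `M24 ⊓ fixL [0]` is generated by elements of order 23 -/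

theorem m23s_code_gen {c : ℕ} (hc : c ∈ m23scodes) :
    ∃ g ∈ primeGen (M24 ⊓ fixL [0]) 23, IsTbl g c := by
  rw [← m23scodes_eq] at hc
  exact primeGen_codes (M24 ⊓ fixL [0]) 23 m23sgens m23sprog (all_valid_of_codeM24 m23sgens_valid)
    (permOf_mem_fix m23sgens_valid m23sgens_fix) m23sgens_ord c hc

theorem M23_le_primeGen : M24 ⊓ fixL [0] ≤ primeGen (M24 ⊓ fixL [0]) 23 := by
  have hKG : primeGen (M24 ⊓ fixL [0]) 23 ≤ M24 := (primeGen_le _ _).trans inf_le_left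
  have l0 := level_of_check (primeGen (M24 ⊓ fixL [0]) 23) [0] 1 0xffffff m23slev0 6
    (fun c hc => m23s_code_gen (m23slev0_sub c hc)) m23slev0_ok
  have l1 := level_of_check (primeGen (M24 ⊓ fixL [0]) 23) [0, 1] 2 0xffffff m23slev1 7
    (fun c hc => m23s_code_gen (m23slev1_sub c hc)) m23slev1_ok
  have l2 := level_of_check (primeGen (M24 ⊓ fixL [0]) 23) [0, 1, 2] 3 0xffffff m23slev2 6
    (fun c hc => m23s_code_gen (m23slev2_sub c hc)) m23slev2_ok
  have l3 := level_of_check (primeGen (M24 ⊓ fixL [0]) 23) [0, 1, 2, 3] 4 0xffffff m23slev3 5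
    (fun c hc => m23s_code_gen (m23slev3_sub c hc)) m23slev3_ok
  have l4 := level_of_check (primeGen (M24 ⊓ fixL [0]) 23) [0, 1, 2, 3, 4] 7 0x149f m23slev4 2
    (fun c hc => m23s_code_gen (m23slev4_sub c hc)) m23slev4_ok
  have l5 := level_of_check (primeGen (M24 ⊓ fixL [0]) 23) [0, 1, 2, 3, 4, 7] 5 0xffeb60 m23slev5 4
    (fun c hc => m23s_code_gen (m23slev5_sub c hc)) m23slev5_ok
  have p7 : M24 ⊓ fixL [0, 1, 2, 3, 4, 7, 5] ≤ primeGen (M24 ⊓ fixL [0]) 23 := by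
    rw [m24_bot]; exact bot_le
  have p6 := peel_level _ M24 [0, 1, 2, 3, 4, 7] 5 (lvD (0xffffff ^^^ O0) [0, 1, 2, 3, 4, 7])
    (fun g hg => lv6_h1 hg) (lv_h2' l5 le_rfl) hKG p7
  have p5 := peel_level _ M24 [0, 1, 2, 3, 4] 7 (lvD O0 [0, 1, 2, 3, 4])
    (fun g hg => lv5_h1 hg) (lv_h2' l4 le_rfl) hKG p6
  have p4 := peel_level _ M24 [0, 1, 2, 3] 4 (lvD 0xffffff [0, 1, 2, 3])
    (fun g hg => lv_h1 hg.2 (by norm_num) (by decide) (by decide)) (lv_h2' l3 le_rfl) hKG p5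
  have p3 := peel_level _ M24 [0, 1, 2] 3 (lvD 0xffffff [0, 1, 2])
    (fun g hg => lv_h1 hg.2 (by norm_num) (by decide) (by decide)) (lv_h2' l2 le_rfl) hKG p4
  have p2 := peel_level _ M24 [0, 1] 2 (lvD 0xffffff [0, 1])
    (fun g hg => lv_h1 hg.2 (by norm_num) (by decide) (by decide)) (lv_h2' l1 le_rfl) hKG p3
  exact peel_level _ M24 [0] 1 (lvD 0xffffff [0])
    (fun g hg => lv_h1 hg.2 (by norm_num) (by decide) (by decide)) (lv_h2' l0 le_rfl) hKG p2

theorem mem_fixL_singleton {g : Equiv.Perm GolayPt} {j : ℕ} : g ∈ fixL [j] ↔ g (pt j) = pt j := by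
  simp [mem_fixL]

theorem mem_fixL_pair {g : Equiv.Perm GolayPt} {i j : ℕ} :
    g ∈ fixL [i, j] ↔ g (pt i) = pt i ∧ g (pt j) = pt j := by
  simp [mem_fixL]

/-- The concrete point stabilizer `M24 ⊓ fixL [0]` (of degree 23) is simple. -/
theorem simple_M23 : IsSimpleGroup ↥(M24 ⊓ fixL [0]) := by
  obtain ⟨c, hc⟩ : ∃ c, c ∈ m23sgens := ⟨_, List.mem_cons_self⟩
  have hvalid := all_valid_of_codeM24 m23sgens_valid
  refine simple_of_prime_gen_perm (M24 ⊓ fixL [0])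
    ((Finset.univ.erase (pt 0) : Finset GolayPt) : Set GolayPt) ?_ ?_ ?_ (pt 1) (by decide) 23
    (by norm_num) ?_ ?_ (permOf c) (permOf_mem_fix m23sgens_valid m23sgens_fix c hc)
    (orderOf_of_ordCheck (isTbl_permOf (List.all_eq_true.mp hvalid c hc)) 23
      (List.all_eq_true.mp m23sgens_ord c hc)) M23_le_primeGen
  · intro g hg x hx
    rw [Finset.mem_coe, Finset.mem_erase] at hx ⊢
    refine ⟨fun h => hx.1 (g.injective (h.trans (mem_fixL_singleton.mp hg.2).symm)),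
      Finset.mem_univ _⟩
  · intro g hg hall
    ext x
    by_cases hx : x = pt 0
    · subst hx
      rw [mem_fixL_singleton.mp hg.2]; rfl
    · rw [hall x (by rw [Finset.mem_coe, Finset.mem_erase]; exact ⟨hx, Finset.mem_univ _⟩)]; rfl
  · intro a ha b hb c hc d hd hab hcd
    rw [Finset.mem_coe, Finset.mem_erase] at ha hb hc hd
    obtain ⟨g, hg, h1, h2, h3⟩ := m24_trans3 (p := pt 0) (q := a) (r := b) (p' := pt 0) (q' := c)
      (r' := d) (Ne.symm ha.1) (Ne.symm hb.1) hab (Ne.symm hc.1) (Ne.symm hd.1) hcd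
    exact ⟨g, ⟨hg, mem_fixL_singleton.mpr h1⟩, h2, h3⟩
  · rw [Set.ncard_coe_finset]
    decide +kernel
  · rw [card_M24_fix.1]
    norm_num

/-! ### `M24 ⊓ fixL [0, 1]` is generated by elements of order 11 -/

theorem m22s_code_gen {c : ℕ} (hc : c ∈ m22scodes) :
    ∃ g ∈ primeGen (M24 ⊓ fixL [0, 1]) 11, IsTbl g c := by
  rw [← m22scodes_eq] at hc
  exact primeGen_codes (M24 ⊓ fixL [0, 1]) 11 m22sgens m22sprog
    (all_valid_of_codeM24 m22sgens_valid) (permOf_mem_fix m22sgens_valid m22sgens_fix)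
    m22sgens_ord c hc

theorem M22_le_primeGen : M24 ⊓ fixL [0, 1] ≤ primeGen (M24 ⊓ fixL [0, 1]) 11 := by
  have hKG : primeGen (M24 ⊓ fixL [0, 1]) 11 ≤ M24 := (primeGen_le _ _).trans inf_le_left
  have l1 := level_of_check (primeGen (M24 ⊓ fixL [0, 1]) 11) [0, 1] 2 0xffffff m22slev0 5
    (fun c hc => m22s_code_gen (m22slev0_sub c hc)) m22slev0_ok
  have l2 := level_of_check (primeGen (M24 ⊓ fixL [0, 1]) 11) [0, 1, 2] 3 0xffffff m22slev1 4
    (fun c hc => m22s_code_gen (m22slev1_sub c hc)) m22slev1_ok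
  have l3 := level_of_check (primeGen (M24 ⊓ fixL [0, 1]) 11) [0, 1, 2, 3] 4 0xffffff m22slev2 4
    (fun c hc => m22s_code_gen (m22slev2_sub c hc)) m22slev2_ok
  have l4 := level_of_check (primeGen (M24 ⊓ fixL [0, 1]) 11) [0, 1, 2, 3, 4] 7 0x149f m22slev3 2
    (fun c hc => m22s_code_gen (m22slev3_sub c hc)) m22slev3_ok
  have l5 := level_of_check (primeGen (M24 ⊓ fixL [0, 1]) 11) [0, 1, 2, 3, 4, 7] 5 0xffeb60 m22slev4 4
    (fun c hc => m22s_code_gen (m22slev4_sub c hc)) m22slev4_ok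
  have p7 : M24 ⊓ fixL [0, 1, 2, 3, 4, 7, 5] ≤ primeGen (M24 ⊓ fixL [0, 1]) 11 := by
    rw [m24_bot]; exact bot_le
  have p6 := peel_level _ M24 [0, 1, 2, 3, 4, 7] 5 (lvD (0xffffff ^^^ O0) [0, 1, 2, 3, 4, 7])
    (fun g hg => lv6_h1 hg) (lv_h2' l5 le_rfl) hKG p7
  have p5 := peel_level _ M24 [0, 1, 2, 3, 4] 7 (lvD O0 [0, 1, 2, 3, 4])
    (fun g hg => lv5_h1 hg) (lv_h2' l4 le_rfl) hKG p6
  have p4 := peel_level _ M24 [0, 1, 2, 3] 4 (lvD 0xffffff [0, 1, 2, 3])
    (fun g hg => lv_h1 hg.2 (by norm_num) (by decide) (by decide)) (lv_h2' l3 le_rfl) hKG p5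
  have p3 := peel_level _ M24 [0, 1, 2] 3 (lvD 0xffffff [0, 1, 2])
    (fun g hg => lv_h1 hg.2 (by norm_num) (by decide) (by decide)) (lv_h2' l2 le_rfl) hKG p4
  exact peel_level _ M24 [0, 1] 2 (lvD 0xffffff [0, 1])
    (fun g hg => lv_h1 hg.2 (by norm_num) (by decide) (by decide)) (lv_h2' l1 le_rfl) hKG p3

theorem m24_trans4 {p q r s p' q' r' s' : GolayPt} (h : [p, q, r, s].Nodup)
    (h' : [p', q', r', s'].Nodup) : ∃ g ∈ M24, g p = p' ∧ g q = q' ∧ g r = r' ∧ g s = s' := by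
  obtain ⟨g, hg, hh⟩ := m24_tuple [0, 1, 2, 3] m24chain4 [p, q, r, s] rfl h
  obtain ⟨g', hg', hh'⟩ := m24_tuple [0, 1, 2, 3] m24chain4 [p', q', r', s'] rfl h'
  simp only [List.map_cons, List.map_nil, List.cons.injEq, and_true] at hh hh'
  refine ⟨g' * g⁻¹, M24.mul_mem hg' (M24.inv_mem hg), ?_, ?_, ?_, ?_⟩
  · rw [Equiv.Perm.mul_apply, ← hh.1, ← hh'.1]; simp
  · rw [Equiv.Perm.mul_apply, ← hh.2.1, ← hh'.2.1]; simp
  · rw [Equiv.Perm.mul_apply, ← hh.2.2.1, ← hh'.2.2.1]; simp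
  · rw [Equiv.Perm.mul_apply, ← hh.2.2.2, ← hh'.2.2.2]; simp

/-- The concrete two-point stabilizer `M24 ⊓ fixL [0, 1]` (of degree 22) is simple. -/
theorem simple_M22 : IsSimpleGroup ↥(M24 ⊓ fixL [0, 1]) := by
  obtain ⟨c, hc⟩ : ∃ c, c ∈ m22sgens := ⟨_, List.mem_cons_self⟩
  have hvalid := all_valid_of_codeM24 m22sgens_valid
  refine simple_of_prime_gen_perm (M24 ⊓ fixL [0, 1])
    (((Finset.univ.erase (pt 0)).erase (pt 1) : Finset GolayPt) : Set GolayPt) ?_ ?_ ?_ (pt 2)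
    (by decide) 11 (by norm_num) ?_ ?_ (permOf c) (permOf_mem_fix m22sgens_valid m22sgens_fix c hc)
    (orderOf_of_ordCheck (isTbl_permOf (List.all_eq_true.mp hvalid c hc)) 11
      (List.all_eq_true.mp m22sgens_ord c hc)) M22_le_primeGen
  · intro g hg x hx
    rw [Finset.mem_coe, Finset.mem_erase, Finset.mem_erase] at hx ⊢
    obtain ⟨h0, h1⟩ := mem_fixL_pair.mp hg.2
    exact ⟨fun h => hx.1 (g.injective (h.trans h1.symm)),
      fun h => hx.2.1 (g.injective (h.trans h0.symm)), Finset.mem_univ _⟩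
  · intro g hg hall
    obtain ⟨h0, h1⟩ := mem_fixL_pair.mp hg.2
    ext x
    by_cases hx0 : x = pt 0
    · subst hx0; rw [h0]; rfl
    by_cases hx1 : x = pt 1
    · subst hx1; rw [h1]; rfl
    rw [hall x (by
      rw [Finset.mem_coe, Finset.mem_erase, Finset.mem_erase]
      exact ⟨hx1, hx0, Finset.mem_univ _⟩)]
    rfl
  · intro a ha b hb c hc d hd hab hcd
    rw [Finset.mem_coe, Finset.mem_erase, Finset.mem_erase] at ha hb hc hd
    obtain ⟨g, hg, h1, h2, h3, h4⟩ := m24_trans4 (p := pt 0) (q := pt 1) (r := a) (s := b)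
      (p' := pt 0) (q' := pt 1) (r' := c) (s' := d)
      (by
        simp only [List.nodup_cons, List.mem_cons, List.not_mem_nil, or_false, not_or,
          List.nodup_nil, and_true]
        exact ⟨⟨by decide, Ne.symm ha.2.1, Ne.symm hb.2.1⟩, ⟨Ne.symm ha.1, Ne.symm hb.1⟩, hab, not_false⟩)
      (by
        simp only [List.nodup_cons, List.mem_cons, List.not_mem_nil, or_false, not_or,
          List.nodup_nil, and_true]
        exact ⟨⟨by decide, Ne.symm hc.2.1, Ne.symm hd.2.1⟩, ⟨Ne.symm hc.1, Ne.symm hd.1⟩, hcd, not_false⟩)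
    exact ⟨g, ⟨hg, mem_fixL_pair.mpr ⟨h1, h2⟩⟩, h3, h4⟩
  · rw [Set.ncard_coe_finset]
    decide +kernel
  · rw [card_M24_fix.2.1]
    norm_num

/-! ### `M12grp ⊓ fixL [0]` is generated by elements of order 11 -/

theorem m11s_code_gen {c : ℕ} (hc : c ∈ m11scodes) :
    ∃ g ∈ primeGen (M12grp ⊓ fixL [0]) 11, IsTbl g c := by
  rw [← m11scodes_eq] at hc
  exact primeGen_codes (M12grp ⊓ fixL [0]) 11 m11sgens m11sprog
    (all_valid_of_codeM24 m11sgens_valid)
    (permOf_mem_M12grp_fix m11sgens_valid m11sgens_fix m11sgens_D1) m11sgens_ord c hc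

theorem M11_le_primeGen : M12grp ⊓ fixL [0] ≤ primeGen (M12grp ⊓ fixL [0]) 11 := by
  have hKG : primeGen (M12grp ⊓ fixL [0]) 11 ≤ M12grp := (primeGen_le _ _).trans inf_le_left
  have l1 := level_of_check (primeGen (M12grp ⊓ fixL [0]) 11) [0] 1 0xaf101f m11slev0 4
    (fun c hc => m11s_code_gen (m11slev0_sub c hc)) m11slev0_ok
  have l2 := level_of_check (primeGen (M12grp ⊓ fixL [0]) 11) [0, 1] 2 0xaf101f m11slev1 3
    (fun c hc => m11s_code_gen (m11slev1_sub c hc)) m11slev1_ok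
  have l3 := level_of_check (primeGen (M12grp ⊓ fixL [0]) 11) [0, 1, 2] 3 0xaf101f m11slev2 5
    (fun c hc => m11s_code_gen (m11slev2_sub c hc)) m11slev2_ok
  have l4 := level_of_check (primeGen (M12grp ⊓ fixL [0]) 11) [0, 1, 2, 3] 4 0xaf101f m11slev3 3
    (fun c hc => m11s_code_gen (m11slev3_sub c hc)) m11slev3_ok
  have p5 : M12grp ⊓ fixL [0, 1, 2, 3, 4] ≤ primeGen (M12grp ⊓ fixL [0]) 11 := by
    rw [M12grp_fix5]; exact bot_le
  have p4 := peel_level _ M12grp [0, 1, 2, 3] 4 (lvD D1 [0, 1, 2, 3])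
    (fun g hg => m12A_h1 hg (by norm_num) (by decide +kernel) (by decide) (by decide))
    (lv_h2' l4 le_rfl) hKG p5
  have p3 := peel_level _ M12grp [0, 1, 2] 3 (lvD D1 [0, 1, 2])
    (fun g hg => m12A_h1 hg (by norm_num) (by decide +kernel) (by decide) (by decide))
    (lv_h2' l3 le_rfl) hKG p4
  have p2 := peel_level _ M12grp [0, 1] 2 (lvD D1 [0, 1])
    (fun g hg => m12A_h1 hg (by norm_num) (by decide +kernel) (by decide) (by decide))
    (lv_h2' l2 le_rfl) hKG p3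
  exact peel_level _ M12grp [0] 1 (lvD D1 [0])
    (fun g hg => m12A_h1 hg (by norm_num) (by decide +kernel) (by decide) (by decide))
    (lv_h2' l1 le_rfl) hKG p2

theorem m12_trans3' {a b : GolayPt} (ha : a ∈ setOf D1) (hb : b ∈ setOf D1) (ha0 : a ≠ pt 0)
    (hb0 : b ≠ pt 0) (hab : a ≠ b) :
    ∃ k ∈ M12grp, k (pt 0) = pt 0 ∧ k (pt 1) = a ∧ k (pt 2) = b := by
  obtain ⟨k, hk, h⟩ := chain_tuple M12grp (setOf 0xaf101f) M12grp_D1 [0, 1, 2]
    ⟨m12levelA0, m12levelA1, m12levelA2, trivial⟩ [pt 0, a, b] rfl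
    (by simp [Ne.symm ha0, Ne.symm hb0, hab])
    (by
      intro y hy
      simp only [List.mem_cons, List.not_mem_nil, or_false] at hy
      rcases hy with rfl | rfl | rfl
      exacts [pt0_mem_D1, ha, hb])
  simp only [List.map_cons, List.map_nil, List.cons.injEq, and_true] at h
  exact ⟨k, hk, h.1, h.2.1, h.2.2⟩

/-- The concrete group `M12grp ⊓ fixL [0]` (of degree 11 on the rest of the dodecad) is simple. -/
theorem simple_M11 : IsSimpleGroup ↥(M12grp ⊓ fixL [0]) := by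
  obtain ⟨c, hc⟩ : ∃ c, c ∈ m11sgens := ⟨_, List.mem_cons_self⟩
  have hvalid := all_valid_of_codeM24 m11sgens_valid
  refine simple_of_prime_gen_perm (M12grp ⊓ fixL [0])
    (((setOf D1).erase (pt 0) : Finset GolayPt) : Set GolayPt) ?_ ?_ ?_ (pt 1)
    (by decide +kernel) 11 (by norm_num) ?_ ?_ (permOf c)
    (permOf_mem_M12grp_fix m11sgens_valid m11sgens_fix m11sgens_D1 c hc)
    (orderOf_of_ordCheck (isTbl_permOf (List.all_eq_true.mp hvalid c hc)) 11
      (List.all_eq_true.mp m11sgens_ord c hc)) M11_le_primeGen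
  · intro g hg x hx
    rw [Finset.mem_coe, Finset.mem_erase] at hx ⊢
    exact ⟨fun h => hx.1 (g.injective (h.trans (mem_fixL_singleton.mp hg.2).symm)),
      M12grp_apply_mem hg.1 hx.2⟩
  · intro g hg hall
    have h0 := mem_fixL_singleton.mp hg.2
    have hmem : g ∈ M12grp ⊓ fixL [0, 1, 2, 3, 4] := by
      refine ⟨hg.1, ?_⟩
      intro j hj
      by_cases hj0 : j = 0
      · subst hj0; exact h0
      · apply hall
        rw [Finset.mem_coe, Finset.mem_erase]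
        simp only [List.mem_cons, List.not_mem_nil, or_false] at hj
        rcases hj with rfl | rfl | rfl | rfl | rfl
        · exact absurd rfl hj0
        all_goals decide +kernel
    rw [M12grp_fix5] at hmem
    exact Subgroup.mem_bot.mp hmem
  · intro a ha b hb c hc d hd hab hcd
    rw [Finset.mem_coe, Finset.mem_erase] at ha hb hc hd
    obtain ⟨k, hk, k0, k1, k2⟩ := m12_trans3' ha.2 hb.2 ha.1 hb.1 hab
    obtain ⟨k', hk', k0', k1', k2'⟩ := m12_trans3' hc.2 hd.2 hc.1 hd.1 hcd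
    refine ⟨k' * k⁻¹, ⟨M12grp.mul_mem hk' (M12grp.inv_mem hk), mem_fixL_singleton.mpr ?_⟩, ?_, ?_⟩
    · rw [Equiv.Perm.mul_apply]
      nth_rewrite 1 [← k0]
      simp [k0']
    · rw [Equiv.Perm.mul_apply, ← k1, ← k1']; simp
    · rw [Equiv.Perm.mul_apply, ← k2, ← k2']; simp
  · rw [Set.ncard_coe_finset]
    decide +kernel
  · rw [card_M11grp]
    norm_num

/-! ### Transport to arbitrary points and flags -/

theorem stabilizer_pt0 :
    M24 ⊓ MulAction.stabilizer (Equiv.Perm GolayPt) (pt 0) = M24 ⊓ fixL [0] := by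
  ext g
  rw [Subgroup.mem_inf, Subgroup.mem_inf, mem_fixL_singleton]
  rfl

theorem stabilizer_pt01 :
    M24 ⊓ MulAction.stabilizer (Equiv.Perm GolayPt) (pt 0, pt 1) = M24 ⊓ fixL [0, 1] := by
  ext g
  rw [Subgroup.mem_inf, Subgroup.mem_inf, mem_fixL_pair]
  have h : g ∈ MulAction.stabilizer (Equiv.Perm GolayPt) (pt 0, pt 1)
      ↔ g (pt 0) = pt 0 ∧ g (pt 1) = pt 1 := by
    show (g • pt 0, g • pt 1) = (pt 0, pt 1) ↔ _
    rw [Prod.mk.injEq]
    rfl
  rw [h]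

theorem stabilizer_D1_pt0 :
    M24 ⊓ MulAction.stabilizer (Equiv.Perm GolayPt) (setOf D1, pt 0) = M12grp ⊓ fixL [0] := by
  ext g
  rw [Subgroup.mem_inf, Subgroup.mem_inf, mem_fixL_singleton]
  have h : g ∈ MulAction.stabilizer (Equiv.Perm GolayPt) (setOf D1, pt 0)
      ↔ g • setOf D1 = setOf D1 ∧ g (pt 0) = pt 0 := by
    show (g • setOf D1, g • pt 0) = (setOf D1, pt 0) ↔ _
    rw [Prod.mk.injEq]
    rfl
  have h' : g ∈ M12grp ↔ g ∈ M24 ∧ g • setOf D1 = setOf D1 := by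
    show g ∈ M24 ⊓ MulAction.stabilizer (Equiv.Perm GolayPt) (setOf D1) ↔ _
    rw [Subgroup.mem_inf]
    rfl
  rw [h, h', and_assoc]

/-- The stabilizer in `M24` of any point is simple. -/
theorem simple_stab_pt (p : GolayPt) :
    IsSimpleGroup ↥(M24 ⊓ MulAction.stabilizer (Equiv.Perm GolayPt) p) := by
  obtain ⟨h, hh, rfl⟩ := m24_trans1 (pt 0) p
  have := simple_M23
  exact ((conjStabEquiv M24 h hh (pt 0)).trans (MulEquiv.subgroupCongr stabilizer_pt0)).isSimpleGroup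

/-- The stabilizer in `M24` of any two distinct points is simple. -/
theorem simple_stab_pair {p q : GolayPt} (hpq : p ≠ q) :
    IsSimpleGroup ↥(M24 ⊓ MulAction.stabilizer (Equiv.Perm GolayPt) (p, q)) := by
  obtain ⟨h, hh, rfl, rfl⟩ := m24_trans2 (p := pt 0) (q := pt 1) (by decide) hpq
  have := simple_M22
  exact ((conjStabEquiv M24 h hh (pt 0, pt 1)).trans
    (MulEquiv.subgroupCongr stabilizer_pt01)).isSimpleGroup

/-- The stabilizer in `M24` of a dodecad and a point of it is simple. -/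
theorem simple_stab_flag {d : Finset GolayPt} (hd : d ∈ dodecads) {p : GolayPt} (hp : p ∈ d) :
    IsSimpleGroup ↥(M24 ⊓ MulAction.stabilizer (Equiv.Perm GolayPt) (d, p)) := by
  obtain ⟨h, hh, rfl, rfl⟩ := dodecad_flag hd hp
  have := simple_M11
  exact ((conjStabEquiv M24 h hh (setOf D1, pt 0)).trans
    (MulEquiv.subgroupCongr stabilizer_D1_pt0)).isSimpleGroup

end Cfsg.Agent.Helper7
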