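/-
Helper7 library (piece P3 of the call for S0420): the stabiliser of a dodecad and a point on it,
acting on the other 11 points of the dodecad, is a sharply 4-transitive group of degree 11.
-/
import Cfsg.Agent.S0384
import Cfsg.Agent.Helper48.M11UDefs

set_option autoImplicit false
open scoped Pointwise
open Cfsg Cfsg.Agent.Helper48.M11U

namespace Cfsg.Agent.Helper7

/-- Elements of the stabiliser of `d` map `d` onto itself. -/
theorem m11u3_mem_d {d : Finset GolayPt} (g : ↥M24) (hg : g ∈ MulAction.stabilizer ↥M24 d)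
    {a : GolayPt} : g.1 a ∈ d ↔ a ∈ d := by
  have h : g • d = d := hg
  constructor
  · intro ha
    have ha' : g • a ∈ g • d := by rw [h]; exact ha
    exact (Finset.smul_mem_smul_finset_iff g).mp ha'
  · intro ha
    have ha' : g • a ∈ g • d := Finset.smul_mem_smul_finset ha
    rw [h] at ha'
    exact ha'

/-- The restriction to the points of `d` other than `p`. -/
noncomputable def m11u3_res (d : Finset GolayPt) (p : GolayPt) :
    ↥(MulAction.stabilizer ↥M24 d ⊓ MulAction.stabilizer ↥M24 p) →*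
      Equiv.Perm {a : GolayPt // a ∈ d ∧ a ≠ p} where
  toFun g := Equiv.Perm.subtypePerm g.1.1 (by
    intro a
    have h1 := m11u3_mem_d g.1 g.2.1 (a := a)
    have h2 : g.1.1 p = p := g.2.2
    constructor
    · rintro ⟨ha, hap⟩
      exact ⟨h1.mp ha, fun h => hap (by rw [h, h2])⟩
    · rintro ⟨ha, hap⟩
      exact ⟨h1.mpr ha, fun h => hap (g.1.1.injective (h.trans h2.symm))⟩)
  map_one' := by ext a; rfl
  map_mul' g h := by ext a; rfl

theorem m11u3_res_apply (d : Finset GolayPt) (p : GolayPt)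
    (g : ↥(MulAction.stabilizer ↥M24 d ⊓ MulAction.stabilizer ↥M24 p))
    (a : {a : GolayPt // a ∈ d ∧ a ≠ p}) : (m11u3_res d p g a).1 = g.1.1 a.1 := rfl

/-- The 5-tuple `(p, x 0, x 1, x 2, x 3)`. -/
def m11u3_five {d : Finset GolayPt} {p : GolayPt} (x : Fin 4 ↪ {a : GolayPt // a ∈ d ∧ a ≠ p}) :
    Fin 5 ↪ GolayPt :=
  ⟨Fin.cons p (fun i => (x i).1), by
    rw [Fin.cons_injective_iff]
    refine ⟨?_, ?_⟩
    · rintro ⟨i, hi⟩
      exact (x i).2.2 hi
    · intro i j hij
      exact x.injective (Subtype.ext hij)⟩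

theorem m11u3_five_zero {d : Finset GolayPt} {p : GolayPt}
    (x : Fin 4 ↪ {a : GolayPt // a ∈ d ∧ a ≠ p}) : m11u3_five x 0 = p := rfl

theorem m11u3_five_succ {d : Finset GolayPt} {p : GolayPt}
    (x : Fin 4 ↪ {a : GolayPt // a ∈ d ∧ a ≠ p}) (i : Fin 4) :
    m11u3_five x i.succ = (x i).1 := rfl

theorem m11u3_five_mem {d : Finset GolayPt} {p : GolayPt} (hp : p ∈ d)
    (x : Fin 4 ↪ {a : GolayPt // a ∈ d ∧ a ≠ p}) (i : Fin 5) : m11u3_five x i ∈ d := by
  refine Fin.cases ?_ (fun j => ?_) i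
  · exact hp
  · exact (x j).2.1

/-- An element of the stabiliser of `d` and `p` fixing four further points of `d` is trivial. -/
theorem m11u3_eq_one (d : Finset GolayPt) (hd : d ∈ dodecads) (p : GolayPt) (hp : p ∈ d)
    (g : ↥(MulAction.stabilizer ↥M24 d ⊓ MulAction.stabilizer ↥M24 p))
    (x : Fin 4 ↪ {a : GolayPt // a ∈ d ∧ a ≠ p}) (hfix : ∀ i, g.1.1 (x i).1 = (x i).1) :
    g = 1 := by
  obtain ⟨g1, _, huniq⟩ := Cfsg.Agent.S0384.result d hd (m11u3_five x) (m11u3_five x)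
    (m11u3_five_mem hp x) (m11u3_five_mem hp x)
  have h0 : ∀ i, (((⟨g.1, g.2.1⟩ : MulAction.stabilizer ↥M24 d) : ↥M24) : Equiv.Perm GolayPt)
      (m11u3_five x i) = m11u3_five x i := by
    intro i
    refine Fin.cases ?_ (fun j => ?_) i
    · exact g.2.2
    · exact hfix j
  have e1 := huniq ⟨g.1, g.2.1⟩ h0
  have e2 := huniq 1 (fun i => rfl)
  have e3 : (⟨g.1, g.2.1⟩ : MulAction.stabilizer ↥M24 d) = 1 := e1.trans e2.symm
  have e4 : g.1 = 1 := congrArg (fun t : MulAction.stabilizer ↥M24 d => (t : ↥M24)) e3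
  exact Subtype.ext e4

theorem m11u3_card (d : Finset GolayPt) (hd : d ∈ dodecads) (p : GolayPt) (hp : p ∈ d) :
    Fintype.card {a : GolayPt // a ∈ d ∧ a ≠ p} = 11 := by
  rw [Fintype.card_of_subtype (d.erase p) (fun x => by rw [Finset.mem_erase]; tauto),
    Finset.card_erase_of_mem hp, hd.2]

theorem m11u3_res_injective (d : Finset GolayPt) (hd : d ∈ dodecads) (p : GolayPt) (hp : p ∈ d) :
    Function.Injective (m11u3_res d p) := by
  rw [injective_iff_map_eq_one]
  intro g hg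
  have hc : Fintype.card (Fin 4) ≤ Fintype.card {a : GolayPt // a ∈ d ∧ a ≠ p} := by
    rw [m11u3_card d hd p hp, Fintype.card_fin]; norm_num
  obtain ⟨x⟩ := Function.Embedding.nonempty_of_card_le hc
  apply m11u3_eq_one d hd p hp g x
  intro i
  rw [← m11u3_res_apply, hg]
  rfl

/-- PART III (concrete): the stabiliser of a dodecad and a point on it, acting on the other 11
points of the dodecad, is a sharply 4-transitive group of degree 11. -/
theorem m11u_part3 (d : Finset Cfsg.GolayPt) (hd : d ∈ Cfsg.dodecads) (p : Cfsg.GolayPt)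
    (hp : p ∈ d) :
    Fintype.card {a : Cfsg.GolayPt // a ∈ d ∧ a ≠ p} = 11 ∧
    ∃ K : Subgroup (Equiv.Perm {a : Cfsg.GolayPt // a ∈ d ∧ a ≠ p}), Sharp4 K ∧
      Nonempty (↥(MulAction.stabilizer Cfsg.M24 d ⊓ MulAction.stabilizer Cfsg.M24 p) ≃* K) := by
  refine ⟨m11u3_card d hd p hp, (m11u3_res d p).range, ⟨?_, ?_⟩,
    ⟨MonoidHom.ofInjective (m11u3_res_injective d hd p hp)⟩⟩
  · intro x y
    obtain ⟨g, hg, _⟩ := Cfsg.Agent.S0384.result d hd (m11u3_five x) (m11u3_five y)
      (m11u3_five_mem hp x) (m11u3_five_mem hp y)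
    have hgp : ((g : ↥M24) : Equiv.Perm GolayPt) p = p := hg 0
    refine ⟨m11u3_res d p ⟨g.1, Subgroup.mem_inf.mpr ⟨g.2, hgp⟩⟩, ⟨_, rfl⟩, ?_⟩
    intro i
    apply Subtype.ext
    rw [m11u3_res_apply]
    exact hg i.succ
  · rintro h ⟨g, rfl⟩ x hx
    have : g = 1 := by
      apply m11u3_eq_one d hd p hp g x
      intro i
      rw [← m11u3_res_apply, hx i]
    rw [this, map_one]

end Cfsg.Agent.Helper7
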