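import Mathlib

set_option autoImplicit false

/-!
# CALL S1382 (helper1), piece SNA (helper7): the normalizer of a nonempty subset of
`(A ⊔ B) \ (A ∪ B)`.
-/

namespace Cfsg.Agent.Helper7

open Subgroup

universe u

/-- SNA (pure). The normalizer of a nonempty `X ⊆ (A ⊔ B) \ (A ∪ B)` is `A ⊔ B`. -/
theorem bg16c_normalizer_pure {Γ : Type u} [Group Γ] [Finite Γ] {A B M : Subgroup Γ}
    (hAc : ∀ a ∈ A, ∀ a' ∈ A, a * a' = a' * a) (hBc : ∀ b ∈ B, ∀ b' ∈ B, b * b' = b' * b)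
    (hcomm : ∀ a ∈ A, ∀ b ∈ B, a * b = b * a) (hBM : B ≤ M)
    (hpA : ∀ z ∈ A ⊔ B, z ∉ A → z ^ Nat.card A ∈ B ∧ z ^ Nat.card A ≠ 1)
    (hpB : ∀ z ∈ A ⊔ B, z ∉ B → z ^ Nat.card B ∈ A ∧ z ^ Nat.card B ≠ 1)
    (h2 : ∀ g y : Γ, y ∈ M → y ≠ 1 → g * y * g⁻¹ ∈ B → g ∈ M)
    (h3 : ∀ g x : Γ, g ∈ M → x ∈ A → x ≠ 1 → g * x * g⁻¹ ∈ A → g ∈ A ⊔ B)
    (X : Set Γ) (hX : X ⊆ (↑(A ⊔ B) : Set Γ) \ (↑A ∪ ↑B)) (hne : X.Nonempty) :
    Subgroup.normalizer X = A ⊔ B := by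
  -- `A ⊔ B` is commutative
  have hAcent : A ≤ centralizer ((A ⊔ B : Subgroup Γ) : Set Γ) := by
    rw [le_centralizer_iff]
    apply sup_le
    · intro a ha
      rw [mem_centralizer_iff]
      intro a' ha'
      exact hAc a' ha' a ha
    · intro b hb
      rw [mem_centralizer_iff]
      intro a ha
      exact hcomm a ha b hb
  have hBcent : B ≤ centralizer ((A ⊔ B : Subgroup Γ) : Set Γ) := by
    rw [le_centralizer_iff]
    apply sup_le
    · intro a ha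
      rw [mem_centralizer_iff]
      intro b hb
      exact (hcomm a ha b hb).symm
    · intro b hb
      rw [mem_centralizer_iff]
      intro b' hb'
      exact hBc b' hb' b hb
  have hab : ∀ g ∈ A ⊔ B, ∀ z ∈ A ⊔ B, g * z * g⁻¹ = z := by
    intro g hg z hz
    have h1 := (sup_le hAcent hBcent) hg
    rw [mem_centralizer_iff] at h1
    have h4 := h1 z hz
    rw [← h4, mul_inv_cancel_right]
  apply le_antisymm
  · intro g hg
    rw [mem_set_normalizer_iff] at hg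
    obtain ⟨z, hz⟩ := hne
    have hz' : g * z * g⁻¹ ∈ X := (hg z).mp hz
    have hzX := hX hz
    have hz'X := hX hz'
    have hzAB : z ∈ A ⊔ B := hzX.1
    have hzA : z ∉ A := fun h => hzX.2 (Or.inl h)
    have hzB : z ∉ B := fun h => hzX.2 (Or.inr h)
    have hz'AB : g * z * g⁻¹ ∈ A ⊔ B := hz'X.1
    have hz'A : g * z * g⁻¹ ∉ A := fun h => hz'X.2 (Or.inl h)
    have hz'B : g * z * g⁻¹ ∉ B := fun h => hz'X.2 (Or.inr h)
    obtain ⟨hy, hy1⟩ := hpA z hzAB hzA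
    obtain ⟨hy', -⟩ := hpA _ hz'AB hz'A
    rw [conj_pow] at hy'
    have hgM : g ∈ M := h2 g _ (hBM hy) hy1 hy'
    obtain ⟨hx, hx1⟩ := hpB z hzAB hzB
    obtain ⟨hx', -⟩ := hpB _ hz'AB hz'B
    rw [conj_pow] at hx'
    exact h3 g _ hgM hx hx1 hx'
  · intro g hg
    rw [mem_set_normalizer_iff]
    intro n
    constructor
    · intro hn
      rw [hab g hg n (hX hn).1]
      exact hn
    · intro hn
      have h1 : g * n * g⁻¹ ∈ A ⊔ B := (hX hn).1
      have h2' : n ∈ A ⊔ B := by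
        have h4 : n = g⁻¹ * (g * n * g⁻¹) * g := by group
        rw [h4]
        exact mul_mem (mul_mem (inv_mem hg) h1) hg
      rw [hab g hg n h2'] at hn
      exact hn

end Cfsg.Agent.Helper7
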