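import Mathlib
import Cfsg.Prelude.Def_OddOrderLocal

/-!
# CALL BG18 (helper25), piece MINV (helper7, double): `M` normalises the sets `A₁(M)`, `A(M)`,
`A₀(M)`.  Mathlib + Prelude only.
-/

set_option autoImplicit false

namespace Cfsg.Agent.Helper7

open Cfsg Subgroup
open scoped commutatorElement

universe u

variable {G : Type u} [Group G] [Finite G]

omit [Finite G] in
/-- `M` normalises `M'`. -/
theorem bg18minv_comm (M : Subgroup G) {m x : G} (hm : m ∈ M) (hx : x ∈ ⁅M, M⁆) :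
    m * x * m⁻¹ ∈ ⁅M, M⁆ := by
  have hle : ⁅M, M⁆ ≤ M := by
    rw [commutator_le]
    intro a ha b hb
    rw [commutatorElement_def]
    exact M.mul_mem (M.mul_mem (M.mul_mem ha hb) (inv_mem ha)) (inv_mem hb)
  have h1 : ⁅m, x⁆ ∈ ⁅M, M⁆ := commutator_mem_commutator hm (hle hx)
  have h2 : m * x * m⁻¹ = ⁅m, x⁆ * x := by
    rw [commutatorElement_def]; group
  rw [h2]
  exact mul_mem h1 hx

omit [Finite G] in
/-- `M` normalises `M_F`. -/
theorem bg18minv_fit (M : Subgroup G) {m x : G} (hm : m ∈ M) (hx : x ∈ fittingHallOf M) :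
    m * x * m⁻¹ ∈ fittingHallOf M := by
  unfold fittingHallOf at hx ⊢
  obtain ⟨y, hy, rfl⟩ := hx
  exact ⟨⟨m, hm⟩ * y * ⟨m, hm⟩⁻¹, (fittingHall_normal ↥M).conj_mem y hy ⟨m, hm⟩, rfl⟩

omit [Finite G] in
/-- `M` normalises `typeCore M`. -/
theorem bg18minv_core (M : Subgroup G) {m x : G} (hm : m ∈ M) (hx : x ∈ typeCore M) :
    m * x * m⁻¹ ∈ typeCore M := by
  unfold typeCore at hx ⊢
  split_ifs at hx ⊢ with h
  · exact bg18minv_comm M hm hx
  · exact bg18minv_fit M hm hx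

omit [Finite G] in
theorem bg18minv_ne_one {m x : G} (hx : x ≠ 1) : m * x * m⁻¹ ≠ 1 := by
  intro h
  apply hx
  have h1 : x = m⁻¹ * (m * x * m⁻¹) * m := by group
  rw [h1, h]; group

omit [Finite G] in
theorem bg18minv_commute {m a x : G} (h : a * x = x * a) :
    m * a * m⁻¹ * (m * x * m⁻¹) = m * x * m⁻¹ * (m * a * m⁻¹) := by
  have e1 : m * a * m⁻¹ * (m * x * m⁻¹) = m * (a * x) * m⁻¹ := by group
  have e2 : m * x * m⁻¹ * (m * a * m⁻¹) = m * (x * a) * m⁻¹ := by group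
  rw [e1, e2, h]

omit [Finite G] in
/-- `M` normalises `A(M)` (one inclusion). -/
theorem bg18minv_typeA (M : Subgroup G) {m a : G} (hm : m ∈ M) (ha : a ∈ typeA M) :
    m * a * m⁻¹ ∈ typeA M := by
  unfold typeA at ha ⊢
  split_ifs at ha ⊢ with h
  · obtain ⟨haM, ha1, x, hx, hx1, hax⟩ := ha
    exact ⟨M.mul_mem (M.mul_mem hm haM) (inv_mem hm), bg18minv_ne_one ha1,
      m * x * m⁻¹, bg18minv_fit M hm hx, bg18minv_ne_one hx1, bg18minv_commute hax⟩
  · obtain ⟨haM, ha1, x, hx, hx1, hax⟩ := ha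
    exact ⟨bg18minv_comm M hm haM, bg18minv_ne_one ha1,
      m * x * m⁻¹, bg18minv_core M hm hx, bg18minv_ne_one hx1, bg18minv_commute hax⟩

omit [Finite G] in
/-- MINV (pure, definitions only). `M` normalises the sets `A₁(M)`, `A(M)`, `A₀(M)`. -/
theorem bg18_norm_sets (M : Subgroup G) :
    M ≤ normalizer (typeA1 M) ∧ M ≤ normalizer (typeA M) ∧ M ≤ normalizer (typeA0 M) := by
  refine ⟨?_, ?_, ?_⟩
  · rw [le_set_normalizer_iff]
    intro m hm x hx
    unfold typeA1 at hx ⊢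
    refine ⟨bg18minv_core M hm hx.1, ?_⟩
    have hx1 : x ≠ 1 := fun e => hx.2 (by rw [e]; rfl)
    intro e
    exact bg18minv_ne_one hx1 e
  · rw [le_set_normalizer_iff]
    intro m hm a ha
    exact bg18minv_typeA M hm ha
  · rw [le_set_normalizer_iff]
    intro m hm v hv
    unfold typeA0 at hv ⊢
    rcases hv with hv | ⟨hI, W₁, U, W₂, hP, n, hn, w, hw, hw1, hw2, rfl⟩
    · exact Or.inl (bg18minv_typeA M hm hv)
    · refine Or.inr ⟨hI, W₁, U, W₂, hP, m * n, M.mul_mem hm hn, w, hw, hw1, hw2, ?_⟩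
      group

end Cfsg.Agent.Helper7
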