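import Mathlib
import Cfsg.Prelude.Def_OddOrderLocal

/-!
# CALL BG18 (helper25), piece TIG (helper7, double): a TI-criterion.  Mathlib + Prelude only.
-/

set_option autoImplicit false

namespace Cfsg.Agent.Helper7

open Cfsg Subgroup

universe u

variable {G : Type u} [Group G] [Finite G]

omit [Finite G] in
/-- TIG (pure). A nonempty set `X` normalised by `M` such that `x, g x g⁻¹ ∈ X` forces `g ∈ M`
is a TI-subset with set normaliser `M`. -/
theorem bg18_ti_of_forall (X : Set G) (M : Subgroup G) (hMN : M ≤ normalizer X)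
    (hne : X.Nonempty) (h : ∀ g : G, ∀ x ∈ X, g * x * g⁻¹ ∈ X → g ∈ M) :
    IsTISubset X ∧ normalizer X = M := by
  refine ⟨?_, le_antisymm ?_ hMN⟩
  · intro g hg x hx hgx
    exact absurd (hMN (h g x hx hgx)) hg
  · intro g hg
    obtain ⟨x, hx⟩ := hne
    exact h g x hx ((mem_set_normalizer_iff.mp hg x).mp hx)

end Cfsg.Agent.Helper7
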