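import Mathlib
import Cfsg.Prelude.Def_Transfer

/-!
# CALL S1376 / C9 (helper1), piece DN (helper7, double): a finite group with a normal
`s`-complement for every prime `s` dividing its order is nilpotent.  Mathlib + Prelude only.
-/

set_option autoImplicit false

namespace Cfsg.Agent.Helper7

open Subgroup

universe u

variable {G : Type u} [Group G] [Finite G]

/-- DN (pure).  A finite group with a normal `s`-complement for every prime `s` dividing its order is
nilpotent: a Sylow `p`-subgroup `P` lies in each normal `s`-complement `N_s`, `s ≠ p` (its image in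
the `s`-group `X/N_s` is trivial), so in `T := ⨅ N_s`, a normal `p`-group; hence `P = T` is normal;
`isNilpotent_of_finite_tfae`. -/
theorem c9_nil_of_compl {X : Type u} [Group X] [Finite X]
    (h : ∀ s : ℕ, s.Prime → s ∣ Nat.card X → HasNormalPComplement s X) : Group.IsNilpotent X := by
  classical
  apply ((isNilpotent_of_finite_tfae (G := X)).out 3 0).mp
  intro p hp P
  have hpp : p.Prime := hp.out
  let 𝒮 : Set (Subgroup X) := {N | N.Normal ∧ ∃ s j : ℕ, s.Prime ∧ s ≠ p ∧ N.index = s ^ j}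
  have hPle : ∀ N ∈ 𝒮, (P : Subgroup X) ≤ N := by
    rintro N ⟨hN, s, j, hs, hsp, hidx⟩ x hx
    obtain ⟨k, hk⟩ := P.isPGroup' ⟨x, hx⟩
    have hk' : x ^ p ^ k = 1 := by
      have := congrArg Subtype.val hk
      simpa using this
    have h1 : orderOf (QuotientGroup.mk' N x) ∣ p ^ k :=
      (orderOf_map_dvd (QuotientGroup.mk' N) x).trans (orderOf_dvd_of_pow_eq_one hk')
    have h2 : orderOf (QuotientGroup.mk' N x) ∣ s ^ j := by
      rw [← hidx, Subgroup.index_eq_card]
      exact orderOf_dvd_natCard _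
    have hcop : (p ^ k).Coprime (s ^ j) :=
      Nat.Coprime.pow _ _ ((Nat.coprime_primes hpp hs).mpr (Ne.symm hsp))
    have h3 : orderOf (QuotientGroup.mk' N x) = 1 := Nat.eq_one_of_dvd_coprimes hcop h1 h2
    rw [orderOf_eq_one_iff] at h3
    exact (QuotientGroup.eq_one_iff x).mp h3
  have hTn : (sInf 𝒮).Normal :=
    ⟨fun n hn g => Subgroup.mem_sInf.mpr
      (fun N hN => hN.1.conj_mem n (Subgroup.mem_sInf.mp hn N hN) g)⟩
  have hTp : IsPGroup p (sInf 𝒮 : Subgroup X) := by
    have hcard : ∀ {q : ℕ}, q.Prime → q ∣ Nat.card (sInf 𝒮 : Subgroup X) → q = p := by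
      intro q hq hqd
      by_contra hqp
      have hqX : q ∣ Nat.card X := hqd.trans (Subgroup.card_subgroup_dvd_card _)
      obtain ⟨Pq, Nq, hNq, hc⟩ := h q hq hqX
      haveI : Fact q.Prime := ⟨hq⟩
      obtain ⟨j, hj⟩ := IsPGroup.iff_card.mp Pq.isPGroup'
      have hidx : Nq.index = q ^ j := by rw [hc.symm.index_eq_card, hj]
      have hmem : Nq ∈ 𝒮 := ⟨hNq, q, j, hq, hqp, hidx⟩
      have hle : sInf 𝒮 ≤ Nq := sInf_le hmem
      have hqN : q ∣ Nat.card Nq := hqd.trans (Subgroup.card_dvd_of_le hle)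
      have hnd : ¬ q ∣ (Pq : Subgroup X).index := Pq.not_dvd_index
      rw [hc.index_eq_card] at hnd
      exact hnd hqN
    have hne : Nat.card (sInf 𝒮 : Subgroup X) ≠ 0 := Nat.card_pos.ne'
    exact IsPGroup.of_card (Nat.eq_prime_pow_of_unique_prime_dvd hne hcard)
  have hPT : (P : Subgroup X) ≤ sInf 𝒮 := le_sInf hPle
  have heq : sInf 𝒮 = (P : Subgroup X) := P.is_maximal' hTp hPT
  rw [← heq]
  exact hTn

end Cfsg.Agent.Helper7
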