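import Mathlib
import Cfsg.Prelude.Def_OddOrderLocal
import Cfsg.Prelude.Def_Solvable

/-!
# CALL S1376 / C9 (helper1), piece FC (helper7, double): a complement acting regularly on a normal
subgroup is a Frobenius complement.  Mathlib + Prelude only.
-/

set_option autoImplicit false

namespace Cfsg.Agent.Helper7

open Subgroup
open scoped Pointwise

universe u

variable {G : Type u} [Group G] [Finite G]

/-- FC (pure).  `E ≠ ⊥`; `E ≠ M` (else `H ≤ E ⊓ H = ⊥`); for `g = a b ∈ M` (`a ∈ E`, `b ∈ H`),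
`g ∉ E`, so `b ≠ 1`: if `z, w ∈ E` and `z = g w g⁻¹` then `z' := a⁻¹ z a = b w b⁻¹ ∈ E`,
`z' w⁻¹ = b (w b⁻¹ w⁻¹) ∈ E ⊓ H = ⊥`, so `b w = w b` and `w = 1` by `hreg`. -/
theorem c9_frobc {M H E : Subgroup G} (hE : IsComplIn E H M) (hHn : M ≤ normalizer (H : Set G))
    (hE1 : E ≠ ⊥) (hH1 : H ≠ ⊥)
    (hreg : ∀ e ∈ E, e ≠ 1 → ∀ y ∈ H, e * y = y * e → y = 1) :
    IsFrobeniusComplement (E.subgroupOf M) := by
  obtain ⟨hEM, hHM, hEH, hfac⟩ := hE
  refine ⟨?_, ?_, ?_⟩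
  · intro hbot
    apply hE1
    rw [Subgroup.eq_bot_iff_forall]
    intro e he
    have h1 : (⟨e, hEM he⟩ : ↥M) ∈ E.subgroupOf M := Subgroup.mem_subgroupOf.mpr he
    rw [hbot, Subgroup.mem_bot] at h1
    exact congrArg Subtype.val h1
  · intro htop
    apply hH1
    rw [Subgroup.subgroupOf_eq_top] at htop
    rw [eq_bot_iff, ← hEH]
    exact le_inf (hHM.trans htop) le_rfl
  · intro g hg
    rw [Subgroup.mem_subgroupOf] at hg
    rw [eq_bot_iff]
    rintro z ⟨hz1, hz2⟩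
    rw [Subgroup.mem_bot]
    have hzE : (z : G) ∈ E := Subgroup.mem_subgroupOf.mp hz1
    obtain ⟨w, hw, hwz⟩ := (Subgroup.mem_smul_pointwise_iff_exists _ _ _).mp hz2
    have hwE : (w : G) ∈ E := Subgroup.mem_subgroupOf.mp hw
    have hzw : (z : G) = (g : G) * (w : G) * (g : G)⁻¹ := by
      rw [← hwz]; rfl
    obtain ⟨a, ha, b, hb, hgab⟩ := hfac (g : G) g.2
    have hb1 : b ≠ 1 := by
      rintro rfl
      apply hg
      rw [hgab, mul_one]; exact ha
    have hz' : b * (w : G) * b⁻¹ ∈ E := by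
      have h1 : b * (w : G) * b⁻¹ = a⁻¹ * (z : G) * a := by
        rw [hzw, hgab]; group
      rw [h1]
      exact E.mul_mem (E.mul_mem (E.inv_mem ha) hzE) ha
    have hH' : (w : G) * b⁻¹ * (w : G)⁻¹ ∈ H :=
      (Subgroup.mem_normalizer_iff.mp (hHn (hEM hwE)) b⁻¹).mp (H.inv_mem hb)
    have h2 : b * (w : G) * b⁻¹ * (w : G)⁻¹ ∈ E ⊓ H := by
      refine ⟨E.mul_mem hz' (E.inv_mem hwE), ?_⟩
      have e : b * (w : G) * b⁻¹ * (w : G)⁻¹ = b * ((w : G) * b⁻¹ * (w : G)⁻¹) := by group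
      rw [e]
      exact H.mul_mem hb hH'
    rw [hEH, Subgroup.mem_bot] at h2
    have h3 : b * (w : G) * b⁻¹ = (w : G) := mul_inv_eq_one.mp h2
    have hcomm : (w : G) * b = b * (w : G) := by
      calc (w : G) * b = b * (w : G) * b⁻¹ * b := by rw [h3]
        _ = b * (w : G) := by group
    have hw1 : (w : G) = 1 := by
      by_contra hne
      exact hb1 (hreg (w : G) hwE hne b hb hcomm)
    apply Subtype.ext
    rw [hzw, hw1]
    simp

end Cfsg.Agent.Helper7
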