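/-
Helper7 library: table codes that evaluate quickly in the kernel. `compF` is `comp` written out
without lists; `entA` and `tenA` read entries of arrays stored in one natural number.
-/
import Cfsg.Agent.Helper7.CentSearch2

set_option autoImplicit false

namespace Cfsg.Agent.Helper7

open Cfsg

/-- The code of the composition of two tables, written out without lists. -/
def compF (c d : ℕ) : ℕ :=
  Nat.add (Nat.mod (tbl c (tbl d 0)) 32)
    (Nat.mul 32 (Nat.add (Nat.mod (tbl c (tbl d 1)) 32)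
    (Nat.mul 32 (Nat.add (Nat.mod (tbl c (tbl d 2)) 32)
    (Nat.mul 32 (Nat.add (Nat.mod (tbl c (tbl d 3)) 32)
    (Nat.mul 32 (Nat.add (Nat.mod (tbl c (tbl d 4)) 32)
    (Nat.mul 32 (Nat.add (Nat.mod (tbl c (tbl d 5)) 32)
    (Nat.mul 32 (Nat.add (Nat.mod (tbl c (tbl d 6)) 32)
    (Nat.mul 32 (Nat.add (Nat.mod (tbl c (tbl d 7)) 32)
    (Nat.mul 32 (Nat.add (Nat.mod (tbl c (tbl d 8)) 32)
    (Nat.mul 32 (Nat.add (Nat.mod (tbl c (tbl d 9)) 32)
    (Nat.mul 32 (Nat.add (Nat.mod (tbl c (tbl d 10)) 32)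
    (Nat.mul 32 (Nat.add (Nat.mod (tbl c (tbl d 11)) 32)
    (Nat.mul 32 (Nat.add (Nat.mod (tbl c (tbl d 12)) 32)
    (Nat.mul 32 (Nat.add (Nat.mod (tbl c (tbl d 13)) 32)
    (Nat.mul 32 (Nat.add (Nat.mod (tbl c (tbl d 14)) 32)
    (Nat.mul 32 (Nat.add (Nat.mod (tbl c (tbl d 15)) 32)
    (Nat.mul 32 (Nat.add (Nat.mod (tbl c (tbl d 16)) 32)
    (Nat.mul 32 (Nat.add (Nat.mod (tbl c (tbl d 17)) 32)
    (Nat.mul 32 (Nat.add (Nat.mod (tbl c (tbl d 18)) 32)
    (Nat.mul 32 (Nat.add (Nat.mod (tbl c (tbl d 19)) 32)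
    (Nat.mul 32 (Nat.add (Nat.mod (tbl c (tbl d 20)) 32)
    (Nat.mul 32 (Nat.add (Nat.mod (tbl c (tbl d 21)) 32)
    (Nat.mul 32 (Nat.add (Nat.mod (tbl c (tbl d 22)) 32)
    (Nat.mul 32 (Nat.add (Nat.mod (tbl c (tbl d 23)) 32)
    (Nat.mul 32 (0))))))))))))))))))))))))))))))))))))))))))))))))

theorem compF_eq (c d : ℕ) : compF c d = comp c d := rfl

theorem IsTbl.mulF {g h : Equiv.Perm GolayPt} {c d : ℕ} (hg : IsTbl g c) (hh : IsTbl h d) :
    IsTbl (g * h) (compF c d) := by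
  rw [compF_eq]
  exact hg.mul hh

/-- Entry `i` of an array of 120-bit codes stored in one natural number. -/
def entA (A i : ℕ) : ℕ := Nat.mod (Nat.shiftRight A (Nat.mul 120 i)) (Nat.pow 2 120)

/-- Entry `i` of an array of 10-bit numbers stored in one natural number. -/
def tenA (P i : ℕ) : ℕ := Nat.mod (Nat.shiftRight P (Nat.mul 10 i)) 1024

theorem tenA_lt (P i : ℕ) : tenA P i < 1024 := Nat.mod_lt _ (by norm_num)

end Cfsg.Agent.Helper7
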