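/-
Helper7 library: the kernel checks on the data for the centraliser of the involution `e` of `He`.
-/
import Cfsg.Agent.Helper7.HeData

set_option autoImplicit false

namespace Cfsg.Agent.Helper7.HeC

open Cfsg.Agent.Helper28

/-- `f x`, with `x` evaluated first. -/
def natLetB (x : ℕ) (f : ℕ → Bool) : Bool := Nat.rec (f 0) (fun k _ => f (Nat.succ k)) x

theorem natLetB_eq (x : ℕ) (f : ℕ → Bool) : natLetB x f = f x := by
  cases x <;> rfl

/-- Check of a property on the range `[s, s + 2^d)` by binary splitting. -/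
def rgAllF (p : ℕ → Bool) : ℕ → ℕ → Bool
  | 0, s => natLetB s p
  | d + 1, s => natLetB s fun s' => rgAllF p d s' && rgAllF p d (Nat.add s' (Nat.pow 2 d))

theorem rgAllF_spec (p : ℕ → Bool) (d s : ℕ) (h : rgAllF p d s = true) :
    ∀ c, s ≤ c → c < s + 2 ^ d → p c = true := by
  induction d generalizing s with
  | zero =>
    intro c h1 h2
    have hc : c = s := by omega
    subst hc
    have h' : natLetB c p = true := h
    rwa [natLetB_eq] at h'
  | succ d ih =>
    intro c h1 h2
    have h' : natLetB s (fun s' => rgAllF p d s' && rgAllF p d (Nat.add s' (Nat.pow 2 d))) = true := h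
    rw [natLetB_eq, Bool.and_eq_true] at h'
    by_cases hc : c < s + 2 ^ d
    · exact ih s h'.1 c h1 hc
    · exact ih _ h'.2 c (by show s + 2 ^ d ≤ c; omega)
        (by show c < s + 2 ^ d + 2 ^ d; rw [pow_succ] at h2; omega)

/-- A range checked in blocks of `2 ^ d`. -/
theorem rgF_cover (p : ℕ → Bool) (d K : ℕ) (h : ∀ k, k < K → rgAllF p d (2 ^ d * k) = true) (i : ℕ)
    (hi : i < 2 ^ d * K) : p i = true := by
  have hk : i / 2 ^ d < K := Nat.div_lt_of_lt_mul hi
  have h1 := Nat.lt_mul_div_succ i (show 0 < 2 ^ d by positivity)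
  exact rgAllF_spec p d _ (h _ hk) i (Nat.mul_div_le i (2 ^ d))
    (by rw [Nat.mul_succ] at h1; exact h1)

/-! ### the conjugates of `e` -/

/-- the image of the point `p` under the conjugate of `e` by the word `P` -/
noncomputable def cwalk (P : List ℕ) (p : ℕ) : ℕ :=
  walkA HEN.T P (HEN.T 4 (walkA HEN.T P.reverse p))

/-- the code of the conjugate of `e` by the word `P`: the images of the points `9` and `111` -/
noncomputable def conjCode (P : List ℕ) : ℕ := Nat.add (Nat.mul (cwalk P 9) 16384) (cwalk P 111)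

/-- the words have letters below 7, the conjugates fix the point `0`, and the codes increase -/
noncomputable def conjChk : List (List ℕ) → ℕ → Bool
  | [], _ => true
  | P :: rest, prev => letChk HEN.D.jc P && (Nat.beq (cwalk P 0) 0 &&
      natLetB (conjCode P) fun c => Nat.blt prev c && conjChk rest c)

theorem conjChk_spec (l : List (List ℕ)) (prev : ℕ) (h : conjChk l prev = true) :
    (∀ P ∈ l, letChk HEN.D.jc P = true ∧ cwalk P 0 = 0 ∧ prev < conjCode P) ∧
      (l.map conjCode).Pairwise (· < ·) := by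
  induction l generalizing prev with
  | nil => exact ⟨fun P hP => absurd hP (by simp), List.Pairwise.nil⟩
  | cons P rest ih =>
    have h' : (letChk HEN.D.jc P && (Nat.beq (cwalk P 0) 0 &&
      natLetB (conjCode P) fun c => Nat.blt prev c && conjChk rest c)) = true := h
    rw [natLetB_eq, Bool.and_eq_true, Bool.and_eq_true, Bool.and_eq_true] at h'
    obtain ⟨h1, h2, h3, h4⟩ := h'
    obtain ⟨i1, i2⟩ := ih _ h4
    have h3' : prev < conjCode P := Nat.blt_eq.mp h3
    refine ⟨?_, ?_⟩
    · intro Q hQ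
      rcases List.mem_cons.mp hQ with e | e
      · subst e
        exact ⟨h1, Nat.eq_of_beq_eq_true h2, h3'⟩
      · obtain ⟨a, b, c⟩ := i1 Q e
        exact ⟨a, b, lt_trans h3' c⟩
    · rw [List.map_cons, List.pairwise_cons]
      refine ⟨?_, i2⟩
      intro c hc
      obtain ⟨Q, hQ, rfl⟩ := List.mem_map.mp hc
      exact (i1 Q hQ).2.2

/-- every fixed point of `e` is in the list -/
noncomputable def fixChk (i : ℕ) : Bool :=
  Nat.ble 8330 i || (!(Nat.beq (HEN.T 4 i) i) || listAny fixL i)
where
  /-- membership in a list of numbers -/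
  listAny : List ℕ → ℕ → Bool
    | [], _ => false
    | a :: l, i => Nat.beq a i || listAny l i

theorem fixChk.listAny_mem (l : List ℕ) (i : ℕ) (h : fixChk.listAny l i = true) : i ∈ l := by
  induction l with
  | nil => exact absurd h (by simp [fixChk.listAny])
  | cons a l ih =>
    have h' : (Nat.beq a i || fixChk.listAny l i) = true := h
    rw [Bool.or_eq_true] at h'
    rcases h' with e | e
    · rw [Nat.eq_of_beq_eq_true e]; exact List.mem_cons_self
    · exact List.mem_cons_of_mem _ (ih e)

/-! ### the closure table -/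

/-- the seven generators of the centraliser, as words -/
def WW (i : ℕ) : List ℕ :=
  bif Nat.beq i 0 then [0] else bif Nat.beq i 1 then [1] else bif Nat.beq i 2 then [2]
  else bif Nat.beq i 3 then [5] else bif Nat.beq i 4 then [6]
  else bif Nat.beq i 5 then [3, 4, 5, 3, 2, 3, 5, 4, 3] else [3, 4, 6, 3, 2, 3, 6, 4, 3]

/-- row `j` of the closure table -/
noncomputable def rowN (j : ℕ) : ℕ :=
  Nat.mod (Nat.shiftRight (nthN tabB (Nat.shiftRight j 8)) (Nat.mul (Nat.land j 255) 200))
    (Nat.pow 2 200)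

/-- the fields of a row -/
def fA1 (r : ℕ) : ℕ := Nat.land r 16383
def fA2 (r : ℕ) : ℕ := Nat.land (Nat.shiftRight r 14) 16383
def fA3 (r : ℕ) : ℕ := Nat.land (Nat.shiftRight r 28) 16383
def fMC (r : ℕ) : ℕ := Nat.land (Nat.shiftRight r 42) 33554431
def fTb (r i : ℕ) : ℕ := Nat.land (Nat.shiftRight r (Nat.add 67 (Nat.mul 15 i))) 32767
def fPar (r : ℕ) : ℕ := Nat.land (Nat.shiftRight r 172) 32767
def fGen (r : ℕ) : ℕ := Nat.land (Nat.shiftRight r 187) 7
def fDep (r : ℕ) : ℕ := Nat.land (Nat.shiftRight r 190) 15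

/-- generator `i` maps the row `r` to the row `t` -/
noncomputable def genChk (i r t : ℕ) : Bool :=
  Nat.beq (walkA HEN.T (WW i) (fA1 r)) (fA1 t) && (Nat.beq (walkA HEN.T (WW i) (fA2 r)) (fA2 t) &&
    (Nat.beq (walkA HEN.T (WW i) (fA3 r)) (fA3 t) && Nat.beq (mapc (FF i) (fMC r)) (fMC t)))

/-- the table entry of the row `r` at the generator `i` is right -/
noncomputable def stepChk (r i : ℕ) : Bool :=
  natLetB (fTb r i) fun tj => Nat.blt tj 21504 && natLetB (rowN tj) fun t => genChk i r t

/-- all checks at the row `j` -/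
noncomputable def rowChk (j : ℕ) : Bool :=
  Nat.ble 21504 j || natLetB (rowN j) fun r =>
    (stepChk r 0 && (stepChk r 1 && (stepChk r 2 && (stepChk r 3 && (stepChk r 4 &&
      (stepChk r 5 && stepChk r 6)))))) &&
    ((Nat.ble 21503 j || Nat.blt (fMC r) (fMC (rowN (Nat.add j 1)))) &&
    ((Nat.beq j 9472 || natLetB (fPar r) fun p => Nat.blt p 21504 && (Nat.blt (fGen r) 7 &&
      natLetB (rowN p) fun rp => Nat.beq (fTb rp (fGen r)) j && Nat.blt (fDep rp) (fDep r))) &&
    (Nat.beq j 9472 || !(Nat.beq (fA1 r) 9 && (Nat.beq (fA2 r) 111 && Nat.beq (fA3 r) 0)))))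

end Cfsg.Agent.Helper7.HeC
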