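/-
Helper7 library: kernel-checked certificates for the centraliser of the involution `e` of `He`: the 945 conjugates fixing a point, and the fixed points of `e`.
-/
import Cfsg.Agent.Helper7.HeChkDefs

set_option autoImplicit false

namespace Cfsg.Agent.Helper7.HeC

set_option maxRecDepth 100000 in
theorem conj_ok : conjChk conjP 0 = true := by decide +kernel

theorem conjP_length : conjP.length = 945 := by decide +kernel

theorem fix_0 : rgAllF fixChk 10 (2 ^ 10 * 0) = true := by decide +kernel
theorem fix_1 : rgAllF fixChk 10 (2 ^ 10 * 1) = true := by decide +kernel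
theorem fix_2 : rgAllF fixChk 10 (2 ^ 10 * 2) = true := by decide +kernel
theorem fix_3 : rgAllF fixChk 10 (2 ^ 10 * 3) = true := by decide +kernel
theorem fix_4 : rgAllF fixChk 10 (2 ^ 10 * 4) = true := by decide +kernel
theorem fix_5 : rgAllF fixChk 10 (2 ^ 10 * 5) = true := by decide +kernel
theorem fix_6 : rgAllF fixChk 10 (2 ^ 10 * 6) = true := by decide +kernel
theorem fix_7 : rgAllF fixChk 10 (2 ^ 10 * 7) = true := by decide +kernel
theorem fix_8 : rgAllF fixChk 10 (2 ^ 10 * 8) = true := by decide +kernel

end Cfsg.Agent.Helper7.HeC
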