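/-
Helper7 library: generic lemmas for identifying two finite groups through the graph of an
isomorphism given by a closure table, and a bound for the order of a centraliser from conjugates
fixing a point of a permutation representation.
-/
import Mathlib

set_option autoImplicit false

namespace Cfsg.Agent.Helper7.HeC

/-- A subgroup of a product that projects injectively into two subgroups which are not larger
than it is the graph of an isomorphism between them. -/
theorem graph_equiv {G1 G2 : Type*} [Group G1] [Group G2] (Γ : Subgroup (G1 × G2))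
    (C1 : Subgroup G1) (C2 : Subgroup G2) (n : ℕ) [Finite C1] [Finite C2]
    (h1 : ∀ γ ∈ Γ, γ.1 ∈ C1) (h2 : ∀ γ ∈ Γ, γ.2 ∈ C2)
    (hi1 : ∀ γ ∈ Γ, γ.1 = 1 → γ.2 = 1) (hi2 : ∀ γ ∈ Γ, γ.2 = 1 → γ.1 = 1)
    (hc : n ≤ Nat.card Γ) (hC1 : Nat.card C1 ≤ n) (hC2 : Nat.card C2 ≤ n) :
    Nonempty (C1 ≃* C2) := by
  let f1 : Γ →* C1 :=
    ((MonoidHom.fst G1 G2).comp Γ.subtype).codRestrict C1 (fun γ => h1 γ.1 γ.2)
  let f2 : Γ →* C2 :=
    ((MonoidHom.snd G1 G2).comp Γ.subtype).codRestrict C2 (fun γ => h2 γ.1 γ.2)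
  have inj1 : Function.Injective f1 := by
    rw [injective_iff_map_eq_one]
    intro γ hγ
    have e1 : (γ : G1 × G2).1 = 1 := congrArg Subtype.val hγ
    have e2 := hi1 γ.1 γ.2 e1
    exact Subtype.ext (Prod.ext e1 e2)
  have inj2 : Function.Injective f2 := by
    rw [injective_iff_map_eq_one]
    intro γ hγ
    have e2 : (γ : G1 × G2).2 = 1 := congrArg Subtype.val hγ
    have e1 := hi2 γ.1 γ.2 e2
    exact Subtype.ext (Prod.ext e1 e2)
  have : Finite Γ := Finite.of_injective f1 inj1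
  have bij1 : Function.Bijective f1 := by
    rw [Nat.bijective_iff_injective_and_card]
    exact ⟨inj1, le_antisymm (Nat.card_le_card_of_injective f1 inj1) (le_trans hC1 hc)⟩
  have bij2 : Function.Bijective f2 := by
    rw [Nat.bijective_iff_injective_and_card]
    exact ⟨inj2, le_antisymm (Nat.card_le_card_of_injective f2 inj2) (le_trans hC2 hc)⟩
  exact ⟨(MulEquiv.ofBijective f1 bij1).symm.trans (MulEquiv.ofBijective f2 bij2)⟩

/-- Counting the elements `x` with `x⁻¹ p0` fixed by `z` in two ways: if `m` distinct conjugates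
of `z` fix the point `p0`, then `m * |C(z)| ≤ |Fix z| * |Stab p0|`. -/
theorem card_centralizer_mul_le {G α : Type*} [Group G] [Finite G] (φ : G →* Equiv.Perm α)
    (z : G) (p0 : α) (St : Subgroup G) (hSt : ∀ x : G, φ x p0 = p0 → x ∈ St)
    (F : Finset α) (hF : ∀ p, φ z p = p → p ∈ F)
    (m : ℕ) (g : Fin m → G) (hfix : ∀ j, φ (g j * z * (g j)⁻¹) p0 = p0)
    (hinj : Function.Injective (fun j => g j * z * (g j)⁻¹)) :
    m * Nat.card (Subgroup.centralizer ({z} : Set G)) ≤ F.card * Nat.card St := by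
  classical
  have hcomm : ∀ c ∈ Subgroup.centralizer ({z} : Set G), z * c = c * z := by
    intro c hc
    exact Subgroup.mem_centralizer_iff.mp hc z rfl
  have hcomm' : ∀ c ∈ Subgroup.centralizer ({z} : Set G), z * c⁻¹ = c⁻¹ * z := by
    intro c hc
    exact hcomm _ (Subgroup.inv_mem _ hc)
  let i1 : Fin m × Subgroup.centralizer ({z} : Set G) → {x : G // φ x⁻¹ p0 ∈ F} := fun jc =>
    ⟨g jc.1 * jc.2, by
      apply hF
      have e : z * (g jc.1 * (jc.2 : G))⁻¹ =
          (g jc.1 * (jc.2 : G))⁻¹ * (g jc.1 * z * (g jc.1)⁻¹) := by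
        rw [mul_inv_rev, ← mul_assoc, hcomm' _ jc.2.2]; group
      rw [← Equiv.Perm.mul_apply, ← map_mul, e, map_mul, Equiv.Perm.mul_apply, hfix]⟩
  have inj1 : Function.Injective i1 := by
    rintro ⟨j, c⟩ ⟨k, d⟩ h
    have h' : g j * (c : G) = g k * (d : G) := congrArg Subtype.val h
    have e1 : g j * z * (g j)⁻¹ = (g j * (c : G)) * z * (g j * (c : G))⁻¹ := by
      rw [mul_inv_rev, mul_assoc (g j) (c : G) z, ← hcomm _ c.2]; group
    have e2 : g k * z * (g k)⁻¹ = (g k * (d : G)) * z * (g k * (d : G))⁻¹ := by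
      rw [mul_inv_rev, mul_assoc (g k) (d : G) z, ← hcomm _ d.2]; group
    have hjk : j = k := hinj (by show g j * z * (g j)⁻¹ = g k * z * (g k)⁻¹; rw [e1, e2, h'])
    subst hjk
    have hcd : (c : G) = d := mul_left_cancel h'
    exact Prod.ext rfl (Subtype.ext hcd)
  have hr : ∀ p : α, ∃ y : G, (∃ x : G, φ x⁻¹ p0 = p) → φ y⁻¹ p0 = p := by
    intro p
    by_cases h : ∃ x : G, φ x⁻¹ p0 = p
    · exact ⟨h.choose, fun _ => h.choose_spec⟩
    · exact ⟨1, fun h' => absurd h' h⟩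
  choose r hr using hr
  let i2 : {x : G // φ x⁻¹ p0 ∈ F} → F × St := fun x =>
    (⟨φ x.1⁻¹ p0, x.2⟩, ⟨r (φ x.1⁻¹ p0) * x.1⁻¹, hSt _ (by
      have h := hr (φ x.1⁻¹ p0) ⟨x.1, rfl⟩
      rw [map_inv (φ) (r (φ x.1⁻¹ p0)), Equiv.Perm.inv_eq_iff_eq] at h
      rw [map_mul, Equiv.Perm.mul_apply]
      exact h.symm)⟩)
  have inj2 : Function.Injective i2 := by
    rintro ⟨x, hx⟩ ⟨y, hy⟩ h
    have hp : φ x⁻¹ p0 = φ y⁻¹ p0 := congrArg (fun t => (t.1 : α)) h
    have hq : r (φ x⁻¹ p0) * x⁻¹ = r (φ y⁻¹ p0) * y⁻¹ := congrArg (fun t => (t.2 : G)) h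
    rw [hp] at hq
    exact Subtype.ext (inv_injective (mul_left_cancel hq))
  have c1 := Nat.card_le_card_of_injective i1 inj1
  have c2 := Nat.card_le_card_of_injective i2 inj2
  rw [Nat.card_prod, Nat.card_fin] at c1
  rw [Nat.card_prod, Nat.card_eq_finsetCard] at c2
  exact le_trans c1 c2

/-- Closure table, first half: every member of the closure of the involutions `g i` has a row. -/
theorem table_T1 {K : Type*} [Group K] (g : ℕ → K) (ng n : ℕ) (hg : ∀ i < ng, g i * g i = 1)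
    (R : K → ℕ → Prop) (tb : ℕ → ℕ → ℕ) (j0 : ℕ) (hj0 : j0 < n) (hR0 : R 1 j0)
    (hstep : ∀ i < ng, ∀ j < n, ∀ δ, R δ j → tb j i < n ∧ R (g i * δ) (tb j i))
    (γ : K) (hγ : γ ∈ Subgroup.closure (g '' {i | i < ng})) : ∃ j < n, R γ j := by
  have key : ∀ x ∈ Subgroup.closure (g '' {i | i < ng}),
      (∀ j < n, ∀ δ, R δ j → ∃ j' < n, R (x * δ) j') ∧
      (∀ j < n, ∀ δ, R δ j → ∃ j' < n, R (x⁻¹ * δ) j') := by
    intro x hx
    induction hx using Subgroup.closure_induction with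
    | mem y hy =>
      obtain ⟨i, hi, rfl⟩ := hy
      have h1 : ∀ j < n, ∀ δ, R δ j → ∃ j' < n, R (g i * δ) j' := fun j hj δ hδ =>
        ⟨tb j i, (hstep i hi j hj δ hδ).1, (hstep i hi j hj δ hδ).2⟩
      refine ⟨h1, ?_⟩
      have h2 : (g i)⁻¹ = g i := (eq_inv_of_mul_eq_one_left (hg i hi)).symm
      rw [h2]; exact h1
    | one =>
      exact ⟨fun j hj δ hδ => ⟨j, hj, by rwa [one_mul]⟩,
        fun j hj δ hδ => ⟨j, hj, by rwa [inv_one, one_mul]⟩⟩
    | mul x y _ _ ihx ihy =>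
      refine ⟨fun j hj δ hδ => ?_, fun j hj δ hδ => ?_⟩
      · obtain ⟨j1, h1, e1⟩ := ihy.1 j hj δ hδ
        obtain ⟨j2, h2, e2⟩ := ihx.1 j1 h1 _ e1
        exact ⟨j2, h2, by rwa [mul_assoc]⟩
      · obtain ⟨j1, h1, e1⟩ := ihx.2 j hj δ hδ
        obtain ⟨j2, h2, e2⟩ := ihy.2 j1 h1 _ e1
        exact ⟨j2, h2, by rwa [mul_inv_rev, mul_assoc]⟩
    | inv x _ ih => exact ⟨ih.2, by rw [inv_inv]; exact ih.1⟩
  obtain ⟨j, hj, e⟩ := (key γ hγ).1 j0 hj0 1 hR0
  exact ⟨j, hj, by rwa [mul_one] at e⟩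

/-- Closure table, second half: every row is the row of a member of the closure. -/
theorem table_T2 {K : Type*} [Group K] (g : ℕ → K) (ng n : ℕ)
    (R : K → ℕ → Prop) (tb : ℕ → ℕ → ℕ) (j0 : ℕ) (hR0 : R 1 j0)
    (hstep : ∀ i < ng, ∀ j < n, ∀ δ, R δ j → tb j i < n ∧ R (g i * δ) (tb j i))
    (par gen dep : ℕ → ℕ)
    (htree : ∀ j < n, j ≠ j0 →
      par j < n ∧ gen j < ng ∧ tb (par j) (gen j) = j ∧ dep (par j) < dep j)
    (j : ℕ) (hj : j < n) : ∃ γ ∈ Subgroup.closure (g '' {i | i < ng}), R γ j := by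
  have key : ∀ d, ∀ j < n, dep j = d → ∃ γ ∈ Subgroup.closure (g '' {i | i < ng}), R γ j := by
    intro d
    induction d using Nat.strong_induction_on with
    | _ d ih =>
      intro j hj hd
      by_cases h0 : j = j0
      · subst h0; exact ⟨1, Subgroup.one_mem _, hR0⟩
      · obtain ⟨hp, hg, ht, hdp⟩ := htree j hj h0
        obtain ⟨γ, hγ, hR⟩ := ih (dep (par j)) (hd ▸ hdp) (par j) hp rfl
        have h := (hstep (gen j) hg (par j) hp γ hR).2
        rw [ht] at h
        exact ⟨g (gen j) * γ,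
          Subgroup.mul_mem _ (Subgroup.subset_closure ⟨gen j, hg, rfl⟩) hγ, h⟩
  exact key (dep j) j hj rfl

/-- Distinct rows give distinct members. -/
theorem table_card {K : Type*} [Group K] (Γ : Subgroup K) [Finite Γ] (n : ℕ) (R : K → ℕ → Prop)
    (hT2 : ∀ j < n, ∃ γ ∈ Γ, R γ j)
    (hdist : ∀ γ, ∀ j < n, ∀ j' < n, R γ j → R γ j' → j = j') : n ≤ Nat.card Γ := by
  choose f hf using fun j : Fin n => hT2 j.1 j.2
  have inj : Function.Injective (fun j : Fin n => (⟨f j, (hf j).1⟩ : Γ)) := by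
    intro a b hab
    have e : f a = f b := congrArg Subtype.val hab
    exact Fin.ext (hdist (f a) a.1 a.2 b.1 b.2 (hf a).2 (e ▸ (hf b).2))
  have h := Nat.card_le_card_of_injective _ inj
  rwa [Nat.card_fin] at h

/-- A function increasing at each step below `n` is strictly increasing below `n`. -/
theorem lt_of_step (f : ℕ → ℕ) (n : ℕ) (h : ∀ j, j + 1 < n → f j < f (j + 1)) :
    ∀ j j', j < j' → j' < n → f j < f j' := by
  intro j j' hjj'
  induction j' with
  | zero => exact absurd hjj' (Nat.not_lt_zero _)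
  | succ k ih =>
    intro hk
    rcases Nat.lt_succ_iff_lt_or_eq.mp hjj' with h1 | h1
    · exact lt_trans (ih h1 (by omega)) (h k hk)
    · subst h1; exact h j hk

theorem eq_of_step (f : ℕ → ℕ) (n : ℕ) (h : ∀ j, j + 1 < n → f j < f (j + 1))
    (j j' : ℕ) (hj : j < n) (hj' : j' < n) (e : f j = f j') : j = j' := by
  rcases Nat.lt_trichotomy j j' with h1 | h1 | h1
  · exact absurd e (ne_of_lt (lt_of_step f n h j j' h1 hj'))
  · exact h1
  · exact absurd e.symm (ne_of_lt (lt_of_step f n h j' j h1 hj))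

end Cfsg.Agent.Helper7.HeC
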