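/-
Helper7 library: an abstract criterion for a finite group to have outer automorphism group of
order 2, through a Sylow 17-subgroup `⟨a⟩` that is its own centraliser, an element `t` of its
normaliser acting as squaring, an element `x` inverting `t`, and the centraliser of `t`.
-/
import Mathlib
import Cfsg.Prelude.Def_KGroupFacts

set_option autoImplicit false

namespace Cfsg.Agent.Helper7.HeC

open Cfsg

section
variable {Q : Type*} [Group Q]

theorem conj_pow_two {a t : Q} (h : t * a * t⁻¹ = a ^ 2) (i : ℕ) :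
    t ^ i * a * (t ^ i)⁻¹ = a ^ (2 ^ i) := by
  induction i with
  | zero => simp
  | succ i ih =>
    calc t ^ (i + 1) * a * (t ^ (i + 1))⁻¹ = t ^ i * (t * a * t⁻¹) * (t ^ i)⁻¹ := by
          rw [pow_succ]; group
      _ = (t ^ i * a * (t ^ i)⁻¹) ^ 2 := by rw [h, conj_pow]
      _ = a ^ (2 ^ (i + 1)) := by rw [ih, ← pow_mul, pow_succ]

/-- An automorphism fixing `a` is inner. -/
theorem inner_of_fix17 {a t x : Q} {L : Set Q} (ha : orderOf a = 17) (hta : t * a * t⁻¹ = a ^ 2)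
    (hCa : ∀ c, c * a = a * c → c ∈ Subgroup.zpowers a)
    (hCt : ∀ c, c * t = t * c → c ∈ L)
    (hxt : x * t * x⁻¹ = t⁻¹)
    (hex : ∀ c ∈ L, (a * (x * c)) ^ 8 = 1 → (a ^ 2 * (x * c)) ^ 17 = 1 → c = 1)
    (hax : (a * x) ^ 8 = 1) (hax2 : (a ^ 2 * x) ^ 17 = 1)
    (hgen : Subgroup.closure ({a, t, x} : Set Q) = ⊤)
    (β : MulAut Q) (hβ : β a = a) : β ∈ Inn Q := by
  have h1 : (t⁻¹ * β t) * a = a * (t⁻¹ * β t) := by
    have e : β t * a * (β t)⁻¹ = a ^ 2 := by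
      have := congrArg β hta
      simp only [map_mul, map_inv, map_pow, hβ] at this
      exact this
    calc t⁻¹ * β t * a = t⁻¹ * (β t * a * (β t)⁻¹) * β t := by group
      _ = t⁻¹ * (t * a * t⁻¹) * β t := by rw [e, hta]
      _ = a * (t⁻¹ * β t) := by group
  obtain ⟨n, hn⟩ := Subgroup.mem_zpowers_iff.mp (hCa _ h1)
  have hβt : β t = t * a ^ n := by rw [hn]; group
  have hconj : ∀ m : ℤ, t * a ^ m * t⁻¹ = a ^ (2 * m) := by
    intro m
    have e : t * a ^ m * t⁻¹ = (t * a * t⁻¹) ^ m := (conj_zpow).symm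
    rw [e, hta, ← zpow_natCast, ← zpow_mul]
    norm_num
  have key : a ^ (15 * n) * t * (a ^ (15 * n))⁻¹ = t * a ^ n := by
    have e1 : t * a ^ (16 * n) * t⁻¹ = a ^ (15 * n) := by
      rw [hconj, zpow_eq_zpow_iff_modEq, ha]
      exact (Int.modEq_iff_dvd).mpr ⟨-n, by push_cast; ring⟩
    have e2 : a ^ (15 * n) * t = t * a ^ (16 * n) := by rw [← e1]; group
    have e3 : a ^ (16 * n) * (a ^ (15 * n))⁻¹ = a ^ n := by
      rw [← zpow_neg, ← zpow_add]
      congr 1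
      ring
    rw [e2, mul_assoc, e3]
  have hγa : MulAut.conj (a ^ (15 * n)) a = a := by
    have hc : Commute (a ^ (15 * n)) a := (Commute.refl a).zpow_left _
    rw [MulAut.conj_apply, hc.eq, mul_inv_cancel_right]
  have hγt : MulAut.conj (a ^ (15 * n)) t = β t := by
    rw [hβt, MulAut.conj_apply]; exact key
  have hβ'a : ((MulAut.conj (a ^ (15 * n)))⁻¹ * β) a = a := by
    show (MulAut.conj (a ^ (15 * n)))⁻¹ (β a) = a
    rw [hβ]
    have h := MulAut.inv_apply_self Q (MulAut.conj (a ^ (15 * n))) a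
    rwa [hγa] at h
  have hβ't : ((MulAut.conj (a ^ (15 * n)))⁻¹ * β) t = t := by
    show (MulAut.conj (a ^ (15 * n)))⁻¹ (β t) = t
    rw [← hγt]
    exact MulAut.inv_apply_self Q _ _
  generalize hβ' : (MulAut.conj (a ^ (15 * n)))⁻¹ * β = β' at hβ'a hβ't
  have h3 : (x⁻¹ * β' x) * t = t * (x⁻¹ * β' x) := by
    have e : β' x * t * (β' x)⁻¹ = t⁻¹ := by
      have := congrArg β' hxt
      simp only [map_mul, map_inv, hβ't] at this
      exact this
    have e2 : x⁻¹ * t⁻¹ * x = t := by rw [← hxt]; group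
    calc x⁻¹ * β' x * t = x⁻¹ * (β' x * t * (β' x)⁻¹) * β' x := by group
      _ = (x⁻¹ * t⁻¹ * x) * (x⁻¹ * β' x) := by rw [e]; group
      _ = t * (x⁻¹ * β' x) := by rw [e2]
  have hcL := hCt _ h3
  have hβ'x : β' x = x * (x⁻¹ * β' x) := by group
  have h4 : (a * (x * (x⁻¹ * β' x))) ^ 8 = 1 := by
    have := congrArg β' hax
    simp only [map_pow, map_mul, map_one, hβ'a] at this
    rw [← hβ'x]
    exact this
  have h4' : (a ^ 2 * (x * (x⁻¹ * β' x))) ^ 17 = 1 := by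
    have := congrArg β' hax2
    simp only [map_pow, map_mul, map_one, hβ'a] at this
    rw [← hβ'x]
    exact this
  have h5 := hex _ hcL h4 h4'
  have hβ'x' : β' x = x := by rw [hβ'x, h5, mul_one]
  have h6 : β' = 1 := by
    have e : (β' : Q →* Q) = MonoidHom.id Q := MonoidHom.eq_of_eqOn_dense hgen (by
      intro y hy
      simp only [Set.mem_insert_iff, Set.mem_singleton_iff] at hy
      rcases hy with rfl | rfl | rfl
      · exact hβ'a
      · exact hβ't
      · exact hβ'x')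
    ext y
    exact DFunLike.congr_fun e y
  have h7 : β = MulAut.conj (a ^ (15 * n)) := by
    rw [← hβ'] at h6
    exact (inv_mul_eq_one.mp h6).symm
  rw [h7]
  exact ⟨a ^ (15 * n), rfl⟩

theorem two_pow_mul_cases : ∀ r : ZMod 17, r ≠ 0 →
    ∃ i : Fin 8, (2 : ZMod 17) ^ (i : ℕ) * r = 1 ∨ (2 : ZMod 17) ^ (i : ℕ) * r = 3 := by
  decide

/-- Every automorphism is, up to an inner one, an automorphism fixing or cubing `a`. -/
theorem exists_inner_mul17 [Finite Q] {a t : Q} (hcard : (Nat.card Q).factorization 17 = 1)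
    (ha : orderOf a = 17) (hta : t * a * t⁻¹ = a ^ 2) (α : MulAut Q) :
    ∃ g : Q, (MulAut.conj g * α) a = a ∨ (MulAut.conj g * α) a = a ^ 3 := by
  have : Fact (Nat.Prime 17) := ⟨by norm_num⟩
  have hP : Nat.card (Subgroup.zpowers a) = 17 := by rw [Nat.card_zpowers, ha]
  have hP' : Nat.card ((Subgroup.zpowers a).map (α : Q →* Q)) = 17 := by
    rw [Subgroup.card_map_of_injective α.injective, hP]
  let S₁ : Sylow 17 Q := Sylow.ofCard (Subgroup.zpowers a) (by rw [hP, hcard, pow_one])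
  let S₂ : Sylow 17 Q := Sylow.ofCard ((Subgroup.zpowers a).map (α : Q →* Q))
    (by rw [hP', hcard, pow_one])
  obtain ⟨g, hg⟩ := MulAction.exists_smul_eq Q S₁ S₂
  have hmem : α a ∈ (S₂ : Subgroup Q) :=
    Subgroup.mem_map_of_mem _ (Subgroup.mem_zpowers a)
  rw [← hg, Sylow.coe_subgroup_smul, Subgroup.mem_pointwise_smul_iff_inv_smul_mem] at hmem
  have hmem' : g⁻¹ * α a * g ∈ Subgroup.zpowers a := by
    have e : (MulAut.conj g)⁻¹ • α a = g⁻¹ * α a * g := by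
      rw [← map_inv, MulAut.smul_def, MulAut.conj_apply, inv_inv]
    rw [← e]; exact hmem
  obtain ⟨n, hn⟩ := Subgroup.mem_zpowers_iff.mp hmem'
  have ha1 : a ≠ 1 := by
    intro h; rw [h, orderOf_one] at ha; norm_num at ha
  have hn0 : ((n : ℤ) : ZMod 17) ≠ 0 := by
    intro h
    have hd : (17 : ℤ) ∣ n := (ZMod.intCast_zmod_eq_zero_iff_dvd n 17).mp h
    have h1 : a ^ n = 1 := by
      have : ((orderOf a : ℕ) : ℤ) ∣ n := by rw [ha]; exact hd
      exact orderOf_dvd_iff_zpow_eq_one.mp this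
    rw [h1] at hn
    have h2 : α a = 1 := by
      have : α a = g * (g⁻¹ * α a * g) * g⁻¹ := by group
      rw [this, ← hn]; group
    exact ha1 (by simpa using h2)
  obtain ⟨i, hi⟩ := two_pow_mul_cases _ hn0
  refine ⟨t ^ (i : ℕ) * g⁻¹, ?_⟩
  have e1 : (MulAut.conj (t ^ (i : ℕ) * g⁻¹) * α) a = a ^ (((2 ^ (i : ℕ) : ℕ) : ℤ) * n) := by
    rw [MulAut.mul_apply, MulAut.conj_apply]
    calc t ^ (i : ℕ) * g⁻¹ * α a * (t ^ (i : ℕ) * g⁻¹)⁻¹
        = t ^ (i : ℕ) * (g⁻¹ * α a * g) * (t ^ (i : ℕ))⁻¹ := by group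
      _ = (t ^ (i : ℕ) * a * (t ^ (i : ℕ))⁻¹) ^ n := by rw [← hn, conj_zpow]
      _ = a ^ (((2 ^ (i : ℕ) : ℕ) : ℤ) * n) := by
          rw [conj_pow_two hta, ← zpow_natCast, ← zpow_mul]
  rw [e1]
  rcases hi with hi | hi
  · left
    have : a ^ (((2 ^ (i : ℕ) : ℕ) : ℤ) * n) = a ^ (1 : ℤ) := by
      rw [zpow_eq_zpow_iff_modEq, ha]
      apply (ZMod.intCast_eq_intCast_iff _ _ 17).mp
      push_cast
      exact hi
    rw [this, zpow_one]
  · right
    have : a ^ (((2 ^ (i : ℕ) : ℕ) : ℤ) * n) = a ^ (3 : ℤ) := by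
      rw [zpow_eq_zpow_iff_modEq, ha]
      apply (ZMod.intCast_eq_intCast_iff _ _ 17).mp
      push_cast
      exact hi
    rw [this]
    exact zpow_ofNat a 3

/-- The criterion. -/
theorem card_out_abs17 [Finite Q] {a t x : Q} {L : Set Q}
    (hcard : (Nat.card Q).factorization 17 = 1)
    (ha : orderOf a = 17) (hta : t * a * t⁻¹ = a ^ 2)
    (hCa : ∀ c, c * a = a * c → c ∈ Subgroup.zpowers a)
    (hCt : ∀ c, c * t = t * c → c ∈ L)
    (hxt : x * t * x⁻¹ = t⁻¹)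
    (hex : ∀ c ∈ L, (a * (x * c)) ^ 8 = 1 → (a ^ 2 * (x * c)) ^ 17 = 1 → c = 1)
    (hax : (a * x) ^ 8 = 1) (hax2 : (a ^ 2 * x) ^ 17 = 1)
    (hgen : Subgroup.closure ({a, t, x} : Set Q) = ⊤)
    (φ : MulAut Q) (hφ : φ ∉ Inn Q) : Nat.card (Out Q) = 2 := by
  have fixInn := inner_of_fix17 ha hta hCa hCt hxt hex hax hax2 hgen
  have key : ∀ α : MulAut Q, α ∉ Inn Q → ∃ g : Q, (MulAut.conj g * α) a = a ^ 3 := by
    intro α hα
    obtain ⟨g, h | h⟩ := exists_inner_mul17 hcard ha hta α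
    · exfalso
      apply hα
      have h1 := fixInn _ h
      have hg : MulAut.conj g ∈ Inn Q := ⟨g, rfl⟩
      have h2 := (Inn Q).mul_mem ((Inn Q).inv_mem hg) h1
      rwa [inv_mul_cancel_left] at h2
    · exact ⟨g, h⟩
  have pair : ∀ α β : MulAut Q, α ∉ Inn Q → β ∉ Inn Q → α⁻¹ * β ∈ Inn Q := by
    intro α β hα hβ
    obtain ⟨g, hg⟩ := key α hα
    obtain ⟨g', hg'⟩ := key β hβ
    have h : ((MulAut.conj g * α)⁻¹ * (MulAut.conj g' * β)) a = a := by
      show (MulAut.conj g * α)⁻¹ ((MulAut.conj g' * β) a) = a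
      rw [hg', ← hg]
      exact MulAut.inv_apply_self Q _ _
    have h1 := fixInn _ h
    have hq : ∀ g : Q, (QuotientGroup.mk (MulAut.conj g) : MulAut Q ⧸ Inn Q) = 1 := fun g =>
      (QuotientGroup.eq_one_iff _).mpr ⟨g, rfl⟩
    have h2 : (QuotientGroup.mk ((MulAut.conj g * α)⁻¹ * (MulAut.conj g' * β)) :
        MulAut Q ⧸ Inn Q) = 1 := (QuotientGroup.eq_one_iff _).mpr h1
    rw [QuotientGroup.mk_mul, QuotientGroup.mk_inv, QuotientGroup.mk_mul, QuotientGroup.mk_mul,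
      hq, hq, one_mul, one_mul, ← QuotientGroup.mk_inv, ← QuotientGroup.mk_mul] at h2
    exact (QuotientGroup.eq_one_iff _).mp h2
  have hφ1 : (QuotientGroup.mk φ : Out Q) ≠ 1 := by
    rwa [Ne, QuotientGroup.eq_one_iff]
  rw [Nat.card_eq_two_iff' (1 : Out Q)]
  refine ⟨QuotientGroup.mk φ, hφ1, ?_⟩
  intro y hy
  obtain ⟨α, rfl⟩ := QuotientGroup.mk_surjective y
  have hα : α ∉ Inn Q := by rwa [Ne, QuotientGroup.eq_one_iff] at hy
  exact QuotientGroup.eq.mpr (pair α φ hα hφ)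

end

end Cfsg.Agent.Helper7.HeC
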