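/-
Helper7 library: the involution `e` of the group `He`: its order, seven involutions commuting
with it, and the bound 21504 for the order of its centraliser, from 945 conjugates of `e` fixing
a point of the permutation representation on 8330 points, each conjugate having at most 42 fixed
points.
-/
import Cfsg.Agent.Helper7.HeChk1
import Cfsg.Agent.Helper7.HeGen

set_option autoImplicit false

namespace Cfsg.Agent.Helper7.HeC

open Cfsg.Agent.Helper28

theorem walkA_append (T : ℕ → ℕ → ℕ) (l1 l2 : List ℕ) (i : ℕ) :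
    walkA T (l1 ++ l2) i = walkA T l1 (walkA T l2 i) := by
  induction l1 with
  | nil => rfl
  | cons a l ih => rw [List.cons_append, walkA_cons, walkA_cons, ih]

/-- the image of the point `b` under `x` -/
noncomputable def pt (x : Cfsg.Spor.He) (b : ℕ) : ℕ :=
  if h : b < 8330 then ((HEN.cert.perm x ⟨b, h⟩ : Fin 8330) : ℕ) else b

theorem pt_of_lt (x : Cfsg.Spor.He) {b : ℕ} (hb : b < 8330) :
    pt x b = ((HEN.cert.perm x ⟨b, hb⟩ : Fin 8330) : ℕ) := dif_pos hb

theorem pt_of_ge (x : Cfsg.Spor.He) {b : ℕ} (hb : ¬ b < 8330) : pt x b = b := dif_neg hb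

theorem pt_lt (x : Cfsg.Spor.He) {b : ℕ} (hb : b < 8330) : pt x b < 8330 := by
  rw [pt_of_lt x hb]
  exact Fin.isLt _

theorem pt_one (b : ℕ) : pt 1 b = b := by
  by_cases h : b < 8330
  · rw [pt_of_lt _ h, map_one]; rfl
  · exact pt_of_ge _ h

theorem pt_mul (x y : Cfsg.Spor.He) (b : ℕ) : pt (x * y) b = pt x (pt y b) := by
  by_cases h : b < 8330
  · rw [pt_of_lt _ h, pt_of_lt y h, pt_of_lt x (Fin.isLt _), map_mul, Equiv.Perm.mul_apply]
  · rw [pt_of_ge _ h, pt_of_ge y h, pt_of_ge x h]

theorem pt_wv (l : List ℕ) (hl : letChk HEN.D.jc l = true) {b : ℕ} (hb : b < 8330) :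
    pt (HE.wv l) b = walkA HEN.T l b := by
  rw [pt_of_lt _ hb]
  exact HEN.cert.perm_list l ((letChk_iff _ _).mp hl) ⟨b, hb⟩

theorem ov3_zero : HENL.ov3 0 = 9 := by decide +kernel
theorem ov2_zero : HENL.ov2 0 = 111 := by decide +kernel

theorem eq_one_of_base (x : Cfsg.Spor.He) (h9 : pt x 9 = 9) (h111 : pt x 111 = 111)
    (h0 : pt x 0 = 0) : x = 1 := by
  have hmem : x ∈ fixSub HEN.cert.perm [HENL.ov3 0, HENL.ov2 0, 0] := by
    intro b hb i hi
    apply Fin.ext
    have hp := pt_of_lt x i.2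
    rw [← hp, hi]
    rw [ov3_zero, ov2_zero] at hb
    simp only [List.mem_cons, List.not_mem_nil, or_false] at hb
    rcases hb with rfl | rfl | rfl
    · exact h9
    · exact h111
    · exact h0
  rw [HE.fix_bot] at hmem
  exact Subgroup.mem_bot.mp hmem

/-- the involution -/
noncomputable abbrev zE : Cfsg.Spor.He := HE.wv [4]

theorem wv_nil : HE.wv [] = 1 := rfl

theorem zE_sq : zE * zE = 1 := by
  rw [← HE.wv_append, ← wv_nil]
  exact HE.wv_eq _ _ (by decide +kernel) (by decide +kernel) (by decide +kernel)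

theorem zE_ne : zE ≠ 1 := by
  intro h
  have h' : HE.wv [4] = 1 := h
  have h9 := pt_wv [4] (by decide +kernel) (b := 9) (by norm_num)
  rw [h', pt_one] at h9
  exact absurd h9 (by decide +kernel)

theorem zE_order : orderOf zE = 2 :=
  orderOf_eq_prime (by rw [pow_two]; exact zE_sq) zE_ne

/-- the seven generators of the centraliser -/
noncomputable def cG (i : ℕ) : Cfsg.Spor.He := HE.wv (WW i)

theorem WW_let (i : ℕ) (hi : i < 7) : letChk HEN.D.jc (WW i) = true := by
  interval_cases i <;> decide +kernel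

theorem cG_sq (i : ℕ) (hi : i < 7) : cG i * cG i = 1 := by
  unfold cG
  rw [← HE.wv_append, ← wv_nil]
  interval_cases i <;>
    exact HE.wv_eq _ _ (by decide +kernel) (by decide +kernel) (by decide +kernel)

theorem cG_comm (i : ℕ) (hi : i < 7) : zE * cG i = cG i * zE := by
  unfold cG
  rw [← HE.wv_append, ← HE.wv_append]
  interval_cases i <;>
    exact HE.wv_eq _ _ (by decide +kernel) (by decide +kernel) (by decide +kernel)

theorem cG_mem (i : ℕ) (hi : i < 7) : cG i ∈ Subgroup.centralizer ({zE} : Set Cfsg.Spor.He) := by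
  rw [Subgroup.mem_centralizer_iff]
  intro h hh
  rw [Set.mem_singleton_iff] at hh
  subst hh
  exact cG_comm i hi

theorem fix_all (i : ℕ) (hi : i < 8330) : fixChk i = true := by
  refine rgF_cover fixChk 10 9 (fun k hk => ?_) i (by norm_num; omega)
  interval_cases k
  · exact fix_0
  · exact fix_1
  · exact fix_2
  · exact fix_3
  · exact fix_4
  · exact fix_5
  · exact fix_6
  · exact fix_7
  · exact fix_8

theorem mem_fixL {i : ℕ} (hi : i < 8330) (h : HEN.T 4 i = i) : i ∈ fixL := by
  have hc := fix_all i hi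
  unfold fixChk at hc
  rw [Bool.or_eq_true, Bool.or_eq_true] at hc
  rcases hc with hc | hc | hc
  · exact absurd (Nat.le_of_ble_eq_true hc) (by omega)
  · rw [h, Nat.beq_refl] at hc
    exact absurd hc (by decide)
  · exact fixChk.listAny_mem _ _ hc

theorem conj_eq (P : List ℕ) (hP : letChk HEN.D.jc P = true) {b : ℕ} (hb : b < 8330) :
    pt (HE.wv P * zE * (HE.wv P)⁻¹) b = cwalk P b := by
  have hrev : letChk HEN.D.jc P.reverse = true := by
    rw [letChk_iff] at hP ⊢
    intro a ha
    exact hP a (List.mem_reverse.mp ha)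
  rw [← HE.wv_reverse P hP, pt_mul, pt_mul, pt_wv _ hrev hb,
    pt_wv [4] (by decide +kernel) (lt_of_eq_of_lt (pt_wv _ hrev hb).symm (pt_lt _ hb)),
    pt_wv P hP]
  · unfold cwalk
    rw [walkA_cons, walkA_nil]
  · have h1 : pt zE (pt (HE.wv P.reverse) b) < 8330 := pt_lt _ (pt_lt _ hb)
    rw [pt_wv _ hrev hb, pt_wv [4] (by decide +kernel)
      (lt_of_eq_of_lt (pt_wv _ hrev hb).symm (pt_lt _ hb))] at h1
    exact h1

theorem card_centE_le : Nat.card (Subgroup.centralizer ({zE} : Set Cfsg.Spor.He)) ≤ 21504 := by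
  have := HE.finite
  obtain ⟨hc1, hc2⟩ := conjChk_spec conjP 0 conj_ok
  have hlen := conjP_length
  have hidx : ∀ j : Fin 945, j.1 < conjP.length := fun j => by rw [hlen]; exact j.2
  let g : Fin 945 → Cfsg.Spor.He := fun j => HE.wv (conjP[j.1]'(hidx j))
  have hP : ∀ j : Fin 945, letChk HEN.D.jc (conjP[j.1]'(hidx j)) = true ∧
      cwalk (conjP[j.1]'(hidx j)) 0 = 0 := fun j =>
    ⟨(hc1 _ (List.getElem_mem _)).1, (hc1 _ (List.getElem_mem _)).2.1⟩
  have hcj : ∀ (j : Fin 945) (b : ℕ), b < 8330 →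
      pt (g j * zE * (g j)⁻¹) b = cwalk (conjP[j.1]'(hidx j)) b :=
    fun j b hb => conj_eq _ (hP j).1 hb
  have hfix : ∀ j : Fin 945, HEN.cert.perm (g j * zE * (g j)⁻¹) (⟨0, by norm_num⟩ : Fin 8330)
      = ⟨0, by norm_num⟩ := by
    intro j
    apply Fin.ext
    rw [← pt_of_lt _ (by norm_num : 0 < 8330), hcj j 0 (by norm_num)]
    exact (hP j).2
  have hnd : (conjP.map conjCode).Nodup := hc2.imp (fun h => ne_of_lt h)
  have hinj : Function.Injective (fun j : Fin 945 => g j * zE * (g j)⁻¹) := by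
    intro a b hab
    have hab' : g a * zE * (g a)⁻¹ = g b * zE * (g b)⁻¹ := hab
    have h9 := hcj a 9 (by norm_num)
    have h111 := hcj a 111 (by norm_num)
    rw [hab', hcj b 9 (by norm_num)] at h9
    rw [hab', hcj b 111 (by norm_num)] at h111
    have hcode : conjCode (conjP[a.1]'(hidx a)) = conjCode (conjP[b.1]'(hidx b)) := by
      unfold conjCode
      rw [h9, h111]
    have hla : a.1 < (conjP.map conjCode).length := by rw [List.length_map]; exact hidx a
    have hlb : b.1 < (conjP.map conjCode).length := by rw [List.length_map]; exact hidx b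
    have hget : (conjP.map conjCode)[a.1]'hla = (conjP.map conjCode)[b.1]'hlb := by
      rw [List.getElem_map, List.getElem_map]
      exact hcode
    exact Fin.ext ((hnd.getElem_inj_iff (hi := hla) (hj := hlb)).mp hget)
  let F : Finset (Fin 8330) :=
    (fixL.map (fun b => (⟨b % 8330, Nat.mod_lt _ (by norm_num)⟩ : Fin 8330))).toFinset
  have hF : ∀ p : Fin 8330, HEN.cert.perm zE p = p → p ∈ F := by
    intro p hp
    have h5 : pt zE p.1 = p.1 := by
      rw [pt_of_lt _ p.2, Fin.eta, hp]
    have h1 := pt_wv [4] (by decide +kernel) p.2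
    have h2 : HEN.T 4 p.1 = p.1 := by
      rw [walkA_cons, walkA_nil] at h1
      rw [← h1]
      exact h5
    have h4 := mem_fixL p.2 h2
    exact List.mem_toFinset.mpr (List.mem_map.mpr ⟨p.1, h4, Fin.ext (Nat.mod_eq_of_lt p.2)⟩)
  have hFc : F.card ≤ 42 := by
    refine le_trans (List.toFinset_card_le _) ?_
    rw [List.length_map]
    exact le_of_eq (by decide)
  have hSt : ∀ x : Cfsg.Spor.He, HEN.cert.perm x (⟨0, by norm_num⟩ : Fin 8330) = ⟨0, by norm_num⟩ →
      x ∈ fixSub HEN.cert.perm [0] := by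
    intro x hx b hb i hi
    rw [List.mem_singleton] at hb
    have hi0 : i = ⟨0, by norm_num⟩ := Fin.ext (by rw [hi, hb])
    rw [hi0]
    exact hx
  have hStc : Nat.card (fixSub HEN.cert.perm [0]) ≤ 483840 := by
    have h := HEN.cert.lb_top
    rw [HE.card_eq] at h
    omega
  have key := card_centralizer_mul_le HEN.cert.perm zE (⟨0, by norm_num⟩ : Fin 8330)
    (fixSub HEN.cert.perm [0]) hSt F hF 945 g hfix hinj
  have h2 : 945 * Nat.card (Subgroup.centralizer ({zE} : Set Cfsg.Spor.He)) ≤ 42 * 483840 :=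
    le_trans key (Nat.mul_le_mul hFc hStc)
  omega

end Cfsg.Agent.Helper7.HeC
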