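/-
Helper7 library: a verified scan for the elements `y` of the group `He` with `y * b = b' * y`,
where `b` maps the base points `0 → 111 → 9` of the stabiliser chain of helper28: such a `y` is
determined by the image `q` of the point `0`, and for each `q` the chain either shows that no
element of the group has the required images of the base points, or produces the only candidate,
which is then tested at one more point.
-/
import Cfsg.Agent.Helper7.HeSide

set_option autoImplicit false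

namespace Cfsg.Agent.Helper7.HeC

open Cfsg.Agent.Helper28

/-! ### points and stabilisers -/

theorem pt_inv_cancel (x : Cfsg.Spor.He) (p : ℕ) : pt x⁻¹ (pt x p) = p := by
  rw [← pt_mul, inv_mul_cancel, pt_one]

theorem pt_cancel_inv (x : Cfsg.Spor.He) (p : ℕ) : pt x (pt x⁻¹ p) = p := by
  rw [← pt_mul, mul_inv_cancel, pt_one]

theorem mem_fixSub_of_pt (x : Cfsg.Spor.He) (bs : List ℕ) (h : ∀ b ∈ bs, pt x b = b) :
    x ∈ fixSub HEN.cert.perm bs := by
  intro b hb i hi
  apply Fin.ext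
  have hp := pt_of_lt x i.2
  rw [← hp, hi]
  exact h b hb

theorem pt_of_mem_fixSub {x : Cfsg.Spor.He} {bs : List ℕ} (h : x ∈ fixSub HEN.cert.perm bs)
    {b : ℕ} (hb : b ∈ bs) (hlt : b < 8330) : pt x b = b := by
  rw [pt_of_lt x hlt]
  exact congrArg Fin.val (h b hb ⟨b, hlt⟩ rfl)

theorem pt_gv (k : ℕ) (hk : k < HEN.D.jc) {p : ℕ} (hp : p < 8330) :
    pt (HE.gv k) p = HEN.T k p := by
  rw [pt_of_lt _ hp]
  exact HEN.cert.perm_val k hk ⟨p, hp⟩

theorem pt_wv' (l : List ℕ) (hl : ∀ a ∈ l, a < HEN.D.jc) {b : ℕ} (hb : b < 8330) :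
    pt (HE.wv l) b = walkA HEN.T l b :=
  pt_wv l ((letChk_iff _ _).mpr hl) hb

/-! ### the first level: coset representatives of the point stabiliser -/

/-- the image of `p` under the inverse of the representative of the point `q` -/
noncomputable def uinvF (fuel : ℕ) : ℕ → ℕ → ℕ :=
  Nat.rec (motive := fun _ => ℕ → ℕ → ℕ) (fun _ p => p)
    (fun _ ih q p => cond (Nat.beq q 0) p (ih (HEN.ftp q) (HEN.T (HEN.ftc q) p))) fuel

/-- the image of `p` under the representative of the point `q` -/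
noncomputable def ufwdF (fuel : ℕ) : ℕ → ℕ → ℕ :=
  Nat.rec (motive := fun _ => ℕ → ℕ → ℕ) (fun _ p => p)
    (fun _ ih q p => cond (Nat.beq q 0) p (HEN.T (HEN.ftc q) (ih (HEN.ftp q) p))) fuel

theorem uinvF_succ (f q p : ℕ) : uinvF (f + 1) q p =
    cond (Nat.beq q 0) p (uinvF f (HEN.ftp q) (HEN.T (HEN.ftc q) p)) := rfl

theorem ufwdF_succ (f q p : ℕ) : ufwdF (f + 1) q p =
    cond (Nat.beq q 0) p (HEN.T (HEN.ftc q) (ufwdF f (HEN.ftp q) p)) := rfl

theorem beq_zero_false {q : ℕ} (h : q ≠ 0) : Nat.beq q 0 = false := by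
  cases hb : Nat.beq q 0 with
  | false => rfl
  | true => exact absurd (Nat.eq_of_beq_eq_true hb) h

theorem tree_facts {q : ℕ} (hq : q < 8330) (h0 : q ≠ 0) :
    HEN.ftc q < HEN.D.jc ∧ HEN.ftp q < q ∧ HEN.T (HEN.ftc q) (HEN.ftp q) = q := by
  have h := HEN.fin_all q hq
  unfold finPt at h
  rw [Bool.and_eq_true] at h
  have h2 := h.2
  rw [beq_zero_false h0] at h2
  simp only [cond_false, Bool.and_eq_true] at h2
  exact ⟨Nat.blt_eq.mp h2.1, Nat.blt_eq.mp h2.2.1, Nat.eq_of_beq_eq_true h2.2.2⟩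

theorem lvl1 (fuel : ℕ) : ∀ q, q ≤ fuel → q < 8330 →
    ∃ x : Cfsg.Spor.He, (∀ p, p < 8330 → pt x p = ufwdF fuel q p) ∧
      (∀ p, p < 8330 → pt x⁻¹ p = uinvF fuel q p) ∧ pt x 0 = q := by
  induction fuel with
  | zero =>
    intro q hq _
    have hq0 : q = 0 := Nat.le_zero.mp hq
    subst hq0
    exact ⟨1, fun p _ => pt_one p, fun p _ => by rw [inv_one]; exact pt_one p, pt_one 0⟩
  | succ f ih =>
    intro q hq hlt
    by_cases h0 : q = 0
    · subst h0
      exact ⟨1, fun p _ => pt_one p, fun p _ => by rw [inv_one]; exact pt_one p, pt_one 0⟩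
    · obtain ⟨hk, hpar, hT⟩ := tree_facts hlt h0
      obtain ⟨x', f1, f2, f3⟩ := ih (HEN.ftp q) (by omega) (by omega)
      have hinv : (HE.gv (HEN.ftc q))⁻¹ = HE.gv (HEN.ftc q) :=
        inv_of_sq _ (HEN.cert.valInv _ (le_of_lt hk))
      refine ⟨HE.gv (HEN.ftc q) * x', fun p hp => ?_, fun p hp => ?_, ?_⟩
      · rw [pt_mul, pt_gv _ hk (pt_lt _ hp), f1 p hp, ufwdF_succ, beq_zero_false h0]
        rfl
      · have hp' : HEN.T (HEN.ftc q) p < 8330 := by
          rw [← pt_gv _ hk hp]; exact pt_lt _ hp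
        rw [mul_inv_rev, pt_mul, hinv, pt_gv _ hk hp, f2 _ hp', uinvF_succ, beq_zero_false h0]
        rfl
      · rw [pt_mul, f3, pt_gv _ hk (by omega), hT]

/-! ### the other levels: orbits of the stabilisers -/

/-- the image of `p` under the inverse of the representative of the orbit point number `t` -/
noncomputable def vinvF (W : List (List ℕ)) (otp otw : ℕ → ℕ) (fuel : ℕ) : ℕ → ℕ → ℕ :=
  Nat.rec (motive := fun _ => ℕ → ℕ → ℕ) (fun _ p => p)
    (fun _ ih t p => cond (Nat.beq t 0) p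
      (ih (otp t) (walkA HEN.T (nthL W (otw t)).reverse p))) fuel

/-- the image of `p` under the representative of the orbit point number `t` -/
noncomputable def vfwdF (W : List (List ℕ)) (otp otw : ℕ → ℕ) (fuel : ℕ) : ℕ → ℕ → ℕ :=
  Nat.rec (motive := fun _ => ℕ → ℕ → ℕ) (fun _ p => p)
    (fun _ ih t p => cond (Nat.beq t 0) p
      (walkA HEN.T (nthL W (otw t)) (ih (otp t) p))) fuel

theorem vinvF_succ (W : List (List ℕ)) (otp otw : ℕ → ℕ) (f t p : ℕ) :
    vinvF W otp otw (f + 1) t p = cond (Nat.beq t 0) p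
      (vinvF W otp otw f (otp t) (walkA HEN.T (nthL W (otw t)).reverse p)) := rfl

theorem vfwdF_succ (W : List (List ℕ)) (otp otw : ℕ → ℕ) (f t p : ℕ) :
    vfwdF W otp otw (f + 1) t p = cond (Nat.beq t 0) p
      (walkA HEN.T (nthL W (otw t)) (vfwdF W otp otw f (otp t) p)) := rfl

/-- the facts checked by `fixChk` and `lbPt` -/
theorem lb_facts (bs : List ℕ) (W : List (List ℕ)) (m : ℕ) (ov op otp otw : ℕ → ℕ)
    (hW : Cfsg.Agent.Helper28.fixChk HEN.T HEN.D.jc W bs = true)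
    (hO : ∀ t, t < m → lbPt HEN.T 8330 W ov op otp otw t = true) :
    (∀ t, t < m → ov t < 8330 ∧ op (ov t) = t) ∧
    (∀ t, 0 < t → t < m → otp t < t ∧ walkA HEN.T (nthL W (otw t)) (ov (otp t)) = ov t) ∧
    (∀ i, (∀ a ∈ nthL W i, a < HEN.D.jc) ∧ ∀ b ∈ bs, walkA HEN.T (nthL W i) b = b) := by
  refine ⟨?_, ?_, ?_⟩
  · intro t ht
    have := hO t ht
    unfold lbPt at this
    simp only [Bool.and_eq_true] at this
    exact ⟨Nat.blt_eq.mp this.1, Nat.eq_of_beq_eq_true this.2.1⟩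
  · intro t ht0 ht
    have := hO t ht
    unfold lbPt at this
    simp only [Bool.and_eq_true] at this
    have h4 := this.2.2
    rw [beq_zero_false (Nat.pos_iff_ne_zero.mp ht0)] at h4
    simp only [cond_false, Bool.and_eq_true] at h4
    exact ⟨Nat.blt_eq.mp h4.1, Nat.eq_of_beq_eq_true h4.2⟩
  · intro i
    rcases nthL_mem_or W i with hnil | hmem
    · rw [hnil]
      exact ⟨fun a ha => absurd ha (by simp), fun b _ => rfl⟩
    · have := (listAll_iff _ _).mp hW _ hmem
      rw [Bool.and_eq_true] at this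
      exact ⟨fun a ha => Nat.blt_eq.mp ((listAll_iff _ _).mp this.1 a ha),
        fun b hb => Nat.eq_of_beq_eq_true ((listAll_iff _ _).mp this.2 b hb)⟩

theorem lvl (bs : List ℕ) (hbs : ∀ b ∈ bs, b < 8330) (W : List (List ℕ)) (m : ℕ)
    (ov op otp otw : ℕ → ℕ)
    (hW : Cfsg.Agent.Helper28.fixChk HEN.T HEN.D.jc W bs = true)
    (hO : ∀ t, t < m → lbPt HEN.T 8330 W ov op otp otw t = true) (hm : 0 < m) (fuel : ℕ) :
    ∀ t, t ≤ fuel → t < m → ∃ x ∈ fixSub HEN.cert.perm bs,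
      (∀ p, p < 8330 → pt x p = vfwdF W otp otw fuel t p) ∧
      (∀ p, p < 8330 → pt x⁻¹ p = vinvF W otp otw fuel t p) ∧ pt x (ov 0) = ov t := by
  obtain ⟨h1, h3, hWl⟩ := lb_facts bs W m ov op otp otw hW hO
  induction fuel with
  | zero =>
    intro t ht _
    have ht0 : t = 0 := Nat.le_zero.mp ht
    subst ht0
    exact ⟨1, Subgroup.one_mem _, fun p _ => pt_one p, fun p _ => by rw [inv_one]; exact pt_one p,
      pt_one _⟩
  | succ f ih =>
    intro t ht hlt
    by_cases h0 : t = 0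
    · subst h0
      exact ⟨1, Subgroup.one_mem _, fun p _ => pt_one p,
        fun p _ => by rw [inv_one]; exact pt_one p, pt_one _⟩
    · obtain ⟨hpar, hwalk⟩ := h3 t (Nat.pos_of_ne_zero h0) hlt
      obtain ⟨x', hx', f1, f2, f3⟩ := ih (otp t) (by omega) (by omega)
      obtain ⟨hlet, hfixb⟩ := hWl (otw t)
      have hletc : letChk HEN.D.jc (nthL W (otw t)) = true := (letChk_iff _ _).mpr hlet
      have hrev : ∀ a ∈ (nthL W (otw t)).reverse, a < HEN.D.jc :=
        fun a ha => hlet a (List.mem_reverse.mp ha)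
      have hmem : HE.wv (nthL W (otw t)) ∈ fixSub HEN.cert.perm bs := by
        apply mem_fixSub_of_pt
        intro b hb
        rw [pt_wv' _ hlet (hbs b hb)]
        exact hfixb b hb
      refine ⟨HE.wv (nthL W (otw t)) * x', Subgroup.mul_mem _ hmem hx',
        fun p hp => ?_, fun p hp => ?_, ?_⟩
      · rw [pt_mul, pt_wv' _ hlet (pt_lt _ hp), f1 p hp, vfwdF_succ, beq_zero_false h0]
        rfl
      · have hp' : walkA HEN.T (nthL W (otw t)).reverse p < 8330 := by
          rw [← pt_wv' _ hrev hp]; exact pt_lt _ hp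
        rw [mul_inv_rev, pt_mul, ← HE.wv_reverse _ hletc, pt_wv' _ hrev hp, f2 _ hp', vinvF_succ,
          beq_zero_false h0]
        rfl
      · rw [pt_mul, f3, pt_wv' _ hlet (h1 _ (by omega)).1, hwalk]

/-- The orbit of the point `ov 0` under the stabiliser of `bs` is the list `ov`, when the order
of the stabiliser is small enough. -/
theorem orbit_exact (bs : List ℕ) (hbs : ∀ b ∈ bs, b < 8330) (W : List (List ℕ)) (m : ℕ)
    (ov op otp otw : ℕ → ℕ)
    (hW : Cfsg.Agent.Helper28.fixChk HEN.T HEN.D.jc W bs = true)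
    (hO : ∀ t, t < m → lbPt HEN.T 8330 W ov op otp otw t = true) (hm : 0 < m)
    (hcard : Nat.card (fixSub HEN.cert.perm bs) <
      (m + 1) * Nat.card (fixSub HEN.cert.perm (ov 0 :: bs)))
    (n : Cfsg.Spor.He) (hn : n ∈ fixSub HEN.cert.perm bs) : ∃ t, t < m ∧ pt n (ov 0) = ov t := by
  have := HE.finite
  obtain ⟨h1, _, _⟩ := lb_facts bs W m ov op otp otw hW hO
  by_contra hne0
  have hne : ∀ t, t < m → pt n (ov 0) ≠ ov t := fun t ht h => hne0 ⟨t, ht, h⟩
  have hx : ∀ t, ∃ x : Cfsg.Spor.He, x ∈ fixSub HEN.cert.perm bs ∧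
      (t < m → pt x (ov 0) = ov t) ∧ (¬ t < m → x = n) := by
    intro t
    by_cases ht : t < m
    · obtain ⟨x, hx, _, _, e⟩ := lvl bs hbs W m ov op otp otw hW hO hm t t le_rfl ht
      exact ⟨x, hx, fun _ => e, fun h => absurd ht h⟩
    · exact ⟨n, hn, fun h => absurd h ht, fun _ => rfl⟩
  choose r hr1 hr2 hr3 using hx
  have h0lt : ov 0 < 8330 := (h1 0 hm).1
  have key := lb_step (fixSub HEN.cert.perm bs) (fixSub HEN.cert.perm (ov 0 :: bs)) (m + 1) r
    (fun t _ => hr1 t) (fixSub_cons_le _ _ _) (by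
      intro s t hs ht hmem
      have e := pt_of_mem_fixSub hmem (List.mem_cons_self) h0lt
      rw [pt_mul] at e
      have e2 : pt (r t) (ov 0) = pt (r s) (ov 0) := by
        have := congrArg (pt (r s)) e
        rwa [pt_cancel_inv] at this
      by_cases hs' : s < m
      · by_cases ht' : t < m
        · rw [hr2 s hs', hr2 t ht'] at e2
          rw [← (h1 s hs').2, ← (h1 t ht').2, e2]
        · rw [hr3 t ht', hr2 s hs'] at e2
          exact absurd e2 (hne s hs')
      · by_cases ht' : t < m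
        · rw [hr3 s hs', hr2 t ht'] at e2
          exact absurd e2.symm (hne t ht')
        · omega)
  omega

/-! ### the chain of helper28: orders of the stabilisers and their orbits -/

theorem card_fix0 : Nat.card (fixSub HEN.cert.perm [0]) ≤ 483840 := by
  have := HE.finite
  have h := HEN.cert.lb_top
  rw [HE.card_eq] at h
  omega

theorem card_fix1_le : Nat.card (fixSub HEN.cert.perm [HENL.ov2 0, 0]) ≤ 108 := by
  have := HE.finite
  have h := HEN.cert.lb_level [0] HENL.W2 4480 HENL.ov2 HENL.op2 HENL.otp2 HENL.otw2 HENL.fix2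
    HENL.lb2_all
  have h0 := card_fix0
  omega

theorem card_fix1_ge : 108 ≤ Nat.card (fixSub HEN.cert.perm [HENL.ov2 0, 0]) := by
  have := HE.finite
  have h := HEN.cert.lb_level [HENL.ov2 0, 0] HENL.W3 108 HENL.ov3 HENL.op3 HENL.otp3 HENL.otw3
    HENL.fix3 HENL.lb3_all
  have h1 : 0 < Nat.card (fixSub HEN.cert.perm [HENL.ov3 0, HENL.ov2 0, 0]) := Nat.card_pos
  have h2 := Nat.mul_le_mul_left 108 h1
  omega

theorem bs1_lt : ∀ b ∈ [HENL.ov2 0, 0], b < 8330 := by
  intro b hb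
  rw [ov2_zero] at hb
  simp only [List.mem_cons, List.not_mem_nil, or_false] at hb
  rcases hb with rfl | rfl <;> norm_num

theorem bs0_lt : ∀ b ∈ [0], b < 8330 := by
  intro b hb
  rw [List.mem_singleton] at hb
  rw [hb]; norm_num

theorem orb2 (n : Cfsg.Spor.He) (hn : n ∈ fixSub HEN.cert.perm [0]) :
    ∃ t, t < 4480 ∧ pt n 111 = HENL.ov2 t := by
  have h := orbit_exact [0] bs0_lt HENL.W2 4480 HENL.ov2 HENL.op2 HENL.otp2 HENL.otw2 HENL.fix2
    HENL.lb2_all (by norm_num) (by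
      have h0 := card_fix0
      have h1 := Nat.mul_le_mul_left 4481 card_fix1_ge
      omega) n hn
  rw [ov2_zero] at h
  exact h

theorem orb3 (n : Cfsg.Spor.He) (hn : n ∈ fixSub HEN.cert.perm [HENL.ov2 0, 0]) :
    ∃ t, t < 108 ∧ pt n 9 = HENL.ov3 t := by
  have h := orbit_exact [HENL.ov2 0, 0] bs1_lt HENL.W3 108 HENL.ov3 HENL.op3 HENL.otp3 HENL.otw3
    HENL.fix3 HENL.lb3_all (by norm_num) (by
      rw [HE.fix_bot, Subgroup.card_bot]
      have h0 := card_fix1_le
      omega) n hn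
  rw [ov3_zero] at h
  exact h

/-! ### the scan -/

/-- the image of `p` under the candidate with the chain coordinates `q`, `t1`, `t2` -/
noncomputable def yF (q t1 t2 p : ℕ) : ℕ :=
  ufwdF 8330 q (vfwdF HENL.W2 HENL.otp2 HENL.otw2 4480 t1
    (vfwdF HENL.W3 HENL.otp3 HENL.otw3 108 t2 p))

/-- the candidate does not satisfy the equation at the point `9` -/
noncomputable def scan3 (wb wb' : List ℕ) (q t1 t2 : ℕ) : Bool :=
  !(Nat.beq (yF q t1 t2 (walkA HEN.T wb 9)) (walkA HEN.T wb' (yF q t1 t2 9)))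

/-- the third base image is not in the orbit, or the candidate fails -/
noncomputable def scan2 (wb wb' : List ℕ) (q t1 s2 : ℕ) : Bool :=
  natLetB (vinvF HENL.W2 HENL.otp2 HENL.otw2 4480 t1 s2) fun r2 =>
    natLetB (HENL.op3 r2) fun t2 =>
      !(Nat.blt t2 108 && Nat.beq (HENL.ov3 t2) r2) || scan3 wb wb' q t1 t2

/-- the second base image is not in the orbit, or the later tests fail -/
noncomputable def scan1 (wb wb' : List ℕ) (q q1 q2 : ℕ) : Bool :=
  natLetB (uinvF 8330 q q1) fun r1 =>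
    natLetB (HENL.op2 r1) fun t1 =>
      !(Nat.blt t1 4480 && Nat.beq (HENL.ov2 t1) r1) || scan2 wb wb' q t1 (uinvF 8330 q q2)

/-- there is no `y` with `y * b = b' * y` mapping the point `0` to `q`, unless `q` is allowed -/
noncomputable def scanChk (wb wb' : List ℕ) (allowed : ℕ → Bool) (q : ℕ) : Bool :=
  Nat.ble 8330 q || (allowed q ||
    natLetB (walkA HEN.T wb' q) fun q1 =>
      natLetB (walkA HEN.T wb' q1) fun q2 => scan1 wb wb' q q1 q2)

theorem scan_sound (wb wb' : List ℕ) (allowed : ℕ → Bool)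
    (hb : letChk HEN.D.jc wb = true) (hb' : letChk HEN.D.jc wb' = true)
    (h0 : walkA HEN.T wb 0 = 111) (h1 : walkA HEN.T wb 111 = 9)
    (hchk : ∀ q, q < 8330 → scanChk wb wb' allowed q = true)
    (y : Cfsg.Spor.He) (hy : y * HE.wv wb = HE.wv wb' * y) : allowed (pt y 0) = true := by
  have hq : pt y 0 < 8330 := pt_lt y (by norm_num)
  have l111 : pt y 111 < 8330 := pt_lt y (by norm_num)
  have l9 : pt y 9 < 8330 := pt_lt y (by norm_num)
  have hc := hchk _ hq
  unfold scanChk at hc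
  rw [Bool.or_eq_true] at hc
  rcases hc with hc | hc
  · exact absurd (Nat.le_of_ble_eq_true hc) (by omega)
  rw [Bool.or_eq_true] at hc
  rcases hc with hc | hc
  · exact hc
  exfalso
  have e1 : walkA HEN.T wb' (pt y 0) = pt y 111 := by
    rw [← pt_wv wb' hb' hq, ← pt_mul, ← hy, pt_mul, pt_wv wb hb (by norm_num), h0]
  have e2 : walkA HEN.T wb' (pt y 111) = pt y 9 := by
    rw [← pt_wv wb' hb' l111, ← pt_mul, ← hy, pt_mul, pt_wv wb hb (by norm_num), h1]
  rw [natLetB_eq, e1, natLetB_eq, e2] at hc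
  -- the first level
  obtain ⟨u, u1, u2, u3⟩ := lvl1 8330 (pt y 0) (le_of_lt hq) hq
  have hn0 : pt (u⁻¹ * y) 0 = 0 := by
    rw [pt_mul, ← u3, pt_inv_cancel]
  have hn : u⁻¹ * y ∈ fixSub HEN.cert.perm [0] := by
    apply mem_fixSub_of_pt
    intro b hb
    rw [List.mem_singleton] at hb
    rw [hb]; exact hn0
  obtain ⟨t, ht, et⟩ := orb2 _ hn
  have hop : HENL.op2 (HENL.ov2 t) = t :=
    ((lb_facts [0] HENL.W2 4480 HENL.ov2 HENL.op2 HENL.otp2 HENL.otw2 HENL.fix2
      HENL.lb2_all).1 t ht).2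
  unfold scan1 at hc
  rw [natLetB_eq, ← u2 _ l111, ← pt_mul, et, natLetB_eq, hop, Nat.blt_eq.mpr ht, Nat.beq_refl,
    Bool.and_self, Bool.not_true, Bool.false_or, ← u2 _ l9, ← pt_mul] at hc
  -- the second level
  obtain ⟨v, hv, v1, v2, v3⟩ := lvl [0] bs0_lt HENL.W2 4480 HENL.ov2 HENL.op2 HENL.otp2 HENL.otw2
    HENL.fix2 HENL.lb2_all (by norm_num) 4480 t (le_of_lt ht) ht
  rw [ov2_zero] at v3
  have hm0 : v⁻¹ * (u⁻¹ * y) ∈ fixSub HEN.cert.perm [0] :=
    Subgroup.mul_mem _ (Subgroup.inv_mem _ hv) hn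
  have hm : v⁻¹ * (u⁻¹ * y) ∈ fixSub HEN.cert.perm [HENL.ov2 0, 0] := by
    apply mem_fixSub_of_pt
    intro b hb
    rw [ov2_zero] at hb
    simp only [List.mem_cons, List.not_mem_nil, or_false] at hb
    rcases hb with rfl | rfl
    · rw [pt_mul, et, ← v3, pt_inv_cancel]
    · exact pt_of_mem_fixSub hm0 (List.mem_singleton.mpr rfl) (by norm_num)
  obtain ⟨t', ht', et'⟩ := orb3 _ hm
  have hop' : HENL.op3 (HENL.ov3 t') = t' :=
    ((lb_facts [HENL.ov2 0, 0] HENL.W3 108 HENL.ov3 HENL.op3 HENL.otp3 HENL.otw3 HENL.fix3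
      HENL.lb3_all).1 t' ht').2
  unfold scan2 at hc
  rw [natLetB_eq, ← v2 _ (pt_lt _ (by norm_num)), ← pt_mul, et', natLetB_eq, hop',
    Nat.blt_eq.mpr ht', Nat.beq_refl, Bool.and_self, Bool.not_true, Bool.false_or] at hc
  -- the third level
  obtain ⟨w, hw, w1, w2, w3⟩ := lvl [HENL.ov2 0, 0] bs1_lt HENL.W3 108 HENL.ov3 HENL.op3 HENL.otp3
    HENL.otw3 HENL.fix3 HENL.lb3_all (by norm_num) 108 t' (le_of_lt ht') ht'
  rw [ov3_zero] at w3
  have hone : w⁻¹ * (v⁻¹ * (u⁻¹ * y)) = 1 := by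
    have hmem : w⁻¹ * (v⁻¹ * (u⁻¹ * y)) ∈ fixSub HEN.cert.perm [HENL.ov3 0, HENL.ov2 0, 0] := by
      have hm1 : w⁻¹ * (v⁻¹ * (u⁻¹ * y)) ∈ fixSub HEN.cert.perm [HENL.ov2 0, 0] :=
        Subgroup.mul_mem _ (Subgroup.inv_mem _ hw) hm
      apply mem_fixSub_of_pt
      intro b hb
      rcases List.mem_cons.mp hb with rfl | hb'
      · rw [ov3_zero, pt_mul, et', ← w3, pt_inv_cancel]
      · exact pt_of_mem_fixSub hm1 hb' (bs1_lt b hb')
    rw [HE.fix_bot] at hmem
    exact Subgroup.mem_bot.mp hmem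
  have hyuvw : y = u * (v * w) := by
    have h2 : v⁻¹ * (u⁻¹ * y) = w := by
      have := congrArg (fun z => w * z) hone
      simpa using this
    have h3 : u⁻¹ * y = v * w := by rw [← h2]; group
    rw [← h3]; group
  have hyF : ∀ p, p < 8330 → yF (pt y 0) t t' p = pt y p := by
    intro p hp
    unfold yF
    rw [← w1 p hp, ← v1 _ (pt_lt _ hp), ← u1 _ (pt_lt _ (pt_lt _ hp)), ← pt_mul, ← pt_mul, mul_assoc, ← hyuvw]
  unfold scan3 at hc
  have hw9 : walkA HEN.T wb 9 < 8330 := by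
    rw [← pt_wv wb hb (by norm_num : 9 < 8330)]; exact pt_lt _ (by norm_num)
  rw [hyF _ hw9, hyF 9 (by norm_num), ← pt_wv wb hb (by norm_num : 9 < 8330), ← pt_mul, hy, pt_mul,
    pt_wv wb' hb' l9, Nat.beq_refl] at hc
  exact absurd hc (by decide)

end Cfsg.Agent.Helper7.HeC
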