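/-
Helper7 library: data for the outer automorphism group of the group `He` (generated): an
element of order 17 whose cycle through the point `0` contains the base points of the stabiliser
chain of helper28, a conjugate of it, an element of order 8 normalising the latter, an element
inverting that one, the centraliser of the element of order 8, and words for the seven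
generators in these elements.
-/
import Cfsg.Agent.Helper7.HeScan

set_option autoImplicit false

namespace Cfsg.Agent.Helper7.HeC

/-- an element of order 17 mapping the point `0` to `111` and `111` to `9` -/
def a1W : List ℕ := [6, 3, 2, 6, 3, 5, 3, 2, 3, 6, 1, 2, 3, 2, 4, 6, 3, 2, 1, 2, 3, 5, 2, 3, 6, 4, 2, 3, 2, 1, 6, 3, 2, 3, 5, 3, 6, 2, 3, 6]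
/-- the cube of `a1W` -/
def a1W3 : List ℕ := a1W ++ (a1W ++ a1W)
/-- a conjugating element -/
def kW : List ℕ := [4, 2, 3, 2, 3, 4, 1, 2, 3, 6, 2, 3, 2, 1, 5, 3, 6, 5, 3, 2, 3, 6, 2, 3, 5, 2]
/-- the conjugate of `a1W` by the inverse of `kW` -/
def apW : List ℕ := [2, 5, 3, 2, 6, 3, 2, 3, 5, 6, 3, 5, 1, 2, 3, 2, 6, 3, 2, 1, 4, 3, 2, 3, 2, 4, 6, 3, 2, 6, 3, 5, 3, 2, 3, 6, 1, 2, 3, 2, 4, 6, 3, 2, 1, 2, 3, 5, 2, 3, 6, 4, 2, 3, 2, 1, 6, 3, 2, 3, 5, 3, 6, 2, 3, 6, 4, 2, 3, 2, 3, 4, 1, 2, 3, 6, 2, 3, 2, 1, 5, 3, 6, 5, 3, 2, 3, 6, 2, 3, 5, 2]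
/-- an element of order 8 mapping the point `0` to `111` and `111` to `9`, which conjugates
`apW` to its square -/
def t2W : List ℕ := [2, 5, 3, 2, 6, 3, 2, 3, 5, 6, 3, 5, 1, 2, 3, 2, 6, 3, 2, 1, 4, 3, 2, 3, 2, 4, 6, 2, 3, 5, 2, 3, 2, 3, 1, 2, 3, 6, 2, 3, 2, 1, 2, 3, 5, 6, 3, 2, 3, 5, 6, 3, 5, 3, 2, 5, 3, 2, 3, 5, 2, 3, 4, 2, 3, 2, 3, 4, 1, 2, 3, 6, 2, 3, 2, 1, 5, 3, 6, 5, 3, 2, 3, 6, 2, 3, 5, 2]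
/-- an involution inverting `t2W` -/
def x2W : List ℕ := [5, 2, 3, 2, 3, 6, 4, 3, 2, 1, 3, 2, 3, 2, 3, 6, 2, 3, 5, 6, 3, 2, 1, 0, 1, 3, 2, 5, 3, 2, 3, 5, 2, 3]
/-- an element conjugating `a1W` to the cube of the image of `apW` under the swap of the
generators `f` and `g` -/
def y0W : List ℕ := [4, 1, 2, 3, 5, 2, 3, 2, 3, 6, 0, 1, 2, 3, 2, 1, 5, 3, 6, 2, 3, 2, 3, 5, 1, 0, 1]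
/-- the images of the point `0` under the powers of `a1W` -/
def orbA : List ℕ := [0, 111, 9, 6367, 7032, 6390, 8253, 2005, 1096, 2617, 2394, 4678, 3342, 5727, 6592, 2261, 5981]
/-- the images of the point `0` under the centraliser of `t2W` -/
def centQ : List ℕ := [0, 9, 111, 229, 723, 1230, 1973, 2317, 2481, 4359, 4487, 6203, 6901, 7151, 7786, 8098]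
/-- the centraliser of `t2W` -/
def centW : List (List ℕ) := [
  [],
  [3, 2, 3, 2, 0, 1, 2, 3, 2, 3, 6, 5, 2, 3, 5, 3, 2, 3, 5, 2, 3],
  [1, 2, 3, 5, 2, 3, 2, 1, 3, 5, 6, 3, 6, 2, 1, 0, 1, 3, 2, 5, 3, 2, 3, 5, 2, 3, 6, 3, 6, 1, 2, 3, 5, 4, 3, 2, 3, 1, 2, 3, 4, 2, 3, 1, 2, 3, 5, 4, 3, 2, 1, 6, 2, 3, 6, 1, 0, 1],
  [5, 3, 2, 3, 6, 4, 3, 2, 1, 3, 6, 5, 3, 2, 3, 5, 6, 3, 2, 3, 1, 0, 1, 6, 3, 6, 1, 2, 3, 5, 4, 3, 2, 3, 1, 2, 3, 4, 2, 3, 1, 2, 3, 5, 4, 3, 2, 1, 6, 2, 3, 6, 3, 2, 5, 3, 2, 3, 5, 2, 3, 1, 0, 1, 6, 3, 6, 1, 2, 3, 5, 4, 3, 2, 3, 1, 2, 3, 4, 2, 3, 1, 2, 3, 5, 4, 3, 2, 1, 6, 2, 3, 6],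
  [4, 3, 5, 1, 2, 3, 0, 1, 2, 3, 2, 1, 5, 2, 3, 5, 6, 5, 3, 2, 3, 6, 5, 2, 5, 3, 2, 3, 5, 2, 3, 6, 3, 6, 1, 2, 3, 5, 4, 3, 2, 3, 1, 2, 3, 4, 2, 3, 1, 2, 3, 5, 4, 3, 2, 1, 6, 2, 3, 6],
  [2, 3, 2, 3, 6, 4, 3, 0, 1, 2, 3, 2, 1, 2, 6, 3, 2, 5, 6, 5, 3, 5, 2, 1, 0, 1, 3, 2, 5, 3, 2, 3, 5, 2, 3, 1, 0, 1, 6, 3, 6, 1, 2, 3, 5, 4, 3, 2, 3, 1, 2, 3, 4, 2, 3, 1, 2, 3, 5, 4, 3, 2, 1, 6, 2, 3, 6, 3, 2, 5, 3, 2, 3, 5, 2, 3],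
  [2, 3, 6, 5, 2, 3, 2, 3, 0, 1, 2, 3, 2, 0, 1, 3, 5, 3, 2, 3, 5, 2, 3, 2, 5, 3, 2, 3, 5, 2, 3, 1, 0, 1, 3, 2, 5, 3, 2, 3, 5, 2, 3, 6, 3, 6, 1, 2, 3, 5, 4, 3, 2, 3, 1, 2, 3, 4, 2, 3, 1, 2, 3, 5, 4, 3, 2, 1, 6, 2, 3, 6, 3, 2, 5, 3, 2, 3, 5, 2, 3],
  [3, 5, 6, 3, 2, 3, 4, 2, 3, 1, 2, 3, 2, 1, 5, 3, 6, 2, 3, 2, 3, 6, 2, 3, 2, 6, 3, 6, 1, 2, 3, 5, 4, 3, 2, 3, 1, 2, 3, 4, 2, 3, 1, 2, 3, 5, 4, 3, 2, 1, 6, 2, 3, 6, 3, 2, 5, 3, 2, 3, 5, 2, 3, 1, 0, 1, 3, 2, 5, 3, 2, 3, 5, 2, 3, 1, 0, 1],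
  [0, 1, 2, 3, 1, 2, 3, 5, 3, 1, 2, 3, 2, 1, 6, 3, 2, 3, 5, 6, 3, 5, 6, 3, 6, 1, 2, 3, 5, 4, 3, 2, 3, 1, 2, 3, 4, 2, 3, 1, 2, 3, 5, 4, 3, 2, 1, 6, 2, 3, 6],
  [3, 2, 3, 1, 2, 3, 1, 2, 3, 6, 3, 2, 3, 2, 1, 2, 3, 2, 3, 5, 3, 2, 3, 2, 6, 5, 3, 6, 3, 6, 1, 2, 3, 5, 4, 3, 2, 3, 1, 2, 3, 4, 2, 3, 1, 2, 3, 5, 4, 3, 2, 1, 6, 2, 3, 6, 3, 2, 5, 3, 2, 3, 5, 2, 3, 1, 0, 1, 6, 3, 6, 1, 2, 3, 5, 4, 3, 2, 3, 1, 2, 3, 4, 2, 3, 1, 2, 3, 5, 4, 3, 2, 1, 6, 2, 3, 6, 3, 2, 5, 3, 2, 3, 5, 2, 3, 1, 0, 1, 3, 2, 5, 3, 2, 3, 5, 2, 3],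
  [6, 4, 3, 1, 2, 3, 0, 1, 2, 3, 5, 2, 3, 2, 1, 2, 5, 6, 5, 3, 2, 3, 5, 6, 3, 2, 3, 1, 0, 1, 3, 2, 5, 3, 2, 3, 5, 2, 3, 1, 0, 1, 6, 3, 6, 1, 2, 3, 5, 4, 3, 2, 3, 1, 2, 3, 4, 2, 3, 1, 2, 3, 5, 4, 3, 2, 1, 6, 2, 3, 6, 3, 2, 5, 3, 2, 3, 5, 2, 3, 1, 0, 1],
  [6, 5, 2, 3, 6, 2, 3, 0, 1, 2, 3, 5, 2, 3, 2, 1, 2, 6, 5, 3, 2, 3, 5, 6, 3, 5, 3, 2, 5, 3, 2, 3, 5, 2, 3, 1, 0, 1, 3, 2, 5, 3, 2, 3, 5, 2, 3, 6, 3, 6, 1, 2, 3, 5, 4, 3, 2, 3, 1, 2, 3, 4, 2, 3, 1, 2, 3, 5, 4, 3, 2, 1, 6, 2, 3, 6, 1, 0, 1, 3, 2, 5, 3, 2, 3, 5, 2, 3, 1, 0, 1],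
  [2, 3, 5, 4, 2, 3, 6, 1, 2, 3, 2, 3, 1, 2, 3, 2, 1, 2, 1, 0, 1, 2, 3, 2, 3, 6, 2, 3, 1, 0, 1, 3, 2, 5, 3, 2, 3, 5, 2, 3, 1, 0, 1],
  [2, 3, 6, 3, 1, 2, 3, 4, 2, 3, 5, 3, 1, 2, 3, 2, 1, 2, 3, 5, 6, 2, 3, 5, 3, 2, 3, 5, 2, 3, 1, 0, 1, 6, 3, 6, 1, 2, 3, 5, 4, 3, 2, 3, 1, 2, 3, 4, 2, 3, 1, 2, 3, 5, 4, 3, 2, 1, 6, 2, 3, 6, 1, 0, 1, 3, 2, 5, 3, 2, 3, 5, 2, 3, 1, 0, 1, 3, 2, 5, 3, 2, 3, 5, 2, 3, 1, 0, 1],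
  [6, 3, 1, 2, 3, 6, 4, 3, 1, 2, 3, 6, 0, 1, 2, 3, 2, 1, 3, 5, 6, 3, 6, 2, 3, 6, 5, 3, 1, 0, 1, 3, 2, 5, 3, 2, 3, 5, 2, 3, 6, 3, 6, 1, 2, 3, 5, 4, 3, 2, 3, 1, 2, 3, 4, 2, 3, 1, 2, 3, 5, 4, 3, 2, 1, 6, 2, 3, 6, 1, 0, 1, 3, 2, 5, 3, 2, 3, 5, 2, 3, 1, 0, 1],
  [1, 2, 3, 6, 4, 2, 3, 2, 3, 1, 2, 3, 6, 4, 2, 3, 2, 1, 3, 2, 6, 5, 3, 6, 2, 3, 6, 5, 3, 6, 3, 6, 1, 2, 3, 5, 4, 3, 2, 3, 1, 2, 3, 4, 2, 3, 1, 2, 3, 5, 4, 3, 2, 1, 6, 2, 3, 6, 3, 2, 5, 3, 2, 3, 5, 2, 3, 1, 0, 1, 3, 2, 5, 3, 2, 3, 5, 2, 3, 6, 3, 6, 1, 2, 3, 5, 4, 3, 2, 3, 1, 2, 3, 4, 2, 3, 1, 2, 3, 5, 4, 3, 2, 1, 6, 2, 3, 6, 1, 0, 1, 3, 2, 5, 3, 2, 3, 5, 2, 3]]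
/-- the five symbols: `apW`, its inverse, `t2W`, its inverse, `x2W` -/
def symW (s : ℕ) : List ℕ :=
  if s = 0 then apW else if s = 1 then apW.reverse else if s = 2 then t2W
  else if s = 3 then t2W.reverse else x2W
/-- the seven generators as words in the five symbols -/
def genSW : List (List ℕ) := [
  [2, 0, 4, 0, 4, 1, 2, 1, 1, 1, 4, 0, 2, 0, 0, 4, 0, 4, 1, 4, 0, 3, 0, 3, 4, 1, 4, 0, 0, 4, 0, 4, 0, 0, 4, 0, 4, 3, 3, 1, 4, 1, 1, 1, 4, 0, 4, 0, 4, 0, 4, 3, 3, 1, 4, 0, 4, 1, 4, 1, 1, 3, 3, 0, 4, 1, 4, 1, 3, 1, 4, 1, 3, 1, 4, 2, 0, 4, 0, 4, 1, 4, 1, 1, 3, 1, 1, 4, 3, 0, 4, 3, 0, 2, 4, 1, 2, 2, 2, 4, 0, 4, 0, 4, 1, 1, 1, 4, 1, 4, 0, 0, 4, 2, 1, 3, 1, 4,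 1, 2, 4, 0, 2, 0, 2, 2, 1, 1, 4, 2, 1, 4, 1, 4, 3, 3, 3, 1, 2, 4, 1, 2, 4, 0, 0, 2, 0, 0, 4, 0, 4, 1, 4, 1, 4, 0, 3, 3, 4, 0, 4, 0, 3, 4, 0, 4, 3, 1, 4, 3, 1, 2, 2, 2, 0, 4, 0, 2, 0, 4, 3, 3, 1, 2, 1, 3, 1, 4, 1, 2, 4, 0, 2, 0, 2, 2, 1, 1, 4, 2, 1, 4, 1, 1, 4, 1, 1, 4, 1, 4, 1, 1, 4, 0, 4, 2, 1, 2, 1, 4, 0, 3, 4, 1, 2, 4, 1, 4, 0, 3, 1, 4, 1, 4, 3, 3, 0, 4, 0, 4, 0, 4, 1, 4, 1, 1, 3, 1, 1, 4, 3, 0, 4, 3, 0, 2, 2],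
  [3, 0, 3, 0, 4, 1, 1, 1, 3, 4, 0, 2, 0, 4, 0, 2, 0, 4, 0, 4, 1, 2, 2, 0, 0, 4, 0, 4, 0, 3, 4, 1, 2, 4, 1, 4, 3, 0, 4, 0, 3, 3, 0, 3, 1, 4, 1, 1, 1, 4, 0, 4, 0, 4, 0, 4, 3, 3, 1, 4, 0, 3, 3, 0, 2, 4, 0, 2, 4, 1, 4, 2, 1, 4, 1, 4, 2, 2, 1, 4, 0, 4, 0, 4, 1, 4, 1, 1, 3, 1, 1, 4, 3, 0, 4, 3, 0, 2, 2, 2, 4, 0, 4, 0, 3, 4, 0, 0, 3, 3, 1, 3, 1, 4, 3, 0, 4, 0, 2, 0, 3, 4, 1, 1, 4, 0, 4, 0, 0, 0, 4, 1, 4, 1, 4, 3, 3, 3, 0, 4, 3, 1, 2, 4, 1, 2, 4, 0, 0, 2, 0, 0, 4, 0, 4, 1, 4, 1, 3, 4, 0, 2, 0, 4, 0, 2, 0, 4, 0, 4, 1, 2, 2, 0, 0, 4, 0, 4, 1, 4, 0, 2, 2, 4, 1, 4, 1, 4, 1, 4, 0, 0, 0, 4, 0, 2, 2, 1, 1, 4, 0, 2, 4, 0, 0, 4, 2, 2, 1, 4, 0, 4, 2, 4, 0, 3, 3, 4, 0, 4,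 0, 3, 4, 0, 4, 3, 1, 4, 3, 1, 2, 2, 0, 4, 0, 4, 1, 4, 1, 1, 3, 1, 1, 4, 3, 0, 4, 3, 0, 2, 0, 4, 1, 2, 1, 1, 4, 1, 3, 4, 1, 4, 1, 4, 0, 3, 0, 4, 0, 2, 1, 1, 4, 0, 2, 4, 0, 0, 4, 2, 2, 1, 4, 0, 4, 2],
  [1, 2, 2, 1, 4, 1, 2, 4, 0, 4, 3, 0, 4, 2, 1, 2, 0, 4, 0, 4, 1, 2, 1, 1, 1, 4, 0, 2, 0, 0, 4, 0, 4, 3, 4, 1, 2, 2, 4, 0, 3, 0, 2, 2, 1, 1, 4, 0, 4, 1, 2, 2, 0, 0, 0, 0, 4, 1, 4, 1, 1, 4, 3, 3, 0, 4, 0, 3, 0, 4, 2, 2, 2, 2, 0, 2, 4, 0, 2, 4, 0, 4, 1, 4, 2, 1, 4, 1, 4, 2, 1, 3, 4, 1, 2, 4, 1, 4, 0, 3, 1, 4, 1, 4, 3, 3, 0, 4, 3, 0, 4, 1, 2, 1, 1, 4, 1, 3, 4, 1, 4, 1, 4, 0, 3, 0, 4, 0, 2, 0, 4, 0, 2, 0, 4, 3, 3, 1, 2, 0, 0, 3, 4, 1, 4, 1, 1, 4, 2, 1, 4, 0, 4,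 1, 2, 1, 4, 0, 3, 1, 4, 0, 4, 1, 2, 4, 3, 3, 3, 1, 4, 0, 4, 0, 2, 4, 0, 3, 0, 3, 4, 1, 4, 0, 0, 4, 0, 4, 0, 0, 4, 0, 4, 3, 3, 4, 1, 2, 2, 4, 0, 3, 0, 2, 2, 1, 1, 4, 0, 4, 1, 2, 2],
  [3, 1, 4, 0, 4, 1, 2, 4, 3, 3, 3, 1, 4, 0, 4, 0, 2, 0, 3, 3, 0, 4, 1, 4, 0, 0, 3, 3, 1, 2, 1, 4, 3, 3, 0, 0, 2, 0, 4, 0, 2, 0, 4, 0, 4, 1, 2, 2, 0, 0, 4, 0, 4, 3, 3, 0, 4, 1, 4, 0, 0, 3, 3, 1, 2, 1, 4, 3, 3, 0, 4, 2, 2, 4, 1, 4, 1, 1, 4, 1, 4, 1, 1, 4, 0, 4, 2, 1, 2, 1, 4, 3, 1, 4, 1, 4, 0, 2, 2, 2, 4, 3, 0, 4, 1, 4, 0, 2, 1, 4, 0, 3, 0, 4, 1, 4, 0, 3, 4, 0, 0, 4, 0, 4, 2, 1, 1, 3, 0, 2, 2, 4, 1, 3, 1, 4, 1, 3],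
  [0, 0, 3, 4, 1, 4, 1, 1, 4, 2, 1, 4, 0, 4, 1, 2, 1, 4, 0, 0, 3, 4, 0, 4, 0, 3, 4, 0, 4, 1, 4, 3, 1, 4, 3, 1, 3, 3, 3, 3, 0, 2, 4, 0, 2, 4, 1, 4, 2, 1, 4, 1, 4, 2, 2, 1, 4, 0, 4, 0, 4, 1, 4, 1, 1, 3, 1, 1, 4, 3, 0, 4, 3, 0, 2, 2, 2, 4, 0, 4, 0, 3, 4, 0, 0, 3, 3, 1, 3, 1, 4, 3, 0, 4, 0, 2, 0, 3, 4, 1, 1, 4, 0, 4, 0, 0, 0, 4, 1, 4, 1, 4, 3, 3, 3, 0, 4, 3, 1, 2, 4, 1, 2, 4, 0, 0, 2, 0, 0, 4, 0, 4, 1, 4, 1, 3, 4, 0, 2, 0, 4, 0, 2, 0, 4, 0, 4, 1, 2, 2, 0, 0, 4, 0, 4, 1, 4, 0, 2, 2, 4, 1, 4, 1, 4, 1, 4, 0, 0, 0, 4, 0, 2, 2, 1, 1, 4, 0, 2, 4, 0, 0, 4, 2, 2, 1, 4, 0, 4, 2, 4, 0, 3, 3, 4, 0, 4, 0, 3, 4, 0, 4, 3, 1, 4, 3, 1, 2, 2, 0, 4, 0, 4, 1, 4, 1, 1, 3, 1, 1,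 4, 3, 0, 4, 3, 0, 2, 0, 4, 1, 2, 1, 1, 4, 1, 3, 4, 1, 4, 1, 4, 0, 3, 0, 4, 0, 2, 1, 1, 4, 0, 2, 4, 0, 0, 4, 2, 2, 1, 4, 0, 4, 2],
  [2, 0, 4, 0, 4, 1, 2, 1, 1, 1, 4, 0, 2, 0, 0, 4, 0, 4, 1, 2, 4, 0, 4, 1, 1, 3, 4, 1, 4, 2, 1, 1, 1, 4, 1, 1, 3, 4, 0, 2, 0, 4, 0, 2, 0, 4, 0, 4, 1, 2, 2, 0, 0, 4, 0, 4, 1, 4, 0, 2, 4, 1, 2, 2, 4, 0, 4, 3, 3, 1, 4, 1, 4, 0, 4, 0, 4, 0, 3, 3, 4, 0, 0, 3, 0, 4, 1, 1, 1, 1, 3, 1, 4, 1, 4, 1, 2, 1, 1, 3, 3, 0, 4, 1, 4, 1, 2, 2, 4, 0, 0, 4, 1, 4, 1, 2, 2, 0, 4, 3, 3, 0, 4, 1, 4, 1, 2, 2, 0, 4, 0, 2, 4, 1, 2, 1, 3, 1, 4, 3, 3, 0, 4, 2, 0, 3, 4, 1, 2, 2, 4, 0, 3, 0, 2, 2, 1, 1, 4, 0, 4, 1, 2, 2, 0, 0, 0, 0, 4, 1, 4, 1, 1, 4, 3, 3,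 0, 4, 0, 3, 0, 4, 2, 2, 2, 2, 0, 2, 4, 0, 2, 4, 0, 4, 1, 4, 2, 1, 4, 1, 4, 2, 1, 3, 4, 1, 2, 4, 1, 4, 0, 3, 1, 4, 1, 4, 3, 3, 0, 4, 3, 0, 4, 1, 2, 1, 1, 4, 1, 3, 4, 1, 4, 1, 4, 0, 3, 0, 4, 0, 2, 0, 4, 0, 2, 0, 4, 3, 3, 1, 2, 1, 3, 1, 4, 1, 2, 4, 0, 2, 0, 2, 2, 1, 1, 4, 2, 1, 4, 1, 1, 4, 1, 1, 4, 1, 4, 1, 1, 4, 0, 4, 2, 1, 2, 1, 4, 0, 3, 4, 1, 2, 4, 1, 4, 0, 3, 1, 4, 1, 4, 3, 3, 0, 4, 0, 4, 0, 4, 1, 4, 1, 1, 3, 1, 1, 4, 3, 0, 4, 3, 0, 2, 2],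
  [3, 1, 4, 0, 4, 1, 1, 1, 4, 2, 1, 4, 1, 4, 1, 4, 2, 1, 3, 0, 4, 1, 2, 1, 1, 4, 1, 3, 4, 1, 4, 1, 4, 0, 3, 0, 0, 2, 2, 4, 1, 4, 1, 4, 1, 4, 0, 0, 0, 4, 0, 2, 2, 1, 1, 4, 0, 2, 4, 0, 0, 4, 2, 2, 1, 4, 0, 4, 2, 4, 0, 3, 3, 4, 0, 4, 0, 3, 4, 0, 4, 3, 1, 4, 3, 1, 2, 2, 0, 4, 0, 4, 1, 4, 1, 1, 3, 1, 1, 4, 3, 0, 4, 3, 0, 2, 0, 4, 1, 2, 1, 1, 4, 1, 3, 4, 1, 4, 1, 4, 0, 3, 0, 4, 0, 2, 1, 1, 4, 0, 2, 4, 0, 0, 4, 2, 2, 1, 4, 0, 4, 2]]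

end Cfsg.Agent.Helper7.HeC
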