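/-
Helper7 library: the kernel checks on the data for the outer automorphism group of `He`, and
what they mean.
-/
import Cfsg.Agent.Helper7.HeOutData

set_option autoImplicit false

namespace Cfsg.Agent.Helper7.HeC

open Cfsg.Agent.Helper28

/-- the swap of the generators `f` and `g` -/
def swL (k : ℕ) : ℕ := if k = 5 then 6 else if k = 6 then 5 else k

/-- the base of the stabiliser chain -/
def baseL : List ℕ := [9, 111, 0]

theorem baseL_eq : [HENL.ov3 0, HENL.ov2 0, 0] = baseL := by
  rw [ov3_zero, ov2_zero]; rfl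

/-- equality of word values, checked on the base -/
theorem wv_eq' (l1 l2 : List ℕ) (h1 : letChk HEN.D.jc l1 = true) (h2 : letChk HEN.D.jc l2 = true)
    (h : eqBase HEN.T l1 l2 baseL = true) : HE.wv l1 = HE.wv l2 :=
  HE.wv_eq l1 l2 h1 h2 (by rw [baseL_eq]; exact h)

/-- `f x`, with `x` evaluated first. -/
def natLet (x : ℕ) (f : ℕ → ℕ) : ℕ := Nat.rec (f 0) (fun k _ => f (Nat.succ k)) x

theorem natLet_eq (x : ℕ) (f : ℕ → ℕ) : natLet x f = f x := by
  cases x <;> rfl

/-- the image of `p` under the `n`-th power of a word -/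
noncomputable def walkN (w : List ℕ) (n : ℕ) (p : ℕ) : ℕ :=
  Nat.rec (motive := fun _ => ℕ) p (fun _ ih => natLet ih (walkA HEN.T w)) n

theorem walkN_succ (w : List ℕ) (n p : ℕ) : walkN w (n + 1) p = walkA HEN.T w (walkN w n p) := by
  show natLet (walkN w n p) (walkA HEN.T w) = _
  rw [natLet_eq]

theorem pt_pow (w : List ℕ) (hw : letChk HEN.D.jc w = true) (n : ℕ) {p : ℕ} (hp : p < 8330) :
    pt ((HE.wv w) ^ n) p = walkN w n p := by
  induction n with
  | zero => rw [pow_zero, pt_one]; rfl
  | succ n ih =>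
    rw [pow_succ', pt_mul, ih, pt_wv w hw (by rw [← ih]; exact pt_lt _ hp), walkN_succ]

/-- the `n`-th power of a word fixes the base points -/
noncomputable def fix3N (w : List ℕ) (n : ℕ) : Bool :=
  Nat.beq (walkN w n 9) 9 && (Nat.beq (walkN w n 111) 111 && Nat.beq (walkN w n 0) 0)

theorem pow_eq_one_of_fix3N (w : List ℕ) (hw : letChk HEN.D.jc w = true) (n : ℕ)
    (h : fix3N w n = true) : (HE.wv w) ^ n = 1 := by
  unfold fix3N at h
  rw [Bool.and_eq_true, Bool.and_eq_true] at h
  exact eq_one_of_base _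
    (by rw [pt_pow w hw n (by norm_num)]; exact Nat.eq_of_beq_eq_true h.1)
    (by rw [pt_pow w hw n (by norm_num)]; exact Nat.eq_of_beq_eq_true h.2.1)
    (by rw [pt_pow w hw n (by norm_num)]; exact Nat.eq_of_beq_eq_true h.2.2)

theorem fix3N_of_pow_eq_one (w : List ℕ) (hw : letChk HEN.D.jc w = true) (n : ℕ)
    (h : (HE.wv w) ^ n = 1) : fix3N w n = true := by
  have h9 := pt_pow w hw n (p := 9) (by norm_num)
  have h111 := pt_pow w hw n (p := 111) (by norm_num)
  have h0 := pt_pow w hw n (p := 0) (by norm_num)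
  rw [h, pt_one] at h9 h111 h0
  unfold fix3N
  rw [← h9, ← h111, ← h0]
  rfl

/-- the exclusion of a member of the centraliser of `t2W` other than the identity -/
noncomputable def hexChk (cw : List ℕ) : Bool :=
  cw.isEmpty || (!(fix3N (apW ++ (x2W ++ cw)) 8) || !(fix3N (apW ++ (apW ++ (x2W ++ cw))) 17))

/-- the checks on the centraliser of `t2W`: letters, image of the point `0`, commutation,
exclusion -/
noncomputable def centChk : List (List ℕ) → List ℕ → Bool
  | [], [] => true
  | cw :: ws, q :: qs => letChk HEN.D.jc cw && (Nat.beq (walkA HEN.T cw 0) q &&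
      (eqBase HEN.T (cw ++ t2W) (t2W ++ cw) baseL && (hexChk cw && centChk ws qs)))
  | _, _ => false

theorem centChk_spec (ws : List (List ℕ)) (qs : List ℕ) (h : centChk ws qs = true) :
    (∀ q ∈ qs, ∃ cw ∈ ws, walkA HEN.T cw 0 = q) ∧
    (∀ cw ∈ ws, letChk HEN.D.jc cw = true ∧ eqBase HEN.T (cw ++ t2W) (t2W ++ cw) baseL = true ∧
      hexChk cw = true) := by
  induction ws generalizing qs with
  | nil =>
    cases qs with
    | nil => exact ⟨fun q hq => absurd hq (by simp), fun cw hcw => absurd hcw (by simp)⟩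
    | cons q qs => exact absurd h (by simp [centChk])
  | cons cw ws ih =>
    cases qs with
    | nil => exact absurd h (by simp [centChk])
    | cons q qs =>
      have h' : (letChk HEN.D.jc cw && (Nat.beq (walkA HEN.T cw 0) q &&
        (eqBase HEN.T (cw ++ t2W) (t2W ++ cw) baseL && (hexChk cw && centChk ws qs)))) = true := h
      simp only [Bool.and_eq_true] at h'
      obtain ⟨h1, h2, h3, h4, h5⟩ := h'
      obtain ⟨i1, i2⟩ := ih qs h5
      refine ⟨?_, ?_⟩
      · intro q' hq'
        rcases List.mem_cons.mp hq' with e | e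
        · exact ⟨cw, List.mem_cons_self, by rw [e]; exact Nat.eq_of_beq_eq_true h2⟩
        · obtain ⟨c, hc, e'⟩ := i1 q' e
          exact ⟨c, List.mem_cons_of_mem _ hc, e'⟩
      · intro c hc
        rcases List.mem_cons.mp hc with e | e
        · rw [e]; exact ⟨h1, h3, h4⟩
        · exact i2 c e

/-- the list consists of the images of `p` under the powers of the word -/
noncomputable def orbOK (w : List ℕ) : List ℕ → ℕ → Bool
  | [], _ => true
  | q :: l, p => Nat.beq q p && orbOK w l (walkA HEN.T w p)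

theorem orbOK_spec (w : List ℕ) (hw : letChk HEN.D.jc w = true) (l : List ℕ) (p : ℕ)
    (hp : p < 8330) (h : orbOK w l p = true) : ∀ q ∈ l, ∃ j : ℕ, q = pt ((HE.wv w) ^ j) p := by
  induction l generalizing p with
  | nil => intro q hq; exact absurd hq (by simp)
  | cons q0 l ih =>
    have h' : (Nat.beq q0 p && orbOK w l (walkA HEN.T w p)) = true := h
    rw [Bool.and_eq_true] at h'
    intro q hq
    rcases List.mem_cons.mp hq with e | e
    · exact ⟨0, by rw [e, pow_zero, pt_one]; exact Nat.eq_of_beq_eq_true h'.1⟩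
    · have hp' : walkA HEN.T w p < 8330 := by rw [← pt_wv w hw hp]; exact pt_lt _ hp
      obtain ⟨j, hj⟩ := ih _ hp' h'.2 q e
      exact ⟨j + 1, by rw [hj, pow_succ, pt_mul, pt_wv w hw hp]⟩

/-- the image of `p` under a word in the five symbols -/
noncomputable def walkSym (sw : List ℕ) (p : ℕ) : ℕ :=
  List.rec (motive := fun _ => ℕ) p (fun s _ ih => natLet ih (walkA HEN.T (symW s))) sw

theorem walkSym_cons (s : ℕ) (sw : List ℕ) (p : ℕ) :
    walkSym (s :: sw) p = walkA HEN.T (symW s) (walkSym sw p) := by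
  show natLet (walkSym sw p) (walkA HEN.T (symW s)) = _
  rw [natLet_eq]

/-- the generator `k` is the value of its word in the symbols -/
noncomputable def genWChk (k : ℕ) : Bool :=
  Nat.beq (HEN.T k 9) (walkSym (nthL genSW k) 9) &&
    (Nat.beq (HEN.T k 111) (walkSym (nthL genSW k) 111) &&
      Nat.beq (HEN.T k 0) (walkSym (nthL genSW k) 0))

end Cfsg.Agent.Helper7.HeC
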