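/-
Helper7 library: kernel-checked certificates for the outer automorphism group of `He`: words, relations, the centraliser list, and the generators.
-/
import Cfsg.Agent.Helper7.HeOutChkDefs

set_option autoImplicit false

namespace Cfsg.Agent.Helper7.HeC

open Cfsg.Agent.Helper28

theorem a1W_let : letChk HEN.D.jc a1W = true := by decide +kernel
theorem a1W3_let : letChk HEN.D.jc a1W3 = true := by decide +kernel
theorem kW_let : letChk HEN.D.jc kW = true := by decide +kernel
theorem apW_let : letChk HEN.D.jc apW = true := by decide +kernel
theorem t2W_let : letChk HEN.D.jc t2W = true := by decide +kernel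
theorem x2W_let : letChk HEN.D.jc x2W = true := by decide +kernel
theorem y0W_let : letChk HEN.D.jc y0W = true := by decide +kernel
theorem a1W_0 : walkA HEN.T a1W 0 = 111 := by decide +kernel
theorem a1W_111 : walkA HEN.T a1W 111 = 9 := by decide +kernel
theorem t2W_0 : walkA HEN.T t2W 0 = 111 := by decide +kernel
theorem t2W_111 : walkA HEN.T t2W 111 = 9 := by decide +kernel
theorem orbA_ok : orbOK a1W orbA 0 = true := by decide +kernel
theorem cent_ok : centChk centW centQ = true := by decide +kernel
theorem ap_conj_let : letChk HEN.D.jc (kW.reverse ++ (a1W ++ kW)) = true := by decide +kernel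
theorem ap_conj : eqBase HEN.T apW (kW.reverse ++ (a1W ++ kW)) baseL = true := by decide +kernel
theorem t_ap_let : letChk HEN.D.jc (t2W ++ (apW ++ t2W.reverse)) = true := by decide +kernel
theorem t_ap_let2 : letChk HEN.D.jc (apW ++ apW) = true := by decide +kernel
theorem t_ap : eqBase HEN.T (t2W ++ (apW ++ t2W.reverse)) (apW ++ apW) baseL = true := by
  decide +kernel
theorem x_t_let : letChk HEN.D.jc (x2W ++ (t2W ++ x2W.reverse)) = true := by decide +kernel
theorem x_t_let2 : letChk HEN.D.jc t2W.reverse = true := by decide +kernel
theorem x_t : eqBase HEN.T (x2W ++ (t2W ++ x2W.reverse)) t2W.reverse baseL = true := by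
  decide +kernel
theorem ap_17 : fix3N apW 17 = true := by decide +kernel
theorem ap_ne : Nat.beq (walkA HEN.T apW 0) 0 = false := by decide +kernel
theorem ax_let : letChk HEN.D.jc (apW ++ x2W) = true := by decide +kernel
theorem ax_8 : fix3N (apW ++ x2W) 8 = true := by decide +kernel
theorem aax_let : letChk HEN.D.jc (apW ++ (apW ++ x2W)) = true := by decide +kernel
theorem aax_17 : fix3N (apW ++ (apW ++ x2W)) 17 = true := by decide +kernel
theorem y0_let1 : letChk HEN.D.jc (y0W ++ a1W) = true := by decide +kernel
theorem y0_let2 : letChk HEN.D.jc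
    ((apW.map swL) ++ ((apW.map swL) ++ ((apW.map swL) ++ y0W))) = true := by decide +kernel
theorem y0_ok : eqBase HEN.T (y0W ++ a1W)
    ((apW.map swL) ++ ((apW.map swL) ++ ((apW.map swL) ++ y0W))) baseL = true := by
  decide +kernel
theorem apWr_let : letChk HEN.D.jc apW.reverse = true := by decide +kernel
theorem genW_0 : genWChk 0 = true := by decide +kernel
theorem genW_1 : genWChk 1 = true := by decide +kernel
theorem genW_2 : genWChk 2 = true := by decide +kernel
theorem genW_3 : genWChk 3 = true := by decide +kernel
theorem genW_4 : genWChk 4 = true := by decide +kernel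
theorem genW_5 : genWChk 5 = true := by decide +kernel
theorem genW_6 : genWChk 6 = true := by decide +kernel

end Cfsg.Agent.Helper7.HeC
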