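/-
Helper7 library: kernel-checked certificates for the outer automorphism group of `He`: the scan for the centraliser of the element of order 17.
-/
import Cfsg.Agent.Helper7.HeOutChkDefs

set_option autoImplicit false

namespace Cfsg.Agent.Helper7.HeC

open Cfsg.Agent.Helper28

theorem scanA_0 : rgAllF (scanChk a1W a1W (fixChk.listAny orbA)) 10 (2 ^ 10 * 0) = true := by
  decide +kernel
theorem scanA_1 : rgAllF (scanChk a1W a1W (fixChk.listAny orbA)) 10 (2 ^ 10 * 1) = true := by
  decide +kernel
theorem scanA_2 : rgAllF (scanChk a1W a1W (fixChk.listAny orbA)) 10 (2 ^ 10 * 2) = true := by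
  decide +kernel
theorem scanA_3 : rgAllF (scanChk a1W a1W (fixChk.listAny orbA)) 10 (2 ^ 10 * 3) = true := by
  decide +kernel
theorem scanA_4 : rgAllF (scanChk a1W a1W (fixChk.listAny orbA)) 10 (2 ^ 10 * 4) = true := by
  decide +kernel
theorem scanA_5 : rgAllF (scanChk a1W a1W (fixChk.listAny orbA)) 10 (2 ^ 10 * 5) = true := by
  decide +kernel
theorem scanA_6 : rgAllF (scanChk a1W a1W (fixChk.listAny orbA)) 10 (2 ^ 10 * 6) = true := by
  decide +kernel
theorem scanA_7 : rgAllF (scanChk a1W a1W (fixChk.listAny orbA)) 10 (2 ^ 10 * 7) = true := by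
  decide +kernel
theorem scanA_8 : rgAllF (scanChk a1W a1W (fixChk.listAny orbA)) 10 (2 ^ 10 * 8) = true := by
  decide +kernel

end Cfsg.Agent.Helper7.HeC
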