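/-
Helper7 library: the hypotheses of the criterion for the outer automorphism group, for the
group `He`: an element `a` of order 17 that is its own centraliser, an element `t` of order 8
with `t a t⁻¹ = a²`, the 16 elements commuting with `t`, an involution `x` inverting `t`, the
exclusion of the candidates for the image of `x`, and generation.
-/
import Cfsg.Agent.Helper7.HeOutChk1
import Cfsg.Agent.Helper7.HeOutChk2
import Cfsg.Agent.Helper7.HeOutChk3
import Cfsg.Agent.Helper7.HeOutChk4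
import Cfsg.Agent.Helper7.HeOutAbs

set_option autoImplicit false

namespace Cfsg.Agent.Helper7.HeC

open Cfsg.Agent.Helper28

theorem scanA_all (q : ℕ) (hq : q < 8330) : scanChk a1W a1W (fixChk.listAny orbA) q = true := by
  refine rgF_cover _ 10 9 (fun k hk => ?_) q (by norm_num; omega)
  interval_cases k
  · exact scanA_0
  · exact scanA_1
  · exact scanA_2
  · exact scanA_3
  · exact scanA_4
  · exact scanA_5
  · exact scanA_6
  · exact scanA_7
  · exact scanA_8

theorem scanB_all (q : ℕ) (hq : q < 8330) : scanChk a1W a1W3 (fun _ => false) q = true := by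
  refine rgF_cover _ 10 9 (fun k hk => ?_) q (by norm_num; omega)
  interval_cases k
  · exact scanB_0
  · exact scanB_1
  · exact scanB_2
  · exact scanB_3
  · exact scanB_4
  · exact scanB_5
  · exact scanB_6
  · exact scanB_7
  · exact scanB_8

theorem scanC_all (q : ℕ) (hq : q < 8330) : scanChk t2W t2W (fixChk.listAny centQ) q = true := by
  refine rgF_cover _ 10 9 (fun k hk => ?_) q (by norm_num; omega)
  interval_cases k
  · exact scanC_0
  · exact scanC_1
  · exact scanC_2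
  · exact scanC_3
  · exact scanC_4
  · exact scanC_5
  · exact scanC_6
  · exact scanC_7
  · exact scanC_8

theorem letChk_append {l1 l2 : List ℕ} (h1 : letChk HEN.D.jc l1 = true)
    (h2 : letChk HEN.D.jc l2 = true) : letChk HEN.D.jc (l1 ++ l2) = true := by
  rw [letChk_iff] at h1 h2 ⊢
  intro a ha
  rcases List.mem_append.mp ha with h | h
  · exact h1 a h
  · exact h2 a h

/-- Two elements commuting with `b` that agree at the point `0` are equal, when `b` maps the
point `0` to `111` and `111` to `9`. -/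
theorem eq_of_comm_of_pt0 (wb : List ℕ) (hb : letChk HEN.D.jc wb = true)
    (h0 : walkA HEN.T wb 0 = 111) (h1 : walkA HEN.T wb 111 = 9) (c c' : Cfsg.Spor.He)
    (hc : c * HE.wv wb = HE.wv wb * c) (hc' : c' * HE.wv wb = HE.wv wb * c')
    (h : pt c 0 = pt c' 0) : c = c' := by
  have hc'' : c'⁻¹ * HE.wv wb = HE.wv wb * c'⁻¹ := by
    rw [inv_mul_eq_iff_eq_mul, ← mul_assoc, hc', mul_assoc, mul_inv_cancel, mul_one]
  have hz : (c'⁻¹ * c) * HE.wv wb = HE.wv wb * (c'⁻¹ * c) := by
    rw [mul_assoc, hc, ← mul_assoc, hc'', mul_assoc]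
  have z0 : pt (c'⁻¹ * c) 0 = 0 := by rw [pt_mul, h, pt_inv_cancel]
  have b0 : pt (HE.wv wb) 0 = 111 := by rw [pt_wv wb hb (by norm_num), h0]
  have b1 : pt (HE.wv wb) 111 = 9 := by rw [pt_wv wb hb (by norm_num), h1]
  have z111 : pt (c'⁻¹ * c) 111 = 111 := by
    have e : pt (c'⁻¹ * c) (pt (HE.wv wb) 0) = pt (HE.wv wb) 0 := by
      rw [← pt_mul, hz, pt_mul, z0]
    rwa [b0] at e
  have z9 : pt (c'⁻¹ * c) 9 = 9 := by
    have e : pt (c'⁻¹ * c) (pt (HE.wv wb) 111) = pt (HE.wv wb) 111 := by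
      rw [← pt_mul, hz, pt_mul, z111]
    rwa [b1] at e
  have h1 := eq_one_of_base _ z9 z111 z0
  exact (inv_mul_eq_one.mp h1).symm

/-- The element `a₁` of order 17 is its own centraliser. -/
theorem cent_a1 (c : Cfsg.Spor.He) (hc : c * HE.wv a1W = HE.wv a1W * c) :
    c ∈ Subgroup.zpowers (HE.wv a1W) := by
  have hall := scan_sound a1W a1W (fixChk.listAny orbA) a1W_let a1W_let a1W_0 a1W_111 scanA_all c hc
  have hmem := fixChk.listAny_mem _ _ hall
  obtain ⟨j, hj⟩ := orbOK_spec a1W a1W_let orbA 0 (by norm_num) orbA_ok _ hmem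
  have e := eq_of_comm_of_pt0 a1W a1W_let a1W_0 a1W_111 c ((HE.wv a1W) ^ j) hc
    ((Commute.refl (HE.wv a1W)).pow_left j).eq hj
  rw [e]
  exact Subgroup.pow_mem _ (Subgroup.mem_zpowers _) j

/-- No element conjugates `a₁` to its cube. -/
theorem no_cube_a1 (y : Cfsg.Spor.He) (hy : y * HE.wv a1W = HE.wv a1W3 * y) : False := by
  have h := scan_sound a1W a1W3 (fun _ => false) a1W_let a1W3_let a1W_0 a1W_111 scanB_all y hy
  exact absurd h (by decide)

theorem wv_a1W3 : HE.wv a1W3 = (HE.wv a1W) ^ 3 := by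
  show HE.wv (a1W ++ (a1W ++ a1W)) = _
  rw [HE.wv_append, HE.wv_append, pow_succ, pow_succ, pow_one, mul_assoc]

theorem cent_conj {G : Type*} [Group G] (a1 k : G)
    (h : ∀ c, c * a1 = a1 * c → c ∈ Subgroup.zpowers a1) :
    ∀ c, c * (k⁻¹ * a1 * k) = (k⁻¹ * a1 * k) * c → c ∈ Subgroup.zpowers (k⁻¹ * a1 * k) := by
  intro c hc
  have h1 : (k * c * k⁻¹) * a1 = a1 * (k * c * k⁻¹) := by
    calc k * c * k⁻¹ * a1 = k * (c * (k⁻¹ * a1 * k)) * k⁻¹ := by group
      _ = k * ((k⁻¹ * a1 * k) * c) * k⁻¹ := by rw [hc]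
      _ = a1 * (k * c * k⁻¹) := by group
  obtain ⟨n, hn⟩ := Subgroup.mem_zpowers_iff.mp (h _ h1)
  refine Subgroup.mem_zpowers_iff.mpr ⟨n, ?_⟩
  have e : (k⁻¹ * a1 * k) ^ n = k⁻¹ * a1 ^ n * k := by
    have h2 := conj_zpow (a := k⁻¹) (b := a1) (i := n)
    rwa [inv_inv] at h2
  rw [e, hn]; group

/-- `a = k⁻¹ a₁ k` -/
theorem ap_eq : HE.wv apW = (HE.wv kW)⁻¹ * HE.wv a1W * HE.wv kW := by
  rw [wv_eq' _ _ apW_let ap_conj_let ap_conj, HE.wv_append, HE.wv_append, HE.wv_reverse kW kW_let,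
    mul_assoc]

theorem cent_a (c : Cfsg.Spor.He) (hc : c * HE.wv apW = HE.wv apW * c) :
    c ∈ Subgroup.zpowers (HE.wv apW) := by
  rw [ap_eq] at hc ⊢
  exact cent_conj _ _ cent_a1 c hc

theorem order_a : orderOf (HE.wv apW) = 17 := by
  have : Fact (Nat.Prime 17) := ⟨by norm_num⟩
  refine orderOf_eq_prime (pow_eq_one_of_fix3N apW apW_let 17 ap_17) ?_
  intro h
  have h0 := pt_wv apW apW_let (b := 0) (by norm_num)
  rw [h, pt_one] at h0
  have h1 := ap_ne
  rw [← h0, Nat.beq_refl] at h1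
  exact absurd h1 (by decide)

theorem t_conj_a : HE.wv t2W * HE.wv apW * (HE.wv t2W)⁻¹ = (HE.wv apW) ^ 2 := by
  rw [HE.wv_conj t2W apW (apW ++ apW) t2W_let t_ap_let t_ap_let2 (by rw [baseL_eq]; exact t_ap),
    HE.wv_append, pow_two]

theorem x_conj_t : HE.wv x2W * HE.wv t2W * (HE.wv x2W)⁻¹ = (HE.wv t2W)⁻¹ := by
  rw [HE.wv_conj x2W t2W t2W.reverse x2W_let x_t_let x_t_let2 (by rw [baseL_eq]; exact x_t),
    HE.wv_reverse t2W t2W_let]

theorem ax_pow : (HE.wv apW * HE.wv x2W) ^ 8 = 1 := by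
  rw [← HE.wv_append]
  exact pow_eq_one_of_fix3N _ ax_let 8 ax_8

theorem aax_pow : ((HE.wv apW) ^ 2 * HE.wv x2W) ^ 17 = 1 := by
  rw [pow_two, mul_assoc, ← HE.wv_append, ← HE.wv_append]
  exact pow_eq_one_of_fix3N _ aax_let 17 aax_17

/-- the elements commuting with `t` -/
def centL : Set Cfsg.Spor.He := {c | ∃ cw ∈ centW, c = HE.wv cw}

theorem cent_t (c : Cfsg.Spor.He) (hc : c * HE.wv t2W = HE.wv t2W * c) : c ∈ centL := by
  have hall := scan_sound t2W t2W (fixChk.listAny centQ) t2W_let t2W_let t2W_0 t2W_111 scanC_all c hc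
  have hmem := fixChk.listAny_mem _ _ hall
  obtain ⟨s1, s2⟩ := centChk_spec centW centQ cent_ok
  obtain ⟨cw, hcw, e⟩ := s1 _ hmem
  obtain ⟨l1, l2, _⟩ := s2 cw hcw
  have hcomm : HE.wv cw * HE.wv t2W = HE.wv t2W * HE.wv cw := by
    rw [← HE.wv_append, ← HE.wv_append]
    exact wv_eq' _ _ (letChk_append l1 t2W_let) (letChk_append t2W_let l1) l2
  refine ⟨cw, hcw, ?_⟩
  exact eq_of_comm_of_pt0 t2W t2W_let t2W_0 t2W_111 c (HE.wv cw) hc hcomm
    (by rw [pt_wv cw l1 (by norm_num), e])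

theorem excl (c : Cfsg.Spor.He) (hc : c ∈ centL)
    (h8 : (HE.wv apW * (HE.wv x2W * c)) ^ 8 = 1)
    (h17 : ((HE.wv apW) ^ 2 * (HE.wv x2W * c)) ^ 17 = 1) : c = 1 := by
  obtain ⟨cw, hcw, rfl⟩ := hc
  obtain ⟨l1, _, l3⟩ := (centChk_spec centW centQ cent_ok).2 cw hcw
  unfold hexChk at l3
  rw [Bool.or_eq_true, Bool.or_eq_true] at l3
  rcases l3 with l3 | l3 | l3
  · rw [List.isEmpty_iff] at l3
    rw [l3]; rfl
  · exfalso
    rw [← HE.wv_append, ← HE.wv_append] at h8
    have h := fix3N_of_pow_eq_one _ (letChk_append apW_let (letChk_append x2W_let l1)) 8 h8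
    rw [h] at l3
    exact absurd l3 (by decide)
  · exfalso
    rw [pow_two, mul_assoc, ← HE.wv_append, ← HE.wv_append, ← HE.wv_append] at h17
    have h := fix3N_of_pow_eq_one _
      (letChk_append apW_let (letChk_append apW_let (letChk_append x2W_let l1))) 17 h17
    rw [h] at l3
    exact absurd l3 (by decide)

/-! ### generation -/

theorem symW_let (s : ℕ) : letChk HEN.D.jc (symW s) = true := by
  unfold symW
  split_ifs
  · exact apW_let
  · exact apWr_let
  · exact t2W_let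
  · exact x_t_let2
  · exact x2W_let

theorem sym_mem (s : ℕ) : HE.wv (symW s) ∈
    Subgroup.closure ({HE.wv apW, HE.wv t2W, HE.wv x2W} : Set Cfsg.Spor.He) := by
  have ha : HE.wv apW ∈ Subgroup.closure ({HE.wv apW, HE.wv t2W, HE.wv x2W} : Set Cfsg.Spor.He) :=
    Subgroup.subset_closure (by simp)
  have ht : HE.wv t2W ∈ Subgroup.closure ({HE.wv apW, HE.wv t2W, HE.wv x2W} : Set Cfsg.Spor.He) :=
    Subgroup.subset_closure (by simp)
  have hx : HE.wv x2W ∈ Subgroup.closure ({HE.wv apW, HE.wv t2W, HE.wv x2W} : Set Cfsg.Spor.He) :=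
    Subgroup.subset_closure (by simp)
  unfold symW
  split_ifs
  · exact ha
  · rw [HE.wv_reverse apW apW_let]; exact Subgroup.inv_mem _ ha
  · exact ht
  · rw [HE.wv_reverse t2W t2W_let]; exact Subgroup.inv_mem _ ht
  · exact hx

theorem wv_sym_mem (sw : List ℕ) : HE.wv (sw.flatMap symW) ∈
    Subgroup.closure ({HE.wv apW, HE.wv t2W, HE.wv x2W} : Set Cfsg.Spor.He) := by
  induction sw with
  | nil => exact Subgroup.one_mem _
  | cons s sw ih =>
    rw [List.flatMap_cons, HE.wv_append]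
    exact Subgroup.mul_mem _ (sym_mem s) ih

theorem walkSym_spec (sw : List ℕ) {p : ℕ} (hp : p < 8330) :
    pt (HE.wv (sw.flatMap symW)) p = walkSym sw p := by
  induction sw with
  | nil => exact pt_one p
  | cons s sw ih =>
    rw [List.flatMap_cons, HE.wv_append, pt_mul, ih,
      pt_wv _ (symW_let s) (by rw [← ih]; exact pt_lt _ hp), walkSym_cons]

theorem gv_mem (k : ℕ) (hk : k < 7) (h : genWChk k = true) : HE.gv k ∈
    Subgroup.closure ({HE.wv apW, HE.wv t2W, HE.wv x2W} : Set Cfsg.Spor.He) := by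
  unfold genWChk at h
  rw [Bool.and_eq_true, Bool.and_eq_true] at h
  have hk' : k < HEN.D.jc := hk
  have e : HE.gv k = HE.wv ((nthL genSW k).flatMap symW) := by
    have h1 : (HE.wv ((nthL genSW k).flatMap symW))⁻¹ * HE.gv k = 1 := by
      apply eq_one_of_base
      · rw [pt_mul, pt_gv k hk' (by norm_num), Nat.eq_of_beq_eq_true h.1,
          ← walkSym_spec _ (by norm_num), pt_inv_cancel]
      · rw [pt_mul, pt_gv k hk' (by norm_num), Nat.eq_of_beq_eq_true h.2.1,
          ← walkSym_spec _ (by norm_num), pt_inv_cancel]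
      · rw [pt_mul, pt_gv k hk' (by norm_num), Nat.eq_of_beq_eq_true h.2.2,
          ← walkSym_spec _ (by norm_num), pt_inv_cancel]
    exact (inv_mul_eq_one.mp h1).symm
  rw [e]
  exact wv_sym_mem _

theorem gv_eq_of (k : ℕ) (hk : k < HEN.D.jc) : HE.gv k = PresentedGroup.of (HEN.gen k) :=
  Cfsg.Agent.Helper28.coxVal_of k hk

theorem gen_top : Subgroup.closure ({HE.wv apW, HE.wv t2W, HE.wv x2W} : Set Cfsg.Spor.He) = ⊤ := by
  rw [eq_top_iff, ← PresentedGroup.closure_range_of]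
  apply (Subgroup.closure_le _).mpr
  rintro _ ⟨g0, rfl⟩
  have h0 := gv_mem 0 (by norm_num) genW_0
  have h1 := gv_mem 1 (by norm_num) genW_1
  have h2 := gv_mem 2 (by norm_num) genW_2
  have h3 := gv_mem 3 (by norm_num) genW_3
  have h4 := gv_mem 4 (by norm_num) genW_4
  have h5 := gv_mem 5 (by norm_num) genW_5
  have h6 := gv_mem 6 (by norm_num) genW_6
  rw [gv_eq_of 0 (by decide +kernel)] at h0
  rw [gv_eq_of 1 (by decide +kernel)] at h1
  rw [gv_eq_of 2 (by decide +kernel)] at h2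
  rw [gv_eq_of 3 (by decide +kernel)] at h3
  rw [gv_eq_of 4 (by decide +kernel)] at h4
  rw [gv_eq_of 5 (by decide +kernel)] at h5
  rw [gv_eq_of 6 (by decide +kernel)] at h6
  cases g0
  · exact h0
  · exact h1
  · exact h2
  · exact h3
  · exact h4
  · exact h5
  · exact h6

theorem card_He_fact : (Nat.card Cfsg.Spor.He).factorization 17 = 1 := by
  rw [HE.card_eq, show (4030387200 : ℕ) = 17 * 237081600 by norm_num,
    Nat.factorization_mul (by norm_num) (by norm_num)]
  have h1 : (17 : ℕ).factorization 17 = 1 :=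
    Nat.Prime.factorization_self (by norm_num)
  have h2 : (237081600 : ℕ).factorization 17 = 0 :=
    Nat.factorization_eq_zero_of_not_dvd (by norm_num)
  rw [Finsupp.add_apply, h1, h2]

/-- The outer automorphism group has order 2 as soon as there is an automorphism that is not
inner. -/
theorem card_out_of_outer (φ : MulAut Cfsg.Spor.He) (hφ : φ ∉ Cfsg.Inn Cfsg.Spor.He) :
    Nat.card (Cfsg.Out Cfsg.Spor.He) = 2 := by
  have hfin := HE.finite
  exact card_out_abs17 card_He_fact order_a t_conj_a cent_a cent_t x_conj_t excl ax_pow aax_pow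
    gen_top φ hφ

end Cfsg.Agent.Helper7.HeC
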