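/-
Helper7 library: the centraliser of the transvection `1 + E₀₁` in `SL(5, 2)` has at most 21504
elements, and codes of `5 × 5` matrices over `ZMod 2`.
-/
import Mathlib

set_option autoImplicit false

namespace Cfsg.Agent.Helper7.HeC

open Matrix

/-- `5 × 5` matrices over the field of two elements -/
abbrev M5 := Matrix (Fin 5) (Fin 5) (ZMod 2)

/-- the code of a vector: entry `r` is bit `r` -/
def vcode (v : Fin 5 → ZMod 2) : ℕ :=
  (v 0).val + 2 * (v 1).val + 4 * (v 2).val + 8 * (v 3).val + 16 * (v 4).val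

/-- the code of a matrix: column `k` is the `k`-th digit in base 32 -/
def mcode (N : M5) : ℕ :=
  vcode (fun r => N r 0) + 32 * vcode (fun r => N r 1) + 1024 * vcode (fun r => N r 2)
    + 32768 * vcode (fun r => N r 3) + 1048576 * vcode (fun r => N r 4)

theorem vcode_lt (v : Fin 5 → ZMod 2) : vcode v < 32 := by
  unfold vcode
  have h0 := ZMod.val_lt (v 0)
  have h1 := ZMod.val_lt (v 1)
  have h2 := ZMod.val_lt (v 2)
  have h3 := ZMod.val_lt (v 3)
  have h4 := ZMod.val_lt (v 4)
  omega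

theorem vcode_inj {v w : Fin 5 → ZMod 2} (e : vcode v = vcode w) : v = w := by
  unfold vcode at e
  have h0 := ZMod.val_lt (v 0)
  have h1 := ZMod.val_lt (v 1)
  have h2 := ZMod.val_lt (v 2)
  have h3 := ZMod.val_lt (v 3)
  have h4 := ZMod.val_lt (v 4)
  have k0 := ZMod.val_lt (w 0)
  have k1 := ZMod.val_lt (w 1)
  have k2 := ZMod.val_lt (w 2)
  have k3 := ZMod.val_lt (w 3)
  have k4 := ZMod.val_lt (w 4)
  funext i
  apply ZMod.val_injective 2
  fin_cases i
  · show (v 0).val = (w 0).val; omega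
  · show (v 1).val = (w 1).val; omega
  · show (v 2).val = (w 2).val; omega
  · show (v 3).val = (w 3).val; omega
  · show (v 4).val = (w 4).val; omega

theorem mcode_inj {A B : M5} (e : mcode A = mcode B) : A = B := by
  unfold mcode at e
  have a0 := vcode_lt (fun r => A r 0)
  have a1 := vcode_lt (fun r => A r 1)
  have a2 := vcode_lt (fun r => A r 2)
  have a3 := vcode_lt (fun r => A r 3)
  have a4 := vcode_lt (fun r => A r 4)
  have b0 := vcode_lt (fun r => B r 0)
  have b1 := vcode_lt (fun r => B r 1)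
  have b2 := vcode_lt (fun r => B r 2)
  have b3 := vcode_lt (fun r => B r 3)
  have b4 := vcode_lt (fun r => B r 4)
  have e0 : (fun r => A r 0) = (fun r => B r 0) := vcode_inj (by omega)
  have e1 : (fun r => A r 1) = (fun r => B r 1) := vcode_inj (by omega)
  have e2 : (fun r => A r 2) = (fun r => B r 2) := vcode_inj (by omega)
  have e3 : (fun r => A r 3) = (fun r => B r 3) := vcode_inj (by omega)
  have e4 : (fun r => A r 4) = (fun r => B r 4) := vcode_inj (by omega)
  ext r c
  fin_cases c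
  · exact congrFun e0 r
  · exact congrFun e1 r
  · exact congrFun e2 r
  · exact congrFun e3 r
  · exact congrFun e4 r

/-- entry `c` of a table of 32 five-bit entries -/
def fT (F c : ℕ) : ℕ := Nat.land (Nat.shiftRight F (Nat.mul 5 c)) 31

/-- the table applied to the five columns of a code -/
def mapc (F mc : ℕ) : ℕ :=
  Nat.add (fT F (Nat.mod mc 32)) (Nat.add (Nat.mul 32 (fT F (Nat.mod (Nat.div mc 32) 32)))
    (Nat.add (Nat.mul 1024 (fT F (Nat.mod (Nat.div mc 1024) 32)))
      (Nat.add (Nat.mul 32768 (fT F (Nat.mod (Nat.div mc 32768) 32)))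
        (Nat.mul 1048576 (fT F (Nat.div mc 1048576))))))

theorem mcode_mul (M N : M5) (F : ℕ) (hF : ∀ v : Fin 5 → ZMod 2, vcode (M *ᵥ v) = fT F (vcode v)) :
    mcode (M * N) = mapc F (mcode N) := by
  have a0 := vcode_lt (fun r => N r 0)
  have a1 := vcode_lt (fun r => N r 1)
  have a2 := vcode_lt (fun r => N r 2)
  have a3 := vcode_lt (fun r => N r 3)
  have a4 := vcode_lt (fun r => N r 4)
  have c0 : (fun r => (M * N) r 0) = M *ᵥ (fun r => N r 0) := rfl
  have c1 : (fun r => (M * N) r 1) = M *ᵥ (fun r => N r 1) := rfl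
  have c2 : (fun r => (M * N) r 2) = M *ᵥ (fun r => N r 2) := rfl
  have c3 : (fun r => (M * N) r 3) = M *ᵥ (fun r => N r 3) := rfl
  have c4 : (fun r => (M * N) r 4) = M *ᵥ (fun r => N r 4) := rfl
  have d0 : Nat.mod (mcode N) 32 = vcode (fun r => N r 0) := by
    show mcode N % 32 = _; unfold mcode; omega
  have d1 : Nat.mod (Nat.div (mcode N) 32) 32 = vcode (fun r => N r 1) := by
    show mcode N / 32 % 32 = _; unfold mcode; omega
  have d2 : Nat.mod (Nat.div (mcode N) 1024) 32 = vcode (fun r => N r 2) := by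
    show mcode N / 1024 % 32 = _; unfold mcode; omega
  have d3 : Nat.mod (Nat.div (mcode N) 32768) 32 = vcode (fun r => N r 3) := by
    show mcode N / 32768 % 32 = _; unfold mcode; omega
  have d4 : Nat.div (mcode N) 1048576 = vcode (fun r => N r 4) := by
    show mcode N / 1048576 = _; unfold mcode; omega
  unfold mapc
  rw [d0, d1, d2, d3, d4, ← hF, ← hF, ← hF, ← hF, ← hF, ← c0, ← c1, ← c2, ← c3, ← c4]
  unfold mcode
  simp only [Nat.add_eq, Nat.mul_eq]
  omega

theorem mcode_one : mcode (1 : M5) = 17043521 := by decide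

/-- the image of generator 0 -/
def MG0 : M5 := !![1, 0, 1, 1, 1; 0, 1, 0, 0, 0; 0, 0, 1, 0, 0; 0, 1, 0, 1, 0; 0, 1, 0, 0, 1]

/-- the image of generator 1 -/
def MG1 : M5 := !![1, 1, 0, 0, 0; 0, 1, 0, 0, 0; 0, 0, 1, 0, 0; 0, 0, 0, 1, 0; 0, 0, 0, 1, 1]

/-- the image of generator 2 -/
def MG2 : M5 := !![1, 0, 1, 1, 1; 0, 1, 0, 0, 0; 0, 0, 1, 0, 0; 0, 1, 1, 0, 1; 0, 1, 1, 1, 0]

/-- the image of generator 3 -/
def MG3 : M5 := !![1, 1, 1, 0, 0; 0, 1, 0, 0, 0; 0, 0, 1, 0, 0; 0, 0, 0, 1, 0; 0, 0, 0, 0, 1]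

/-- the image of generator 4 -/
def MG4 : M5 := !![1, 0, 0, 0, 0; 0, 1, 0, 0, 0; 0, 1, 1, 0, 0; 0, 0, 0, 1, 0; 0, 1, 0, 0, 1]

/-- the image of generator 5 -/
def MG5 : M5 := !![1, 0, 0, 1, 1; 0, 1, 0, 0, 0; 0, 0, 1, 0, 0; 0, 1, 0, 0, 1; 0, 1, 0, 1, 0]

/-- the image of generator 6 -/
def MG6 : M5 := !![1, 1, 0, 0, 0; 0, 1, 0, 0, 0; 0, 1, 0, 1, 1; 0, 1, 1, 0, 1; 0, 0, 0, 0, 1]

/-- the images of the seven generators -/
def MM (i : ℕ) : M5 :=
  if i = 0 then MG0 else if i = 1 then MG1 else if i = 2 then MG2 else if i = 3 then MG3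
  else if i = 4 then MG4 else if i = 5 then MG5 else MG6

/-- the tables of the seven generators: entry `c` is the code of the image of the vector with code `c` -/
def FF (i : ℕ) : ℕ :=
  bif Nat.beq i 0 then 0x31f9d18b387bab452e11bd9ac94d09f7c85de820 else bif Nat.beq i 1 then 0x73dac52d28b5eb494e30f7fbcd6f3831ca410c20 else bif Nat.beq i 2 then 0xf7c8518b387bab494d09bd9ac52e1131f9dde820
  else bif Nat.beq i 3 then 0xffb9dd6f38bda9594e307b98d52d283988510c20 else bif Nat.beq i 4 then 0x5abbc7bb3818ab439a30de9acff9289c8a4bd820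
  else bif Nat.beq i 5 then 0x39bbc18b38b5d8d94d0973e9552e11ff8a4de820 else 0xf7e30b5f38d6eb494fbc10dac52ca431d2873c20

theorem MM_sq (i : ℕ) : MM i * MM i = 1 := by
  unfold MM
  split_ifs <;> decide

theorem MM_comm (i : ℕ) :
    (Matrix.transvection 0 1 1 : M5) * MM i = MM i * Matrix.transvection 0 1 1 := by
  unfold MM
  split_ifs <;> decide

theorem MM_tab (i : ℕ) (hi : i < 7) (v : Fin 5 → ZMod 2) :
    vcode (MM i *ᵥ v) = fT (FF i) (vcode v) := by
  revert v
  interval_cases i <;> decide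

theorem det_of_sq (A : M5) (h : A * A = 1) : A.det = 1 := by
  have h2 := congrArg Matrix.det h
  rw [Matrix.det_mul, Matrix.det_one] at h2
  generalize A.det = x at h2
  revert x; decide

/-- the images of the generators, in the special linear group -/
def MS (i : ℕ) : Matrix.SpecialLinearGroup (Fin 5) (ZMod 2) := ⟨MM i, det_of_sq _ (MM_sq i)⟩

theorem MS_sq (i : ℕ) : MS i * MS i = 1 := Subtype.ext (MM_sq i)

theorem MS_mem (s : Matrix.SpecialLinearGroup (Fin 5) (ZMod 2))
    (hs : (s : M5) = Matrix.transvection 0 1 1) (i : ℕ) :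
    MS i ∈ Subgroup.centralizer ({s} : Set (Matrix.SpecialLinearGroup (Fin 5) (ZMod 2))) := by
  rw [Subgroup.mem_centralizer_iff]
  intro h hh
  rw [Set.mem_singleton_iff] at hh
  subst hh
  apply Subtype.ext
  show (h : M5) * MM i = MM i * (h : M5)
  rw [hs]
  exact MM_comm i

/-! ### the centraliser of the transvection -/

/-- the lower right block -/
def blk (A : M5) : Matrix (Fin 3) (Fin 3) (ZMod 2) := fun r c => A r.succ.succ c.succ.succ

theorem blk_mul (A B : M5) (hA : ∀ r : Fin 3, A r.succ.succ 0 = 0)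
    (hB : ∀ c : Fin 3, B 1 c.succ.succ = 0) : blk (A * B) = blk A * blk B := by
  ext r c
  show (A * B) r.succ.succ c.succ.succ = (blk A * blk B) r c
  rw [Matrix.mul_apply, Matrix.mul_apply, Fin.sum_univ_succ, Fin.sum_univ_succ, hA]
  have h : B (Fin.succ 0) c.succ.succ = 0 := hB c
  rw [h, zero_mul, mul_zero, zero_add, zero_add]
  rfl

theorem blk_one : blk 1 = 1 := by
  ext r c
  show (1 : M5) r.succ.succ c.succ.succ = (1 : Matrix (Fin 3) (Fin 3) (ZMod 2)) r c
  rw [Matrix.one_apply, Matrix.one_apply]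
  simp

theorem shape (A : M5)
    (h : (Matrix.transvection 0 1 1 : M5) * A = A * Matrix.transvection 0 1 1) :
    (∀ r : Fin 4, A r.succ 0 = 0) ∧ (∀ c : Fin 5, c ≠ 1 → A 1 c = 0) ∧ A 1 1 = A 0 0 := by
  have hE : Matrix.single (0 : Fin 5) (1 : Fin 5) (1 : ZMod 2) * A = A * Matrix.single 0 1 1 := by
    have h' := h
    simp only [Matrix.transvection, add_mul, mul_add, one_mul, mul_one] at h'
    exact add_left_cancel h'
  refine ⟨fun r => ?_, fun c hc => ?_, ?_⟩
  · have h1 := congrFun (congrFun hE r.succ) 1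
    rw [Matrix.single_mul_apply_of_ne (h := Fin.succ_ne_zero r), Matrix.mul_single_apply_same,
      mul_one] at h1
    exact h1.symm
  · have h1 := congrFun (congrFun hE 0) c
    rw [Matrix.single_mul_apply_same, Matrix.mul_single_apply_of_ne (hbj := hc), one_mul] at h1
    exact h1
  · have h1 := congrFun (congrFun hE 0) 1
    rw [Matrix.single_mul_apply_same, Matrix.mul_single_apply_same, one_mul, mul_one] at h1
    exact h1

theorem a00 (A : M5) (hdet : A.det = 1) (h1 : ∀ r : Fin 4, A r.succ 0 = 0) : A 0 0 = 1 := by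
  by_contra hne
  have h0 : A 0 0 = 0 := by
    generalize A 0 0 = x at hne
    revert x; decide
  have hd : A.det = 0 := Matrix.det_eq_zero_of_column_eq_zero 0 (fun i => by
    refine Fin.cases h0 (fun r => h1 r) i)
  rw [hd] at hdet
  exact zero_ne_one hdet

theorem card_GL3 : Nat.card (GL (Fin 3) (ZMod 2)) = 168 := by
  rw [Matrix.card_GL_field, ZMod.card, Fin.prod_univ_three]
  simp only [Fin.val_zero, Fin.val_one, Fin.val_two]
  norm_num

theorem card_cent_le (s : Matrix.SpecialLinearGroup (Fin 5) (ZMod 2))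
    (hs : (s : M5) = Matrix.transvection 0 1 1) :
    Nat.card (Subgroup.centralizer ({s} : Set (Matrix.SpecialLinearGroup (Fin 5) (ZMod 2))))
      ≤ 21504 := by
  have hcomm : ∀ N ∈ Subgroup.centralizer ({s} : Set (Matrix.SpecialLinearGroup (Fin 5) (ZMod 2))),
      (Matrix.transvection 0 1 1 : M5) * (N : M5) = (N : M5) * Matrix.transvection 0 1 1 := by
    intro N hN
    have h := Subgroup.mem_centralizer_iff.mp hN s rfl
    have h' : (s : M5) * (N : M5) = (N : M5) * (s : M5) := congrArg Subtype.val h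
    rw [hs] at h'
    exact h'
  have hsh := fun N hN => shape _ (hcomm N hN)
  have hinv : ∀ N : Matrix.SpecialLinearGroup (Fin 5) (ZMod 2), (N : M5) * ((N⁻¹ : _) : M5) = 1 :=
    fun N => by
      rw [← Matrix.SpecialLinearGroup.coe_mul, mul_inv_cancel, Matrix.SpecialLinearGroup.coe_one]
  have hinv' : ∀ N : Matrix.SpecialLinearGroup (Fin 5) (ZMod 2), ((N⁻¹ : _) : M5) * (N : M5) = 1 :=
    fun N => by
      rw [← Matrix.SpecialLinearGroup.coe_mul, inv_mul_cancel, Matrix.SpecialLinearGroup.coe_one]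
  let f : Subgroup.centralizer ({s} : Set (Matrix.SpecialLinearGroup (Fin 5) (ZMod 2))) →
      (Fin 4 → ZMod 2) × (Fin 3 → ZMod 2) × GL (Fin 3) (ZMod 2) := fun N =>
    (fun k => (N.1 : M5) 0 k.succ, fun r => (N.1 : M5) r.succ.succ 1,
      ⟨blk (N.1 : M5), blk ((N.1⁻¹ : _) : M5), by
        rw [← blk_mul _ _ (fun r => (hsh N.1 N.2).1 r.succ)
          (fun c => (hsh N.1⁻¹ (Subgroup.inv_mem _ N.2)).2.1 _ (by
            intro h; exact absurd (congrArg Fin.val h) (by simp))), hinv, blk_one], by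
        rw [← blk_mul _ _ (fun r => (hsh N.1⁻¹ (Subgroup.inv_mem _ N.2)).1 r.succ)
          (fun c => (hsh N.1 N.2).2.1 _ (by
            intro h; exact absurd (congrArg Fin.val h) (by simp))), hinv', blk_one]⟩)
  have hf : Function.Injective f := by
    rintro ⟨N, hN⟩ ⟨N', hN'⟩ h
    have e1 : (fun k : Fin 4 => (N : M5) 0 k.succ) = fun k => (N' : M5) 0 k.succ :=
      congrArg (fun t => t.1) h
    have e2 : (fun r : Fin 3 => (N : M5) r.succ.succ 1) = fun r => (N' : M5) r.succ.succ 1 :=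
      congrArg (fun t => t.2.1) h
    have e3 : blk (N : M5) = blk (N' : M5) := congrArg (fun t => (t.2.2).val) h
    obtain ⟨s1, s2, s3⟩ := hsh N hN
    obtain ⟨t1, t2, t3⟩ := hsh N' hN'
    have a := a00 _ N.2 s1
    have a' := a00 _ N'.2 t1
    apply Subtype.ext
    apply Subtype.ext
    ext r c
    refine Fin.cases ?_ (fun r' => ?_) r
    · refine Fin.cases ?_ (fun c' => ?_) c
      · rw [a, a']
      · exact congrFun e1 c'
    · refine Fin.cases ?_ (fun r'' => ?_) r'
      · show (N : M5) 1 c = (N' : M5) 1 c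
        by_cases hc : c = 1
        · rw [hc, s3, t3, a, a']
        · rw [s2 c hc, t2 c hc]
      · refine Fin.cases ?_ (fun c' => ?_) c
        · rw [s1, t1]
        · refine Fin.cases ?_ (fun c'' => ?_) c'
          · exact congrFun e2 r''
          · exact congrFun (congrFun e3 r'') c''
  have hc := Nat.card_le_card_of_injective f hf
  rw [Nat.card_prod, Nat.card_prod, card_GL3, Nat.card_fun, Nat.card_fun, Nat.card_zmod,
    Nat.card_fin, Nat.card_fin] at hc
  exact hc

end Cfsg.Agent.Helper7.HeC
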