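/-
Helper7 library: the automorphism of `He` exchanging the generators `f` and `g` of the
presentation; it is not inner; hence the outer automorphism group of `He` has order 2.
-/
import Cfsg.Agent.Helper7.HeOutSide

set_option autoImplicit false

namespace Cfsg.Agent.Helper7.HeC

open Cfsg.Agent.Helper28

/-- the exchange of the generators `f` and `g` -/
def swG : Cfsg.Spor.He.Gen → Cfsg.Spor.He.Gen
  | .a => .a
  | .b => .b
  | .c => .c
  | .d => .d
  | .e => .e
  | .f => .g
  | .g => .f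

theorem swG_swG (x : Cfsg.Spor.He.Gen) : swG (swG x) = x := by cases x <;> rfl

theorem label_swG (x y : Cfsg.Spor.He.Gen) :
    Cfsg.Spor.coxLabel Cfsg.Spor.He.edges (swG x) (swG y) =
      Cfsg.Spor.coxLabel Cfsg.Spor.He.edges x y := by
  cases x <;> cases y <;> decide

/-- the images of the generators -/
noncomputable def sgF (x : Cfsg.Spor.He.Gen) : Cfsg.Spor.He := PresentedGroup.of (swG x)

theorem sgF_sq (x : Cfsg.Spor.He.Gen) : sgF x * sgF x = 1 :=
  cox_sq Cfsg.Spor.He.edges Cfsg.Spor.He.extra (swG x) (HEN.cert.hnode _)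

theorem swL_lt {a : ℕ} (ha : a < 7) : swL a < 7 := by
  interval_cases a <;> decide

theorem jc_eq : HEN.D.jc = 7 := by decide +kernel

theorem sgF_gen {a : ℕ} (ha : a < 7) : sgF (HEN.gen a) = HE.gv (swL a) := by
  rw [gv_eq_of (swL a) (by rw [jc_eq]; exact swL_lt ha)]
  interval_cases a <;> rfl

theorem map_sgF (l : List ℕ) (hl : ∀ a ∈ l, a < 7) :
    (l.map (fun k => sgF (HEN.gen k))).prod = HE.wv (l.map swL) := by
  induction l with
  | nil => rfl
  | cons a l ih =>
    rw [List.map_cons, List.prod_cons, ih (fun b hb => hl b (List.mem_cons_of_mem _ hb)),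
      sgF_gen (hl a List.mem_cons_self)]
    rfl

theorem sgF_rel : ∀ r ∈ Cfsg.Spor.coxRelators Cfsg.Spor.He.edges ∪ {r | r ∈ Cfsg.Spor.He.extra},
    FreeGroup.lift sgF r = 1 := by
  intro r hr
  rcases hr with ⟨x, hx, y, hy, rfl⟩ | hr
  · rw [map_pow, map_mul, FreeGroup.lift_apply_of, FreeGroup.lift_apply_of, ← label_swG]
    exact cox_pair _ _ (swG x) (swG y) (HEN.cert.hnode _) (HEN.cert.hnode _)
  · have hr' : r ∈ Cfsg.Spor.He.extra := hr
    unfold Cfsg.Spor.He.extra at hr'
    simp only [List.mem_cons, List.mem_nil_iff, or_false] at hr'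
    rcases hr' with rfl | rfl | rfl | rfl
    · rw [HEN.wE_0 Cfsg.Spor.He sgF sgF_sq, map_sgF _ (by decide), ← wv_nil]
      exact wv_eq' _ _ (by decide +kernel) (by decide +kernel) (by decide +kernel)
    · rw [HEN.wE_1 Cfsg.Spor.He sgF sgF_sq, map_sgF _ (by decide), ← wv_nil]
      exact wv_eq' _ _ (by decide +kernel) (by decide +kernel) (by decide +kernel)
    · rw [HEN.wE_2 Cfsg.Spor.He sgF sgF_sq, map_sgF _ (by decide), ← wv_nil]
      exact wv_eq' _ _ (by decide +kernel) (by decide +kernel) (by decide +kernel)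
    · rw [HEN.wE_3 Cfsg.Spor.He sgF sgF_sq, map_sgF _ (by decide), ← wv_nil]
      exact wv_eq' _ _ (by decide +kernel) (by decide +kernel) (by decide +kernel)

/-- the endomorphism exchanging `f` and `g` -/
noncomputable def sg0 : Cfsg.Spor.He →* Cfsg.Spor.He := PresentedGroup.toGroup sgF_rel

theorem sg0_of (x : Cfsg.Spor.He.Gen) : sg0 (PresentedGroup.of x) = PresentedGroup.of (swG x) :=
  PresentedGroup.toGroup.of sgF_rel

theorem sg0_sg0 : sg0.comp sg0 = MonoidHom.id _ := by
  apply PresentedGroup.ext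
  intro x
  rw [MonoidHom.comp_apply, sg0_of, sg0_of, swG_swG]
  rfl

/-- the automorphism exchanging `f` and `g` -/
noncomputable def sgA : MulAut Cfsg.Spor.He := MonoidHom.toMulEquiv sg0 sg0 sg0_sg0 sg0_sg0

theorem sgA_apply (x : Cfsg.Spor.He) : sgA x = sg0 x := rfl

theorem sg0_gv {k : ℕ} (hk : k < 7) : sg0 (HE.gv k) = HE.gv (swL k) := by
  rw [gv_eq_of k (by rw [jc_eq]; exact hk), sg0_of]
  exact sgF_gen hk

theorem sg0_wv (l : List ℕ) (hl : letChk HEN.D.jc l = true) :
    sg0 (HE.wv l) = HE.wv (l.map swL) := by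
  rw [letChk_iff, jc_eq] at hl
  induction l with
  | nil => exact map_one _
  | cons a l ih =>
    have e1 : HE.wv (a :: l) = HE.gv a * HE.wv l := rfl
    have e2 : HE.wv ((a :: l).map swL) = HE.gv (swL a) * HE.wv (l.map swL) := rfl
    rw [e1, e2, map_mul, sg0_gv (hl a List.mem_cons_self),
      ih (fun b hb => hl b (List.mem_cons_of_mem _ hb))]

theorem sgA_wv (l : List ℕ) (hl : letChk HEN.D.jc l = true) :
    sgA (HE.wv l) = HE.wv (l.map swL) := sg0_wv l hl

theorem y0_eq : HE.wv y0W * HE.wv a1W = (HE.wv (apW.map swL)) ^ 3 * HE.wv y0W := by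
  rw [← HE.wv_append, wv_eq' _ _ y0_let1 y0_let2 y0_ok, HE.wv_append, HE.wv_append,
    HE.wv_append, pow_succ, pow_succ, pow_one]
  simp only [mul_assoc]

/-- An automorphism mapping `ap`, a conjugate of `a1`, to an element that is conjugate to the
cube of `a1`, is not inner when `a1` is not conjugate to its cube. -/
theorem not_inner_aux {G : Type} [Group G] (a1 a1c k y0 ap as : G) (φ : MulAut G)
    (hφ : φ ap = as) (hap : ap = k⁻¹ * a1 * k) (hy : y0 * a1 = as ^ 3 * y0)
    (hno : ∀ y, y * a1 = a1c * y → False) (h3 : a1c = a1 ^ 3) : φ ∉ Cfsg.Inn G := by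
  rintro ⟨h, hh⟩
  have e1 : φ ap = h * ap * h⁻¹ := by rw [← hh, MulAut.conj_apply]
  have e2 : (k⁻¹ * a1 * k) ^ 3 = k⁻¹ * a1 ^ 3 * k := by
    have := conj_pow (a := k⁻¹) (b := a1) (i := 3)
    rwa [inv_inv] at this
  apply hno (k * h⁻¹ * y0)
  rw [h3, mul_assoc, hy, ← hφ, e1, hap, conj_pow, e2]
  group

/-- The automorphism exchanging `f` and `g` is not inner: it maps the element `apW` of order
17 to a conjugate of its cube, and `apW` is not conjugate to its cube. -/
theorem sgA_not_inner : sgA ∉ Cfsg.Inn Cfsg.Spor.He :=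
  not_inner_aux (HE.wv a1W) (HE.wv a1W3) (HE.wv kW) (HE.wv y0W) (HE.wv apW)
    (HE.wv (apW.map swL)) sgA (sgA_wv apW apW_let) ap_eq y0_eq no_cube_a1 wv_a1W3

/-- The outer automorphism group of the Held group has order 2. -/
theorem card_out_He : Nat.card (Cfsg.Out Cfsg.Spor.He) = 2 :=
  card_out_of_outer sgA sgA_not_inner

end Cfsg.Agent.Helper7.HeC
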