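/-
Helper7 library: the kernel-checked certificates for the order of the Janko group `J₁`: the
products of the transversal and the stabiliser list are closed under the two generators.
-/
import Cfsg.Agent.Helper7.J1Data

set_option autoImplicit false

namespace Cfsg.Agent.Helper7

open Cfsg

/-- The code of generator `s`. -/
def gC (s : ℕ) : ℕ := bif Nat.beq s 0 then cX else cY

/-- `s * u1 i = u1 (sigC s i) * u2 (tauC s i)`. -/
noncomputable def sigC (s i : ℕ) : ℕ := e16 (bif Nat.beq s 0 then j1SigX else j1SigY) i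
noncomputable def tauC (s i : ℕ) : ℕ := e16 (bif Nat.beq s 0 then j1TauX else j1TauY) i

/-- The multiplication of the stabiliser. -/
noncomputable def m57 (a c : ℕ) : ℕ := e16 j1Mul57 (Nat.add (Nat.mul 57 a) c)

noncomputable def chk1 (s i : ℕ) : Bool :=
  Nat.ble 3080 i || (Nat.blt (sigC s i) 3080 && (Nat.blt (tauC s i) 57 &&
    Nat.beq (mulC (gC s) (u1 i)) (mulC (u1 (sigC s i)) (u2 (tauC s i)))))

theorem chk1_0a : rgAll (chk1 0) 10 0 = true := by decide +kernel
theorem chk1_0b : rgAll (chk1 0) 10 1024 = true := by decide +kernel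
theorem chk1_0c : rgAll (chk1 0) 10 2048 = true := by decide +kernel
theorem chk1_0d : rgAll (chk1 0) 10 3072 = true := by decide +kernel
theorem chk1_1a : rgAll (chk1 1) 10 0 = true := by decide +kernel
theorem chk1_1b : rgAll (chk1 1) 10 1024 = true := by decide +kernel
theorem chk1_1c : rgAll (chk1 1) 10 2048 = true := by decide +kernel
theorem chk1_1d : rgAll (chk1 1) 10 3072 = true := by decide +kernel

theorem chk1_all (s i : ℕ) (hs : s < 2) : chk1 s i = true := by
  by_cases hi : i < 4096
  · have hs' : s = 0 ∨ s = 1 := by omega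
    rcases hs' with rfl | rfl
    · by_cases h1 : i < 1024
      · exact rgAll_spec _ _ _ chk1_0a i (by omega) (by norm_num; omega)
      by_cases h2 : i < 2048
      · exact rgAll_spec _ _ _ chk1_0b i (by omega) (by norm_num; omega)
      by_cases h3 : i < 3072
      · exact rgAll_spec _ _ _ chk1_0c i (by omega) (by norm_num; omega)
      · exact rgAll_spec _ _ _ chk1_0d i (by omega) (by norm_num; omega)
    · by_cases h1 : i < 1024
      · exact rgAll_spec _ _ _ chk1_1a i (by omega) (by norm_num; omega)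
      by_cases h2 : i < 2048
      · exact rgAll_spec _ _ _ chk1_1b i (by omega) (by norm_num; omega)
      by_cases h3 : i < 3072
      · exact rgAll_spec _ _ _ chk1_1c i (by omega) (by norm_num; omega)
      · exact rgAll_spec _ _ _ chk1_1d i (by omega) (by norm_num; omega)
  · have : Nat.ble 3080 i = true := Nat.ble_eq_true_of_le (by omega)
    rw [chk1, this]; rfl

theorem chk1_spec {s i : ℕ} (hs : s < 2) (hi : i < 3080) :
    sigC s i < 3080 ∧ tauC s i < 57 ∧
      mulC (gC s) (u1 i) = mulC (u1 (sigC s i)) (u2 (tauC s i)) := by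
  have h := chk1_all s i hs
  have h0 : Nat.ble 3080 i = false := by
    rw [← Bool.not_eq_true]; intro h'; have := Nat.le_of_ble_eq_true h'; omega
  rw [chk1, h0, Bool.false_or, Bool.and_eq_true, Bool.and_eq_true] at h
  exact ⟨Nat.le_of_ble_eq_true h.1, Nat.le_of_ble_eq_true h.2.1, Nat.eq_of_beq_eq_true h.2.2⟩

/-- The stabiliser list is closed under multiplication. -/
noncomputable def chk2 (a c : ℕ) : Bool :=
  Nat.ble 57 c || (Nat.blt (m57 a c) 57 && Nat.beq (mulC (u2 a) (u2 c)) (u2 (m57 a c)))

theorem chk2_a : rgAll (fun a => Nat.ble 57 a || rgAll (chk2 a) 6 0) 6 0 = true := by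
  decide +kernel

theorem chk2_spec {a c : ℕ} (ha : a < 57) (hc : c < 57) :
    m57 a c < 57 ∧ mulC (u2 a) (u2 c) = u2 (m57 a c) := by
  have h := rgAll_spec _ _ _ chk2_a a (by omega) (by norm_num; omega)
  have h0 : ∀ x, x < 57 → Nat.ble 57 x = false := fun x hx => by
    rw [← Bool.not_eq_true]; intro h'; have := Nat.le_of_ble_eq_true h'; omega
  simp only [h0 a ha, Bool.false_or] at h
  have h2 := rgAll_spec _ _ _ h c (by omega) (by norm_num; omega)
  rw [chk2, h0 c hc, Bool.false_or, Bool.and_eq_true] at h2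
  exact ⟨Nat.le_of_ble_eq_true h2.1, Nat.eq_of_beq_eq_true h2.2⟩

/-- The stabiliser elements fix the base vector, are listed in increasing order, and have
reduced entries. -/
noncomputable def chk3 (j : ℕ) : Bool :=
  Nat.ble 57 j || (Nat.beq (mvC (u2 j) bC) bC && (Nat.beq (mulC (u2 j) idC) (u2 j) &&
    (Nat.ble 56 j || Nat.blt (u2 j) (u2 (Nat.add j 1)))))

theorem chk3_a : rgAll chk3 6 0 = true := by decide +kernel

theorem chk3_spec {j : ℕ} (hj : j < 57) :
    mvC (u2 j) bC = bC ∧ mulC (u2 j) idC = u2 j ∧ (j < 56 → u2 j < u2 (j + 1)) := by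
  have h := rgAll_spec _ _ _ chk3_a j (by omega) (by norm_num; omega)
  have h0 : ∀ n x, x < n → Nat.ble n x = false := fun n x hx => by
    rw [← Bool.not_eq_true]; intro h'; have := Nat.le_of_ble_eq_true h'; omega
  rw [chk3, h0 57 j hj, Bool.false_or, Bool.and_eq_true, Bool.and_eq_true] at h
  refine ⟨Nat.eq_of_beq_eq_true h.1, Nat.eq_of_beq_eq_true h.2.1, fun hj' => ?_⟩
  have h3 := h.2.2
  rw [h0 56 j hj', Bool.false_or] at h3
  exact Nat.le_of_ble_eq_true h3

/-- The images of the base vector under the transversal are listed in increasing order. -/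
noncomputable def chk4 (i : ℕ) : Bool :=
  Nat.ble 3079 i || Nat.blt (mvC (u1 i) bC) (mvC (u1 (Nat.add i 1)) bC)

theorem chk4_a : rgAll chk4 12 0 = true := by decide +kernel

theorem chk4_spec {i : ℕ} (hi : i < 3079) : mvC (u1 i) bC < mvC (u1 (i + 1)) bC := by
  have h := rgAll_spec _ _ _ chk4_a i (by omega) (by norm_num; omega)
  have h0 : Nat.ble 3079 i = false := by
    rw [← Bool.not_eq_true]; intro h'; have := Nat.le_of_ble_eq_true h'; omega
  rw [chk4, h0, Bool.false_or] at h
  exact Nat.le_of_ble_eq_true h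

/-- The tree of the transversal. -/
noncomputable def chk6 (i : ℕ) : Bool :=
  Nat.ble 3080 i || (Nat.beq i j1Root || (Nat.blt (e16 j1Dep (e16 j1Par i)) (e16 j1Dep i) &&
    (Nat.blt (e16 j1Par i) 3080 &&
      Nat.beq (mulC (gC (e16 j1Gen i)) (u1 (e16 j1Par i))) (u1 i))))

theorem chk6_a : rgAll chk6 11 0 = true := by decide +kernel
theorem chk6_b : rgAll chk6 11 2048 = true := by decide +kernel

theorem chk6_spec {i : ℕ} (hi : i < 3080) (hr : i ≠ j1Root) :
    e16 j1Dep (e16 j1Par i) < e16 j1Dep i ∧ e16 j1Par i < 3080 ∧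
      mulC (gC (e16 j1Gen i)) (u1 (e16 j1Par i)) = u1 i := by
  have h : chk6 i = true := by
    by_cases h1 : i < 2048
    · exact rgAll_spec _ _ _ chk6_a i (by omega) (by norm_num; omega)
    · exact rgAll_spec _ _ _ chk6_b i (by omega) (by norm_num; omega)
  have h0 : Nat.ble 3080 i = false := by
    rw [← Bool.not_eq_true]; intro h'; have := Nat.le_of_ble_eq_true h'; omega
  have h1 : Nat.beq i j1Root = false := by
    rw [← Bool.not_eq_true]; intro h'; exact hr (Nat.eq_of_beq_eq_true h')
  rw [chk6, h0, h1, Bool.false_or, Bool.false_or, Bool.and_eq_true, Bool.and_eq_true] at h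
  exact ⟨Nat.le_of_ble_eq_true h.1, Nat.le_of_ble_eq_true h.2.1, Nat.eq_of_beq_eq_true h.2.2⟩

/-- Every stabiliser element occurs in the table of the first generator. -/
noncomputable def chk7 (j : ℕ) : Bool :=
  Nat.ble 57 j || (Nat.blt (e16 j1WitI j) 3080 && Nat.beq (tauC 0 (e16 j1WitI j)) j)

theorem chk7_a : rgAll chk7 6 0 = true := by decide +kernel

theorem chk7_spec {j : ℕ} (hj : j < 57) : e16 j1WitI j < 3080 ∧ tauC 0 (e16 j1WitI j) = j := by
  have h := rgAll_spec _ _ _ chk7_a j (by omega) (by norm_num; omega)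
  have h0 : Nat.ble 57 j = false := by
    rw [← Bool.not_eq_true]; intro h'; have := Nat.le_of_ble_eq_true h'; omega
  rw [chk7, h0, Bool.false_or, Bool.and_eq_true] at h
  exact ⟨Nat.le_of_ble_eq_true h.1, Nat.eq_of_beq_eq_true h.2⟩

theorem u1_root : u1 j1Root = idC := by decide +kernel

theorem u2_one : u2 j1One = idC := by decide +kernel

theorem pow_1024_49 : (1024 : ℕ) ^ 49 = 2 ^ 490 := by
  rw [show (1024 : ℕ) = 2 ^ 10 by norm_num, ← pow_mul]

set_option exponentiation.threshold 600 in
theorem u1_lt (i : ℕ) : u1 i < 1024 ^ 49 := by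
  rw [pow_1024_49]; exact Nat.mod_lt _ (Nat.pow_pos (by norm_num))

set_option exponentiation.threshold 600 in
theorem u2_lt (j : ℕ) : u2 j < 1024 ^ 49 := by
  rw [pow_1024_49]; exact Nat.mod_lt _ (Nat.pow_pos (by norm_num))

end Cfsg.Agent.Helper7
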