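/-
Helper7 library: the order of the Janko group `J₁ = ⟨X, Y⟩ ≤ GL₇(11)` is 175560. Every element
is uniquely a product `U1g i * U2g j` of one of 3080 transversal elements and one of the 57
elements of the stabiliser of the base vector.
-/
import Cfsg.Agent.Helper7.J1Checks

set_option autoImplicit false

namespace Cfsg.Agent.Helper7

open Cfsg
open scoped Pointwise

/-- Generator `s` of `J₁`. -/
def gG (s : ℕ) : GL (Fin 7) (ZMod 11) := if s = 0 then Spor.jankoX else Spor.jankoY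

theorem gG_mem (s : ℕ) : gG s ∈ Spor.J1 := by
  unfold gG
  split_ifs
  · exact Subgroup.subset_closure (Set.mem_insert _ _)
  · exact Subgroup.subset_closure (Set.mem_insert_of_mem _ rfl)

theorem isCode_gG (s : ℕ) : IsCode (gG s) (gC s) := by
  unfold gG
  split_ifs with h
  · subst h; exact isCode_X
  · have : gC s = cY := by
      have h1 : Nat.beq s 0 = false := by
        rw [← Bool.not_eq_true]; intro h'; exact h (Nat.eq_of_beq_eq_true h')
      rw [gC, h1]; rfl
    rw [this]; exact isCode_Y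

theorem exists_u1 : ∀ d i, i < 3080 → e16 j1Dep i = d →
    ∃ g : GL (Fin 7) (ZMod 11), g ∈ Spor.J1 ∧ IsCode g (u1 i) := by
  intro d
  induction d using Nat.strong_induction_on with
  | _ d ih =>
    intro i hi hd
    by_cases hr : i = j1Root
    · subst hr; exact ⟨1, one_mem _, by rw [u1_root]; exact isCode_one⟩
    · obtain ⟨h1, h2, h3⟩ := chk6_spec hi hr
      obtain ⟨g, hg, hc⟩ := ih _ (hd ▸ h1) _ h2 rfl
      exact ⟨gG (e16 j1Gen i) * g, mul_mem (gG_mem _) hg, by
        rw [← h3]; exact IsCode.mul (isCode_gG _) hc⟩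

theorem exists_u2 (j : ℕ) (hj : j < 57) :
    ∃ g : GL (Fin 7) (ZMod 11), g ∈ Spor.J1 ∧ IsCode g (u2 j) := by
  obtain ⟨hi, ht⟩ := chk7_spec hj
  obtain ⟨h1, _, h3⟩ := chk1_spec (s := 0) (by norm_num) hi
  rw [ht] at h3
  obtain ⟨gi, hgi, hci⟩ := exists_u1 _ _ hi rfl
  obtain ⟨gs, hgs, hcs⟩ := exists_u1 _ _ h1 rfl
  have hM : IsCodeM (matOf (u2 j)) (u2 j) :=
    isCodeM_matOf (dg_lt_of_mulC_eq (chk3_spec hj).2.1)
  have e1 : IsCodeM ((gs : Matrix (Fin 7) (Fin 7) (ZMod 11)) * matOf (u2 j))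
      (mulC (u1 (sigC 0 (e16 j1WitI j))) (u2 j)) := IsCodeM.mul hcs hM
  have e2 : IsCode (gG 0 * gi) (mulC (gC 0) (u1 (e16 j1WitI j))) := IsCode.mul (isCode_gG 0) hci
  rw [h3] at e2
  have e3 : (gs : Matrix (Fin 7) (Fin 7) (ZMod 11)) * matOf (u2 j) =
      ((gG 0 * gi : GL (Fin 7) (ZMod 11)) : Matrix (Fin 7) (Fin 7) (ZMod 11)) := IsCodeM.eq e1 e2
  refine ⟨gs⁻¹ * (gG 0 * gi), mul_mem (inv_mem hgs) (mul_mem (gG_mem 0) hgi), ?_⟩
  have e4 : ((gs⁻¹ * (gG 0 * gi) : GL (Fin 7) (ZMod 11)) : Matrix (Fin 7) (Fin 7) (ZMod 11)) =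
      matOf (u2 j) := by
    rw [Units.val_mul, ← e3, ← mul_assoc, ← Units.val_mul, inv_mul_cancel, Units.val_one, one_mul]
  show IsCodeM _ _
  rw [e4]; exact hM

/-- The transversal element with code `u1 i`. -/
noncomputable def U1g (i : ℕ) : GL (Fin 7) (ZMod 11) :=
  if h : i < 3080 then Classical.choose (exists_u1 _ i h rfl) else 1

theorem U1g_mem (i : ℕ) : U1g i ∈ Spor.J1 := by
  unfold U1g
  split_ifs with h
  · exact (Classical.choose_spec (exists_u1 _ i h rfl)).1
  · exact one_mem _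

theorem U1g_code {i : ℕ} (hi : i < 3080) : IsCode (U1g i) (u1 i) := by
  unfold U1g
  rw [dif_pos hi]
  exact (Classical.choose_spec (exists_u1 _ i hi rfl)).2

/-- The stabiliser element with code `u2 j`. -/
noncomputable def U2g (j : ℕ) : GL (Fin 7) (ZMod 11) :=
  if h : j < 57 then Classical.choose (exists_u2 j h) else 1

theorem U2g_mem (j : ℕ) : U2g j ∈ Spor.J1 := by
  unfold U2g
  split_ifs with h
  · exact (Classical.choose_spec (exists_u2 j h)).1
  · exact one_mem _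

theorem U2g_code {j : ℕ} (hj : j < 57) : IsCode (U2g j) (u2 j) := by
  unfold U2g
  rw [dif_pos hj]
  exact (Classical.choose_spec (exists_u2 j hj)).2

theorem U2g_mul {a c : ℕ} (ha : a < 57) (hc : c < 57) : U2g a * U2g c = U2g (m57 a c) := by
  obtain ⟨h1, h2⟩ := chk2_spec ha hc
  have e := IsCode.mul (U2g_code ha) (U2g_code hc)
  rw [h2] at e
  exact IsCode.eq e (U2g_code h1)

theorem U1g_root : U1g j1Root = 1 :=
  IsCode.eq (U1g_code (by decide)) (by rw [u1_root]; exact isCode_one)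

theorem U2g_one : U2g j1One = 1 :=
  IsCode.eq (U2g_code (by decide)) (by rw [u2_one]; exact isCode_one)

/-- A generator times a product of the two lists. -/
theorem gG_mul_U {s i j : ℕ} (hs : s < 2) (hi : i < 3080) (hj : j < 57) :
    gG s * (U1g i * U2g j) = U1g (sigC s i) * U2g (m57 (tauC s i) j) := by
  obtain ⟨h1, h2, h3⟩ := chk1_spec hs hi
  have e1 : gG s * U1g i = U1g (sigC s i) * U2g (tauC s i) := by
    have a := IsCode.mul (isCode_gG s) (U1g_code hi)
    rw [h3] at a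
    exact IsCode.eq a (IsCode.mul (U1g_code h1) (U2g_code h2))
  rw [← mul_assoc, e1, mul_assoc, U2g_mul h2 hj]

/-- The set of products of the two lists. -/
def j1R : Set (GL (Fin 7) (ZMod 11)) := {g | ∃ i j, i < 3080 ∧ j < 57 ∧ g = U1g i * U2g j}

theorem j1_sub {g : GL (Fin 7) (ZMod 11)} (hg : g ∈ Spor.J1) : g ∈ j1R := by
  have hstab : Spor.J1 ≤ MulAction.stabilizer (GL (Fin 7) (ZMod 11)) j1R := by
    rw [Spor.J1, Subgroup.closure_le]
    intro g hg
    rw [SetLike.mem_coe, MulAction.mem_stabilizer_set' (Set.toFinite _)]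
    rintro t ⟨i, j, hi, hj, rfl⟩
    have key : ∀ s, s < 2 → gG s • (U1g i * U2g j) ∈ j1R := fun s hs => by
      rw [smul_eq_mul, gG_mul_U hs hi hj]
      obtain ⟨h1, h2, _⟩ := chk1_spec hs hi
      exact ⟨_, _, h1, (chk2_spec h2 hj).1, rfl⟩
    rcases hg with rfl | hg
    · exact key 0 (by norm_num)
    · rw [Set.mem_singleton_iff] at hg
      subst hg
      exact key 1 (by norm_num)
  have h := hstab hg
  rw [MulAction.mem_stabilizer_set' (Set.toFinite _)] at h
  have h1 : (1 : GL (Fin 7) (ZMod 11)) ∈ j1R :=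
    ⟨j1Root, j1One, by decide, by decide, by rw [U1g_root, U2g_one, one_mul]⟩
  have h2 := h h1
  rwa [smul_eq_mul, mul_one] at h2

theorem j1_coords {g : GL (Fin 7) (ZMod 11)} (hg : g ∈ Spor.J1) :
    ∃ i j, i < 3080 ∧ j < 57 ∧ g = U1g i * U2g j := j1_sub hg

/-- The stabiliser elements fix the base vector. -/
theorem U2g_bvec {j : ℕ} (hj : j < 57) :
    (U2g j : Matrix (Fin 7) (Fin 7) (ZMod 11)).mulVec bvec = bvec := by
  have h := IsCodeM.mulVec (U2g_code hj) isVec_bvec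
  rw [(chk3_spec hj).1] at h
  exact IsVec.eq h isVec_bvec

theorem isVec_U1g {i : ℕ} (hi : i < 3080) :
    IsVec ((U1g i : Matrix (Fin 7) (Fin 7) (ZMod 11)).mulVec bvec) (mvC (u1 i) bC) :=
  IsCodeM.mulVec (U1g_code hi) isVec_bvec

theorem mvC_u1_lt : ∀ j i, i < j → j < 3080 → mvC (u1 i) bC < mvC (u1 j) bC := by
  intro j
  induction j with
  | zero => intro i h; omega
  | succ j ih =>
    intro i hi hj
    have h1 := chk4_spec (i := j) (by omega)
    rcases Nat.lt_succ_iff_lt_or_eq.mp hi with h | h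
    · exact lt_trans (ih i h (by omega)) h1
    · subst h; exact h1

theorem u2_strict : ∀ j i, i < j → j < 57 → u2 i < u2 j := by
  intro j
  induction j with
  | zero => intro i h; omega
  | succ j ih =>
    intro i hi hj
    have h1 := (chk3_spec (j := j) (by omega)).2.2 (by omega)
    rcases Nat.lt_succ_iff_lt_or_eq.mp hi with h | h
    · exact lt_trans (ih i h (by omega)) h1
    · subst h; exact h1

theorem U_inj {i j i' j' : ℕ} (hi : i < 3080) (hj : j < 57) (hi' : i' < 3080) (hj' : j' < 57)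
    (h : U1g i * U2g j = U1g i' * U2g j') : i = i' ∧ j = j' := by
  have e1 : ∀ a c, c < 57 → ((U1g a * U2g c : GL (Fin 7) (ZMod 11)) :
      Matrix (Fin 7) (Fin 7) (ZMod 11)).mulVec bvec =
      (U1g a : Matrix (Fin 7) (Fin 7) (ZMod 11)).mulVec bvec := fun a c hc => by
    rw [Units.val_mul, ← Matrix.mulVec_mulVec, U2g_bvec hc]
  have e2 : (U1g i : Matrix (Fin 7) (Fin 7) (ZMod 11)).mulVec bvec =
      (U1g i' : Matrix (Fin 7) (Fin 7) (ZMod 11)).mulVec bvec := by
    rw [← e1 i j hj, ← e1 i' j' hj', h]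
  have e3 : mvC (u1 i) bC = mvC (u1 i') bC := by
    have a := isVec_U1g hi
    rw [e2] at a
    exact IsVec.code_eq a (isVec_U1g hi') (mvC_lt _ _) (mvC_lt _ _)
  have hii : i = i' := by
    rcases lt_trichotomy i i' with h1 | h1 | h1
    · exact absurd e3 (ne_of_lt (mvC_u1_lt i' i h1 hi'))
    · exact h1
    · exact absurd e3.symm (ne_of_lt (mvC_u1_lt i i' h1 hi))
  subst hii
  refine ⟨rfl, ?_⟩
  have e4 : U2g j = U2g j' := mul_left_cancel h
  have e5 : u2 j = u2 j' := by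
    have a := U2g_code hj
    rw [e4] at a
    exact IsCodeM.code_eq a (U2g_code hj') (u2_lt _) (u2_lt _)
  rcases lt_trichotomy j j' with h1 | h1 | h1
  · exact absurd e5 (ne_of_lt (u2_strict j' j h1 hj'))
  · exact h1
  · exact absurd e5.symm (ne_of_lt (u2_strict j j' h1 hj))

/-- The order of `J₁`. -/
theorem card_J1 : Nat.card ↥Spor.J1 = 175560 := by
  let f : Fin 3080 × Fin 57 → ↥Spor.J1 := fun p =>
    ⟨U1g p.1 * U2g p.2, mul_mem (U1g_mem _) (U2g_mem _)⟩
  have hf : Function.Bijective f := by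
    constructor
    · rintro ⟨a, c⟩ ⟨a', c'⟩ h
      have h' : U1g a * U2g c = U1g a' * U2g c' := congrArg Subtype.val h
      obtain ⟨h1, h2⟩ := U_inj a.2 c.2 a'.2 c'.2 h'
      exact Prod.ext (Fin.ext h1) (Fin.ext h2)
    · rintro ⟨g, hg⟩
      obtain ⟨i, j, hi, hj, rfl⟩ := j1_coords hg
      exact ⟨(⟨i, hi⟩, ⟨j, hj⟩), rfl⟩
  rw [← Nat.card_congr (Equiv.ofBijective f hf), Nat.card_prod, Nat.card_fin, Nat.card_fin]

end Cfsg.Agent.Helper7
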