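/-
Helper7 library: the elements of the Janko group `J₁` by number. Element `q < 175560` is
`Qg q = U1g (q / 57) * U2g (q % 57)`, with code `cQ q`; identities between products of such
elements are decided on codes. Also: powers of codes, orthogonality of the elements of `J₁`, and
the test bounding the centraliser of an element by a list.
-/
import Cfsg.Agent.Helper7.J1Order

set_option autoImplicit false

namespace Cfsg.Agent.Helper7

open Cfsg

theorem IsCode.code_eq {g : GL (Fin 7) (ZMod 11)} {c c' : ℕ} (h : IsCode g c) (h' : IsCode g c')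
    (hc : c < 1024 ^ 49) (hc' : c' < 1024 ^ 49) : c = c' := IsCodeM.code_eq h h' hc hc'

theorem idC_lt : idC < 1024 ^ 49 := by unfold idC; norm_num

/-- The code of element number `q`. -/
noncomputable def cQ (q : ℕ) : ℕ := mulC (u1 (Nat.div q 57)) (u2 (Nat.mod q 57))

/-- Element number `q` of `J₁`. -/
noncomputable def Qg (q : ℕ) : ↥Spor.J1 :=
  ⟨U1g (q / 57) * U2g (q % 57), mul_mem (U1g_mem _) (U2g_mem _)⟩

theorem isCode_Qg {q : ℕ} (hq : q < 175560) : IsCode (Qg q : GL (Fin 7) (ZMod 11)) (cQ q) :=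
  IsCode.mul (U1g_code (by omega)) (U2g_code (Nat.mod_lt _ (by norm_num)))

theorem cQ_lt (q : ℕ) : cQ q < 1024 ^ 49 := mulC_lt _ _

theorem exists_Qg (g : ↥Spor.J1) : ∃ q, q < 175560 ∧ g = Qg q := by
  obtain ⟨i, j, hi, hj, h⟩ := j1_coords g.2
  refine ⟨57 * i + j, by omega, Subtype.ext ?_⟩
  have e1 : (57 * i + j) / 57 = i := by omega
  have e2 : (57 * i + j) % 57 = j := by omega
  show (g : GL (Fin 7) (ZMod 11)) = U1g ((57 * i + j) / 57) * U2g ((57 * i + j) % 57)
  rw [e1, e2, h]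

theorem Qg_inj {q q' : ℕ} (hq : q < 175560) (hq' : q' < 175560) (h : Qg q = Qg q') : q = q' := by
  have h' : U1g (q / 57) * U2g (q % 57) = U1g (q' / 57) * U2g (q' % 57) := congrArg Subtype.val h
  obtain ⟨h1, h2⟩ := U_inj (by omega) (Nat.mod_lt _ (by norm_num)) (by omega)
    (Nat.mod_lt _ (by norm_num)) h'
  omega

theorem Qg_eq_of_isCode {g : ↥Spor.J1} {q : ℕ} (hq : q < 175560)
    (h : IsCode (g : GL (Fin 7) (ZMod 11)) (cQ q)) : g = Qg q :=
  Subtype.ext (IsCode.eq h (isCode_Qg hq))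

/-- Two elements with the same code are equal. -/
theorem eq_of_isCode {g h : ↥Spor.J1} {c : ℕ} (hg : IsCode (g : GL (Fin 7) (ZMod 11)) c)
    (hh : IsCode (h : GL (Fin 7) (ZMod 11)) c) : g = h := Subtype.ext (IsCode.eq hg hh)

theorem isCode_mul {g h : ↥Spor.J1} {c d : ℕ} (hg : IsCode (g : GL (Fin 7) (ZMod 11)) c)
    (hh : IsCode (h : GL (Fin 7) (ZMod 11)) d) :
    IsCode ((g * h : ↥Spor.J1) : GL (Fin 7) (ZMod 11)) (mulC c d) := IsCode.mul hg hh

theorem isCode_one' : IsCode ((1 : ↥Spor.J1) : GL (Fin 7) (ZMod 11)) idC := isCode_one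

theorem Qg_mul {a b c : ℕ} (ha : a < 175560) (hb : b < 175560) (hc : c < 175560)
    (h : mulC (cQ a) (cQ b) = cQ c) : Qg a * Qg b = Qg c :=
  Qg_eq_of_isCode hc (h ▸ isCode_mul (isCode_Qg ha) (isCode_Qg hb))

/-- The number of the identity. -/
theorem cQ_one : cQ 22918 = idC := by decide +kernel

theorem Qg_one : Qg 22918 = 1 :=
  (Qg_eq_of_isCode (by norm_num) (by rw [cQ_one]; exact isCode_one')).symm

/-- The generators as elements of `J₁`. -/
def jG (s : ℕ) : ↥Spor.J1 := ⟨gG s, gG_mem s⟩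

theorem isCode_jG (s : ℕ) : IsCode (jG s : GL (Fin 7) (ZMod 11)) (gC s) := isCode_gG s

/-- A subgroup of `J₁` containing the two generators is everything. -/
theorem eq_top_of_jG_mem {N : Subgroup ↥Spor.J1} (h0 : jG 0 ∈ N) (h1 : jG 1 ∈ N) : N = ⊤ := by
  rw [eq_top_iff]
  intro g _
  have hle : Spor.J1 ≤ N.map Spor.J1.subtype := by
    show Subgroup.closure {Spor.jankoX, Spor.jankoY} ≤ _
    rw [Subgroup.closure_le]
    intro x hx
    rcases hx with rfl | hx
    · exact ⟨jG 0, h0, rfl⟩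
    · rw [Set.mem_singleton_iff] at hx
      subst hx
      exact ⟨jG 1, h1, rfl⟩
  obtain ⟨n, hn, hng⟩ := hle g.2
  have : n = g := Subtype.ext hng
  rwa [← this]

/-! ### Powers -/

/-- The code of a power. -/
def jpowC (c : ℕ) : ℕ → ℕ
  | 0 => idC
  | n + 1 => mulC (jpowC c n) c

theorem jpowC_lt (c n : ℕ) : jpowC c n < 1024 ^ 49 := by
  cases n with
  | zero => exact idC_lt
  | succ n => exact mulC_lt _ _

theorem isCode_pow {g : ↥Spor.J1} {c : ℕ} (h : IsCode (g : GL (Fin 7) (ZMod 11)) c) (n : ℕ) :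
    IsCode ((g ^ n : ↥Spor.J1) : GL (Fin 7) (ZMod 11)) (jpowC c n) := by
  induction n with
  | zero => rw [pow_zero]; exact isCode_one'
  | succ n ih => rw [pow_succ]; exact isCode_mul ih h

/-- An element is the identity exactly when its code is the code of the identity. -/
theorem eq_one_iff_code {g : ↥Spor.J1} {c : ℕ} (h : IsCode (g : GL (Fin 7) (ZMod 11)) c)
    (hc : c < 1024 ^ 49) : g = 1 ↔ c = idC := by
  constructor
  · rintro rfl
    exact IsCode.code_eq h isCode_one' hc idC_lt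
  · rintro rfl
    exact eq_of_isCode h isCode_one'

theorem pow_eq_one_iff_code {g : ↥Spor.J1} {c : ℕ} (h : IsCode (g : GL (Fin 7) (ZMod 11)) c)
    (n : ℕ) : g ^ n = 1 ↔ jpowC c n = idC :=
  eq_one_iff_code (isCode_pow h n) (jpowC_lt c n)

/-- The order of an element from its code, for a prime. -/
theorem orderOf_eq_prime_of_code {g : ↥Spor.J1} {c : ℕ}
    (h : IsCode (g : GL (Fin 7) (ZMod 11)) c) {p : ℕ} [Fact p.Prime] (h1 : jpowC c p = idC)
    (h2 : jpowC c 1 ≠ idC) : orderOf g = p := by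
  refine orderOf_eq_prime ((pow_eq_one_iff_code h p).mpr h1) (fun hg => h2 ?_)
  rw [← pow_eq_one_iff_code h 1, pow_one, hg]

/-! ### Orthogonality -/

theorem J1_orth {g : GL (Fin 7) (ZMod 11)} (hg : g ∈ Spor.J1) :
    (g : Matrix (Fin 7) (Fin 7) (ZMod 11)).transpose * (g : Matrix (Fin 7) (Fin 7) (ZMod 11)) =
      1 := by
  have key : ∀ x : GL (Fin 7) (ZMod 11), x ∈ Spor.J1 →
      (x : Matrix (Fin 7) (Fin 7) (ZMod 11)).transpose *
        (x : Matrix (Fin 7) (Fin 7) (ZMod 11)) = 1 := by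
    intro x hx
    unfold Spor.J1 at hx
    induction hx using Subgroup.closure_induction with
    | mem x hx =>
      rcases hx with rfl | hx
      · show jankoMatrixX.transpose * jankoMatrixX = 1
        decide
      · rw [Set.mem_singleton_iff] at hx
        subst hx
        show jankoMatrixY.transpose * jankoMatrixY = 1
        decide
    | one => simp
    | mul x y _ _ hx hy =>
      rw [Units.val_mul, Matrix.transpose_mul, Matrix.mul_assoc,
        ← Matrix.mul_assoc _ (x : Matrix (Fin 7) (Fin 7) (ZMod 11)), hx, Matrix.one_mul, hy]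
    | inv x _ hx =>
      have h1 : ((x⁻¹ : GL (Fin 7) (ZMod 11)) : Matrix (Fin 7) (Fin 7) (ZMod 11)) =
          (x : Matrix (Fin 7) (Fin 7) (ZMod 11)).transpose := by
        have h2 : ((x⁻¹ : GL (Fin 7) (ZMod 11)) : Matrix (Fin 7) (Fin 7) (ZMod 11)) *
            (x : Matrix (Fin 7) (Fin 7) (ZMod 11)) = 1 := by
          rw [← Units.val_mul, inv_mul_cancel, Units.val_one]
        calc ((x⁻¹ : GL (Fin 7) (ZMod 11)) : Matrix (Fin 7) (Fin 7) (ZMod 11))
            = ((x⁻¹ : GL (Fin 7) (ZMod 11)) : Matrix (Fin 7) (Fin 7) (ZMod 11)) *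
              ((x : Matrix (Fin 7) (Fin 7) (ZMod 11)) *
                (x : Matrix (Fin 7) (Fin 7) (ZMod 11)).transpose) := by
              rw [mul_eq_one_comm.mp hx, Matrix.mul_one]
          _ = (x : Matrix (Fin 7) (Fin 7) (ZMod 11)).transpose := by
              rw [← Matrix.mul_assoc, h2, Matrix.one_mul]
      rw [h1, Matrix.transpose_transpose]
      exact mul_eq_one_comm.mp hx
  exact key g hg

/-! ### Centralisers -/

/-- Entry `i` of an array of 32-bit numbers. -/
def e32 (T i : ℕ) : ℕ := Nat.mod (Nat.shiftRight T (Nat.mul 32 i)) 4294967296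

/-- Membership of `q` among the first `n` entries of a table. -/
def tabMem (T : ℕ) : ℕ → ℕ → Bool
  | 0, _ => false
  | n + 1, q => Nat.beq (e32 T n) q || tabMem T n q

theorem tabMem_spec (T : ℕ) : ∀ n q, tabMem T n q = true → ∃ m, m < n ∧ e32 T m = q := by
  intro n
  induction n with
  | zero => intro q h; exact absurd h (by simp [tabMem])
  | succ n ih =>
    intro q h
    rw [tabMem, Bool.or_eq_true] at h
    rcases h with h | h
    · exact ⟨n, by omega, Nat.eq_of_beq_eq_true h⟩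
    · obtain ⟨m, hm, hq⟩ := ih q h
      exact ⟨m, by omega, hq⟩

/-- The two vectors compared in the centraliser test. -/
noncomputable def centW (cz i : ℕ) : ℕ := vmC (mvC cz (mvC (u1 i) bC)) (u1 i)
noncomputable def centK (cz c : ℕ) : ℕ := mvC (u2 c) (mvC cz bC)

theorem cent_vec {z : GL (Fin 7) (ZMod 11)} {cz : ℕ} (hz : IsCode z cz) {i c : ℕ}
    (hi : i < 3080) (hc : c < 57) (h : U1g i * U2g c * z = z * (U1g i * U2g c)) :
    centW cz i = centK cz c := by
  have hU := U1g_code hi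
  have hK := U2g_code hc
  have hm : (U1g i : Matrix (Fin 7) (Fin 7) (ZMod 11)) *
      (U2g c : Matrix (Fin 7) (Fin 7) (ZMod 11)) * (z : Matrix (Fin 7) (Fin 7) (ZMod 11)) =
      (z : Matrix (Fin 7) (Fin 7) (ZMod 11)) * ((U1g i : Matrix (Fin 7) (Fin 7) (ZMod 11)) *
        (U2g c : Matrix (Fin 7) (Fin 7) (ZMod 11))) := by
    have := congrArg (fun x : GL (Fin 7) (ZMod 11) => (x : Matrix (Fin 7) (Fin 7) (ZMod 11))) h
    simpa only [Units.val_mul] using this
  have hv := congrArg (fun M : Matrix (Fin 7) (Fin 7) (ZMod 11) => M.mulVec bvec) hm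
  simp only [← Matrix.mulVec_mulVec] at hv
  rw [U2g_bvec hc] at hv
  have hv2 := congrArg
    (fun w => (U1g i : Matrix (Fin 7) (Fin 7) (ZMod 11)).transpose.mulVec w) hv
  simp only [Matrix.mulVec_mulVec _ (U1g i : Matrix (Fin 7) (Fin 7) (ZMod 11)).transpose
    (U1g i : Matrix (Fin 7) (Fin 7) (ZMod 11)), J1_orth (U1g_mem i), Matrix.one_mulVec] at hv2
  rw [Matrix.mulVec_transpose] at hv2
  have a1 : IsVec ((U2g c : Matrix (Fin 7) (Fin 7) (ZMod 11)).mulVec
      ((z : Matrix (Fin 7) (Fin 7) (ZMod 11)).mulVec bvec)) (centK cz c) :=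
    IsCodeM.mulVec hK (IsCodeM.mulVec hz isVec_bvec)
  have a2 : IsVec (Matrix.vecMul ((z : Matrix (Fin 7) (Fin 7) (ZMod 11)).mulVec
      ((U1g i : Matrix (Fin 7) (Fin 7) (ZMod 11)).mulVec bvec))
      (U1g i : Matrix (Fin 7) (Fin 7) (ZMod 11))) (centW cz i) :=
    IsCodeM.vecMul hU (IsCodeM.mulVec hz (IsCodeM.mulVec hU isVec_bvec))
  rw [hv2] at a1
  exact IsVec.code_eq a2 a1 (vmC_lt _ _) (mvC_lt _ _)

/-- The centraliser test at the transversal element `i`: every stabiliser element `c` passing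
the vector test gives an element of the table `T`, or an element not commuting with `z`. -/
noncomputable def centChk (cz T n i : ℕ) : Bool :=
  Nat.ble 3080 i || rgAll (fun c => Nat.ble 57 c || (!Nat.beq (centW cz i) (centK cz c) ||
    (tabMem T n (Nat.add (Nat.mul 57 i) c) ||
      !Nat.beq (mulC (mulC (u1 i) (u2 c)) cz) (mulC cz (mulC (u1 i) (u2 c)))))) 6 0

/-- The centraliser of `z` is contained in the list `T`. -/
theorem cent_sub {z : ↥Spor.J1} {cz : ℕ} (hz : IsCode (z : GL (Fin 7) (ZMod 11)) cz) (T n : ℕ)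
    (hchk : rgAll (centChk cz T n) 12 0 = true) (g : ↥Spor.J1) (hg : g * z = z * g) :
    ∃ m, m < n ∧ g = Qg (e32 T m) := by
  obtain ⟨i, j, hi, hj, hgij⟩ := j1_coords g.2
  have hg' : U1g i * U2g j * (z : GL (Fin 7) (ZMod 11)) =
      (z : GL (Fin 7) (ZMod 11)) * (U1g i * U2g j) := by
    rw [← hgij]; exact congrArg Subtype.val hg
  have hv := cent_vec hz hi hj hg'
  have h1 := rgAll_spec _ _ _ hchk i (by omega) (by norm_num; omega)
  have h0 : ∀ n x, x < n → Nat.ble n x = false := fun n x hx => by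
    rw [← Bool.not_eq_true]; intro h'; have := Nat.le_of_ble_eq_true h'; omega
  rw [centChk, h0 3080 i hi, Bool.false_or] at h1
  have h2 := rgAll_spec _ _ _ h1 j (by omega) (by norm_num; omega)
  simp only [h0 57 j hj, Bool.false_or, hv, Nat.beq_refl, Bool.not_true] at h2
  have hcode : mulC (mulC (u1 i) (u2 j)) cz = mulC cz (mulC (u1 i) (u2 j)) := by
    have a1 : IsCode (U1g i * U2g j * (z : GL (Fin 7) (ZMod 11))) (mulC (mulC (u1 i) (u2 j)) cz) :=
      IsCode.mul (IsCode.mul (U1g_code hi) (U2g_code hj)) hz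
    have a2 : IsCode ((z : GL (Fin 7) (ZMod 11)) * (U1g i * U2g j))
        (mulC cz (mulC (u1 i) (u2 j))) :=
      IsCode.mul hz (IsCode.mul (U1g_code hi) (U2g_code hj))
    rw [hg'] at a1
    exact IsCode.code_eq a1 a2 (mulC_lt _ _) (mulC_lt _ _)
  rw [hcode, Nat.beq_refl, Bool.not_true, Bool.or_false] at h2
  obtain ⟨m, hm, hq⟩ := tabMem_spec T n _ h2
  refine ⟨m, hm, Subtype.ext ?_⟩
  have e1 : (57 * i + j) / 57 = i := by omega
  have e2 : (57 * i + j) % 57 = j := by omega
  have hq' : e32 T m = 57 * i + j := hq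
  show (g : GL (Fin 7) (ZMod 11)) = U1g (e32 T m / 57) * U2g (e32 T m % 57)
  rw [hq', e1, e2, hgij]

end Cfsg.Agent.Helper7
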