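/-
Helper7 library: the Janko group `J₁` is simple. A nontrivial normal subgroup contains an element
of prime order, hence (Sylow) one of twelve explicit elements; each of these has both generators
among the products of two of its conjugates.
-/
import Cfsg.Agent.Helper7.J1Elts

set_option autoImplicit false

namespace Cfsg.Agent.Helper7

open Cfsg

/-- A normal subgroup whose order is divisible by `p` meets a subgroup of Sylow order in an
element of order `p`. -/
theorem exists_mem_sylow_of_dvd {G : Type*} [Group G] [Finite G] (N : Subgroup G) [hN : N.Normal]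
    {p k : ℕ} [Fact p.Prime] (hp : p ∣ Nat.card N) (P : Subgroup G) (hP : Nat.card P = p ^ k)
    (hidx : ¬ p ∣ P.index) : ∃ x ∈ N, x ∈ P ∧ orderOf x = p := by
  obtain ⟨x, hx⟩ := exists_prime_orderOf_dvd_card' (G := N) p hp
  have hx' : orderOf (x : G) = p := by rw [Subgroup.orderOf_coe]; exact hx
  have hz : IsPGroup p (Subgroup.zpowers (x : G)) :=
    IsPGroup.of_card (n := 1) (by rw [Nat.card_zpowers, hx', pow_one])
  obtain ⟨Q, hQ⟩ := hz.exists_le_sylow
  obtain ⟨g, hg⟩ := MulAction.exists_smul_eq G Q ((IsPGroup.of_card hP).toSylow hidx)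
  refine ⟨g * x * g⁻¹, hN.conj_mem _ x.2 g, ?_, ?_⟩
  · have h1 : (x : G) ∈ (Q : Subgroup G) := hQ (Subgroup.mem_zpowers _)
    have h2 : g * x * g⁻¹ ∈ ((g • Q : Sylow p G) : Subgroup G) := by
      rw [Sylow.coe_subgroup_smul, Subgroup.mem_pointwise_smul_iff_inv_smul_mem, MulAut.smul_def,
        MulAut.conj_inv_apply]
      have : g⁻¹ * (g * (x : G) * g⁻¹) * g = x := by group
      rw [this]; exact h1
    rw [hg] at h2
    exact h2
  · have : g * (x : G) * g⁻¹ = MulAut.conj g (x : G) := rfl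
    rw [this, MulEquiv.orderOf_eq, hx']

/-! ### The twelve elements and their certificates -/

/-- Numbers of: the identity; the seven involutions of a Sylow 2-subgroup; elements of orders
3, 5, 7, 11, 19. -/
def j1SeedQ : ℕ := 0x5982000005950001555900009ac30000598700011d43000095a90000a8900001d8280002500f00006a0e0001c59100005986

def seedQ (k : ℕ) : ℕ := e32 j1SeedQ k

/-- For seed `k` and generator `s`, entries `8 k + 4 s + r`: a conjugate, its conjugator, a second
conjugate, its conjugator; the product of the two conjugates is the generator. -/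
def j1SeedCert : ℕ := 0xf6f1000112060002524900026e0f0001e8140000a7be0000ba610001693500022d7700010a2a00029b8a0001188b0000544f0000c90d0001cae90001207f00016c11000146220001ed6c00028259000199eb0002057800009ac300009f3700017bac00008d2a00021fbe0000eb1f0000f6f1000027860001a2d500020e740000345700015a7500008e8400025e76000111e200019f9c000000af0000310e0000a43900011dac0000c1ed0001b74e0000cb73000058690001d4070000985000008b4300011dac0000ff7d0001b74e00011b12000058690001fee4000098500000213400011dac000096740001b74e00012067000058690001b296000098500000d8b500011dac0001db550001b74e0000f1170000586900029abb000098500001b29600011dac0001b96a0001b74e00009ac3000058690001b77d00009850000173d800011dac000288620001b74e000014c40000586900001e4c00009850000007cf00011dac0000cf880001b74e0000276d000058690000192d000098500000000000000000000000000000000000000000000000000000000000000000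

def seedE (k s r : ℕ) : ℕ := e32 j1SeedCert (Nat.add (Nat.add (Nat.mul 8 k) (Nat.mul 4 s)) r)

/-- `a` is the conjugate of `y` by `c` (as numbers of elements). -/
noncomputable def conjChk (y a c : ℕ) : Bool :=
  Nat.blt a 175560 && (Nat.blt c 175560 &&
    Nat.beq (mulC (cQ a) (cQ c)) (mulC (cQ c) (cQ y)))

noncomputable def seedChk (k s : ℕ) : Bool :=
  conjChk (seedQ k) (seedE k s 0) (seedE k s 1) && (conjChk (seedQ k) (seedE k s 2) (seedE k s 3)
    && Nat.beq (mulC (cQ (seedE k s 0)) (cQ (seedE k s 2))) (gC s))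

theorem seedChk_all : rgAll (fun k => Nat.beq k 0 || (Nat.ble 13 k ||
    (Nat.blt (seedQ k) 175560 && (seedChk k 0 && seedChk k 1)))) 4 0 = true := by decide +kernel

theorem conj_mem_of_chk {N : Subgroup ↥Spor.J1} [hN : N.Normal] {y a c : ℕ} (hy : y < 175560)
    (h : conjChk y a c = true) (hyN : Qg y ∈ N) : a < 175560 ∧ Qg a ∈ N := by
  rw [conjChk, Bool.and_eq_true, Bool.and_eq_true] at h
  obtain ⟨ha, hc, he⟩ := h
  have ha' : a < 175560 := Nat.le_of_ble_eq_true ha
  have hc' : c < 175560 := Nat.le_of_ble_eq_true hc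
  have e : Qg a * Qg c = Qg c * Qg y :=
    eq_of_isCode (Nat.eq_of_beq_eq_true he ▸ isCode_mul (isCode_Qg ha') (isCode_Qg hc'))
      (isCode_mul (isCode_Qg hc') (isCode_Qg hy))
  have e2 : Qg a = Qg c * Qg y * (Qg c)⁻¹ := by rw [← e, mul_inv_cancel_right]
  exact ⟨ha', e2 ▸ hN.conj_mem _ hyN _⟩

/-- A normal subgroup containing one of the twelve elements is everything. -/
theorem eq_top_of_seed_mem {N : Subgroup ↥Spor.J1} [hN : N.Normal] {k : ℕ} (hk0 : k ≠ 0)
    (hk : k < 13) (hkN : Qg (seedQ k) ∈ N) : N = ⊤ := by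
  have h := rgAll_spec _ _ _ seedChk_all k (by omega) (by norm_num; omega)
  have h0 : Nat.beq k 0 = false := by
    rw [← Bool.not_eq_true]; intro h'; exact hk0 (Nat.eq_of_beq_eq_true h')
  have h1 : Nat.ble 13 k = false := by
    rw [← Bool.not_eq_true]; intro h'; have := Nat.le_of_ble_eq_true h'; omega
  rw [h0, h1, Bool.false_or, Bool.false_or, Bool.and_eq_true, Bool.and_eq_true] at h
  obtain ⟨hq, hs0, hs1⟩ := h
  have hq' : seedQ k < 175560 := Nat.le_of_ble_eq_true hq
  have key : ∀ s, seedChk k s = true → jG s ∈ N := by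
    intro s hs
    rw [seedChk, Bool.and_eq_true, Bool.and_eq_true] at hs
    obtain ⟨c1, c2, c3⟩ := hs
    obtain ⟨b1, m1⟩ := conj_mem_of_chk hq' c1 hkN
    obtain ⟨b2, m2⟩ := conj_mem_of_chk hq' c2 hkN
    have e : Qg (seedE k s 0) * Qg (seedE k s 2) = jG s :=
      eq_of_isCode (Nat.eq_of_beq_eq_true c3 ▸ isCode_mul (isCode_Qg b1) (isCode_Qg b2))
        (isCode_jG s)
    exact e ▸ mul_mem m1 m2
  exact eq_top_of_jG_mem (key 0 hs0) (key 1 hs1)

/-! ### The Sylow 2-subgroup -/

noncomputable def p2Chk (m n : ℕ) : Bool :=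
  Nat.blt (seedQ m) 175560 && ((Nat.beq m n || !Nat.beq (seedQ m) (seedQ n)) &&
    Nat.beq (mulC (cQ (seedQ m)) (cQ (seedQ n))) (cQ (seedQ (Nat.xor m n))))

theorem p2Chk_all : rgAll (fun m => rgAll (p2Chk m) 3 0) 3 0 = true := by decide +kernel

theorem p2Chk_spec {m n : ℕ} (hm : m < 8) (hn : n < 8) : seedQ m < 175560 ∧
    (seedQ m = seedQ n → m = n) ∧
    mulC (cQ (seedQ m)) (cQ (seedQ n)) = cQ (seedQ (Nat.xor m n)) := by
  have h := rgAll_spec _ _ _ p2Chk_all m (by omega) (by norm_num; omega)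
  have h2 := rgAll_spec _ _ _ h n (by omega) (by norm_num; omega)
  rw [p2Chk, Bool.and_eq_true, Bool.and_eq_true, Bool.or_eq_true] at h2
  refine ⟨Nat.le_of_ble_eq_true h2.1, fun he => ?_, Nat.eq_of_beq_eq_true h2.2.2⟩
  rcases h2.2.1 with h3 | h3
  · exact Nat.eq_of_beq_eq_true h3
  · rw [he, Nat.beq_refl] at h3
    exact absurd h3 (by simp)

theorem xor_lt_eight {m n : ℕ} (hm : m < 8) (hn : n < 8) : Nat.xor m n < 8 :=
  Nat.xor_lt_two_pow (n := 3) hm hn

theorem seedQ_zero : seedQ 0 = 22918 := by decide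

theorem P2_mul {m n : ℕ} (hm : m < 8) (hn : n < 8) :
    Qg (seedQ m) * Qg (seedQ n) = Qg (seedQ (Nat.xor m n)) :=
  Qg_mul (p2Chk_spec hm hn).1 (p2Chk_spec hn hm).1
    (p2Chk_spec (xor_lt_eight hm hn) hm).1 (p2Chk_spec hm hn).2.2

/-- A Sylow 2-subgroup of `J₁`: eight elements, elementary abelian. -/
noncomputable def j1P2 : Subgroup ↥Spor.J1 where
  carrier := {g | ∃ m, m < 8 ∧ g = Qg (seedQ m)}
  mul_mem' := by
    rintro _ _ ⟨m, hm, rfl⟩ ⟨n, hn, rfl⟩
    exact ⟨Nat.xor m n, xor_lt_eight hm hn, P2_mul hm hn⟩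
  one_mem' := ⟨0, by norm_num, by rw [seedQ_zero, Qg_one]⟩
  inv_mem' := by
    rintro _ ⟨m, hm, rfl⟩
    refine ⟨m, hm, ?_⟩
    have h := P2_mul hm hm
    have h0 : Nat.xor m m = 0 := Nat.xor_self m
    rw [h0, seedQ_zero, Qg_one] at h
    exact inv_eq_of_mul_eq_one_left h

theorem card_j1P2 : Nat.card ↥j1P2 = 8 := by
  let f : Fin 8 → ↥j1P2 := fun m => ⟨Qg (seedQ m), ⟨m, m.2, rfl⟩⟩
  have hf : Function.Bijective f := by
    constructor
    · intro a c h
      have h' : Qg (seedQ a) = Qg (seedQ c) := congrArg Subtype.val h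
      exact Fin.ext ((p2Chk_spec a.2 c.2).2.1
        (Qg_inj (p2Chk_spec a.2 c.2).1 (p2Chk_spec c.2 a.2).1 h'))
    · rintro ⟨g, m, hm, rfl⟩
      exact ⟨⟨m, hm⟩, rfl⟩
  rw [← Nat.card_congr (Equiv.ofBijective f hf), Nat.card_fin]

/-! ### Orders of the odd seeds -/

theorem seed_order3 : (Nat.beq (jpowC (cQ (seedQ 8)) 3) idC &&
    !Nat.beq (jpowC (cQ (seedQ 8)) 1) idC) = true := by decide +kernel

theorem seed_order5 : (Nat.beq (jpowC (cQ (seedQ 9)) 5) idC &&
    !Nat.beq (jpowC (cQ (seedQ 9)) 1) idC) = true := by decide +kernel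

theorem seed_order7 : (Nat.beq (jpowC (cQ (seedQ 10)) 7) idC &&
    !Nat.beq (jpowC (cQ (seedQ 10)) 1) idC) = true := by decide +kernel

theorem seed_order11 : (Nat.beq (jpowC (cQ (seedQ 11)) 11) idC &&
    !Nat.beq (jpowC (cQ (seedQ 11)) 1) idC) = true := by decide +kernel

theorem seed_order19 : (Nat.beq (jpowC (cQ (seedQ 12)) 19) idC &&
    !Nat.beq (jpowC (cQ (seedQ 12)) 1) idC) = true := by decide +kernel

theorem seedQ_lt {k : ℕ} (hk : k < 13) : seedQ k < 175560 := by
  have h : rgAll (fun k => Nat.ble 13 k || Nat.blt (seedQ k) 175560) 4 0 = true := by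
    decide +kernel
  have h1 := rgAll_spec _ _ _ h k (by omega) (by norm_num; omega)
  have h0 : Nat.ble 13 k = false := by
    rw [← Bool.not_eq_true]; intro h'; have := Nat.le_of_ble_eq_true h'; omega
  rw [h0, Bool.false_or] at h1
  exact Nat.le_of_ble_eq_true h1

theorem orderOf_seed_aux {k p : ℕ} [Fact p.Prime] (hk : k < 13)
    (h : (Nat.beq (jpowC (cQ (seedQ k)) p) idC && !Nat.beq (jpowC (cQ (seedQ k)) 1) idC) = true) :
    orderOf (Qg (seedQ k)) = p := by
  rw [Bool.and_eq_true] at h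
  refine orderOf_eq_prime_of_code (isCode_Qg (seedQ_lt hk)) (Nat.eq_of_beq_eq_true h.1) ?_
  intro h'
  have h2 := h.2
  rw [h', Nat.beq_refl] at h2
  exact absurd h2 (by simp)

/-- A normal subgroup of order divisible by an odd prime `p` contains the seed of order `p`. -/
theorem seed_mem_of_dvd {N : Subgroup ↥Spor.J1} [hN : N.Normal] {k p : ℕ} [hp : Fact p.Prime]
    (ho : orderOf (Qg (seedQ k)) = p) (hidx : ∀ j, p * j = 175560 → ¬ p ∣ j)
    (hpN : p ∣ Nat.card N) : Qg (seedQ k) ∈ N := by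
  have hP : Nat.card (Subgroup.zpowers (Qg (seedQ k))) = p ^ 1 := by
    rw [Nat.card_zpowers, ho, pow_one]
  have hi : ¬ p ∣ (Subgroup.zpowers (Qg (seedQ k))).index := by
    apply hidx
    rw [← card_J1, ← Subgroup.card_mul_index (Subgroup.zpowers (Qg (seedQ k))), hP, pow_one]
  obtain ⟨x, hxN, hxP, hxo⟩ := exists_mem_sylow_of_dvd N hpN _ hP hi
  have hle : Subgroup.zpowers x ≤ Subgroup.zpowers (Qg (seedQ k)) :=
    (Subgroup.zpowers_le).mpr hxP
  have heq : Subgroup.zpowers x = Subgroup.zpowers (Qg (seedQ k)) :=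
    Subgroup.eq_of_le_of_card_ge hle (by rw [Nat.card_zpowers, Nat.card_zpowers, hxo, ho])
  have : Qg (seedQ k) ∈ Subgroup.zpowers x := heq ▸ Subgroup.mem_zpowers _
  exact (Subgroup.zpowers_le.mpr hxN) this

theorem j1_eq_top_of_normal (N : Subgroup ↥Spor.J1) [hN : N.Normal] (hne : N ≠ ⊥) : N = ⊤ := by
  have hcard : Nat.card N ≠ 1 := fun h => hne (Subgroup.eq_bot_of_card_eq N h)
  obtain ⟨p, hp, hpd⟩ := Nat.exists_prime_and_dvd hcard
  have : Fact p.Prime := ⟨hp⟩
  have hdvd : p ∣ 2 ^ 3 * (3 * (5 * (7 * (11 * 19)))) := by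
    have h1 := hpd.trans (Subgroup.card_subgroup_dvd_card N)
    have e : (175560 : ℕ) = 2 ^ 3 * (3 * (5 * (7 * (11 * 19)))) := by norm_num
    rw [card_J1, e] at h1
    exact h1
  rcases (Nat.Prime.dvd_mul hp).mp hdvd with h | h
  · have h2 : p = 2 := (Nat.prime_dvd_prime_iff_eq hp Nat.prime_two).mp (hp.dvd_of_dvd_pow h)
    subst h2
    have hi : ¬ 2 ∣ j1P2.index := by
      have h3 := Subgroup.card_mul_index j1P2
      rw [card_j1P2, card_J1] at h3
      omega
    obtain ⟨x, hxN, ⟨m, hm, rfl⟩, hxo⟩ :=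
      exists_mem_sylow_of_dvd N hpd j1P2 (k := 3) (by rw [card_j1P2]; norm_num) hi
    have hm0 : m ≠ 0 := by
      rintro rfl
      rw [seedQ_zero, Qg_one, orderOf_one] at hxo
      omega
    exact eq_top_of_seed_mem hm0 (by omega) hxN
  rcases (Nat.Prime.dvd_mul hp).mp h with h | h
  · have h2 : p = 3 := (Nat.prime_dvd_prime_iff_eq hp Nat.prime_three).mp h
    subst h2
    exact eq_top_of_seed_mem (k := 8) (by norm_num) (by norm_num)
      (seed_mem_of_dvd (orderOf_seed_aux (by norm_num) seed_order3)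
        (fun j hj => by omega) hpd)
  rcases (Nat.Prime.dvd_mul hp).mp h with h | h
  · have h2 : p = 5 := (Nat.prime_dvd_prime_iff_eq hp Nat.prime_five).mp h
    subst h2
    exact eq_top_of_seed_mem (k := 9) (by norm_num) (by norm_num)
      (seed_mem_of_dvd (orderOf_seed_aux (by norm_num) seed_order5)
        (fun j hj => by omega) hpd)
  rcases (Nat.Prime.dvd_mul hp).mp h with h | h
  · have h2 : p = 7 := (Nat.prime_dvd_prime_iff_eq hp (by norm_num)).mp h
    subst h2
    exact eq_top_of_seed_mem (k := 10) (by norm_num) (by norm_num)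
      (seed_mem_of_dvd (orderOf_seed_aux (by norm_num) seed_order7)
        (fun j hj => by omega) hpd)
  rcases (Nat.Prime.dvd_mul hp).mp h with h | h
  · have h2 : p = 11 := (Nat.prime_dvd_prime_iff_eq hp (by norm_num)).mp h
    subst h2
    exact eq_top_of_seed_mem (k := 11) (by norm_num) (by norm_num)
      (seed_mem_of_dvd (orderOf_seed_aux (by norm_num) seed_order11)
        (fun j hj => by omega) hpd)
  · have h2 : p = 19 := (Nat.prime_dvd_prime_iff_eq hp (by norm_num)).mp h
    subst h2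
    exact eq_top_of_seed_mem (k := 12) (by norm_num) (by norm_num)
      (seed_mem_of_dvd (orderOf_seed_aux (by norm_num) seed_order19)
        (fun j hj => by omega) hpd)

/-- The Janko group `J₁` is simple. -/
theorem j1_isSimpleGroup : IsSimpleGroup ↥Spor.J1 := by
  have : Nontrivial ↥Spor.J1 := by
    rw [← Finite.one_lt_card_iff_nontrivial, card_J1]; norm_num
  refine ⟨fun N hN => ?_⟩
  by_cases h : N = ⊥
  · exact Or.inl h
  · exact Or.inr (j1_eq_top_of_normal N h)

end Cfsg.Agent.Helper7
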