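/-
Helper7 library: centralisers in the Janko group `J₁`, with loops that the kernel evaluates
quickly (`ltAll`, by the recursor, and `natLet`, which evaluates a number once).
-/
import Cfsg.Agent.Helper7.J1Simple

set_option autoImplicit false

namespace Cfsg.Agent.Helper7

open Cfsg

/-- `p` holds on `0, …, n - 1`. -/
noncomputable def ltAll (p : ℕ → Bool) (n : ℕ) : Bool := Nat.rec true (fun k r => p k && r) n

theorem ltAll_succ (p : ℕ → Bool) (n : ℕ) : ltAll p (n + 1) = (p n && ltAll p n) := rfl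

theorem ltAll_spec (p : ℕ → Bool) : ∀ n, ltAll p n = true → ∀ k, k < n → p k = true
  | 0, _, k, hk => absurd hk (Nat.not_lt_zero k)
  | n + 1, h, k, hk => by
    rw [ltAll_succ, Bool.and_eq_true] at h
    rcases Nat.lt_succ_iff_lt_or_eq.mp hk with h1 | rfl
    · exact ltAll_spec p n h.2 k h1
    · exact h.1

theorem ltAll_off (p : ℕ → Bool) (off len : ℕ) (h : ltAll (fun i => p (Nat.add off i)) len = true)
    (k : ℕ) (h1 : off ≤ k) (h2 : k < off + len) : p k = true := by
  have := ltAll_spec _ len h (k - off) (by omega)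
  have e : Nat.add off (k - off) = k := by show off + (k - off) = k; omega
  simpa only [e] using this

/-- `f x`, with `x` evaluated first. -/
noncomputable def natLet (x : ℕ) (f : ℕ → Bool) : Bool :=
  Nat.rec (f 0) (fun k _ => f (Nat.succ k)) x

theorem natLet_eq (x : ℕ) (f : ℕ → Bool) : natLet x f = f x := by
  cases x <;> rfl

/-- Entry `i` of an array of 70-bit numbers. -/
def e70 (T i : ℕ) : ℕ := Nat.mod (Nat.shiftRight T (Nat.mul 70 i)) 1180591620717411303424

/-- The table `KT` lists the vectors `centK cz c`. -/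
noncomputable def ktChk (cz KT : ℕ) : Bool :=
  ltAll (fun c => Nat.beq (e70 KT c) (centK cz c)) 57

/-- The centraliser test at the transversal element `i`, with the table `KT`. -/
noncomputable def centChkB (cz KT T n i : ℕ) : Bool :=
  natLet (centW cz i) (fun w => ltAll (fun c => !Nat.beq w (e70 KT c) ||
    (tabMem T n (Nat.add (Nat.mul 57 i) c) ||
      !Nat.beq (mulC (mulC (u1 i) (u2 c)) cz) (mulC cz (mulC (u1 i) (u2 c))))) 57)

/-- The test on the range `[off, off + len)`, with the code of `z` evaluated once. -/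
noncomputable def centChkR (qz KT T n off len : ℕ) : Bool :=
  natLet (cQ qz) (fun cz => ltAll (fun i => centChkB cz KT T n (Nat.add off i)) len)

theorem centChkR_spec {qz KT T n off len : ℕ} (h : centChkR qz KT T n off len = true) (i : ℕ)
    (h1 : off ≤ i) (h2 : i < off + len) : centChkB (cQ qz) KT T n i = true := by
  rw [centChkR, natLet_eq] at h
  exact ltAll_off (centChkB (cQ qz) KT T n) off len h i h1 h2

/-- The centraliser of `z` is contained in the list `T`. -/
theorem cent_subB {z : ↥Spor.J1} {cz : ℕ} (hz : IsCode (z : GL (Fin 7) (ZMod 11)) cz)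
    (KT T n : ℕ) (hk : ktChk cz KT = true)
    (hchk : ∀ i, i < 3080 → centChkB cz KT T n i = true) (g : ↥Spor.J1) (hg : g * z = z * g) :
    ∃ m, m < n ∧ g = Qg (e32 T m) := by
  obtain ⟨i, j, hi, hj, hgij⟩ := j1_coords g.2
  have hg' : U1g i * U2g j * (z : GL (Fin 7) (ZMod 11)) =
      (z : GL (Fin 7) (ZMod 11)) * (U1g i * U2g j) := by
    rw [← hgij]; exact congrArg Subtype.val hg
  have hv := cent_vec hz hi hj hg'
  have hkt : e70 KT j = centK cz j := Nat.eq_of_beq_eq_true (ltAll_spec _ 57 hk j hj)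
  have h1 := hchk i hi
  rw [centChkB, natLet_eq] at h1
  have h2 := ltAll_spec _ 57 h1 j hj
  simp only [hkt, hv, Nat.beq_refl, Bool.not_true, Bool.false_or] at h2
  have hcode : mulC (mulC (u1 i) (u2 j)) cz = mulC cz (mulC (u1 i) (u2 j)) := by
    have a1 : IsCode (U1g i * U2g j * (z : GL (Fin 7) (ZMod 11))) (mulC (mulC (u1 i) (u2 j)) cz) :=
      IsCode.mul (IsCode.mul (U1g_code hi) (U2g_code hj)) hz
    have a2 : IsCode ((z : GL (Fin 7) (ZMod 11)) * (U1g i * U2g j))
        (mulC cz (mulC (u1 i) (u2 j))) :=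
      IsCode.mul hz (IsCode.mul (U1g_code hi) (U2g_code hj))
    rw [hg'] at a1
    exact IsCode.code_eq a1 a2 (mulC_lt _ _) (mulC_lt _ _)
  rw [hcode, Nat.beq_refl, Bool.not_true, Bool.or_false] at h2
  obtain ⟨m, hm, hq⟩ := tabMem_spec T n _ h2
  refine ⟨m, hm, Subtype.ext ?_⟩
  have e1 : (57 * i + j) / 57 = i := by omega
  have e2 : (57 * i + j) % 57 = j := by omega
  have hq' : e32 T m = 57 * i + j := hq
  show (g : GL (Fin 7) (ZMod 11)) = U1g (e32 T m / 57) * U2g (e32 T m % 57)
  rw [hq', e1, e2, hgij]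

/-- The centraliser of element number `qz`, from four kernel checks. -/
theorem cent_subQ {qz : ℕ} (hqz : qz < 175560) (KT T n : ℕ) (hk : ktChk (cQ qz) KT = true)
    (h1 : centChkR qz KT T n 0 800 = true) (h2 : centChkR qz KT T n 800 800 = true)
    (h3 : centChkR qz KT T n 1600 800 = true) (h4 : centChkR qz KT T n 2400 680 = true)
    (g : ↥Spor.J1) (hg : g * Qg qz = Qg qz * g) : ∃ m, m < n ∧ g = Qg (e32 T m) := by
  refine cent_subB (isCode_Qg hqz) KT T n hk (fun i hi => ?_) g hg
  by_cases a1 : i < 800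
  · exact centChkR_spec h1 i (by omega) (by omega)
  by_cases a2 : i < 1600
  · exact centChkR_spec h2 i (by omega) (by omega)
  by_cases a3 : i < 2400
  · exact centChkR_spec h3 i (by omega) (by omega)
  · exact centChkR_spec h4 i (by omega) (by omega)

/-- The elements of a table commute with `z`. -/
noncomputable def commChk (qz T n : ℕ) : Bool :=
  natLet (cQ qz) (fun cz => ltAll (fun m => Nat.blt (e32 T m) 175560 &&
    natLet (cQ (e32 T m)) (fun c => Nat.beq (mulC c cz) (mulC cz c))) n)

theorem commChk_spec {qz T n : ℕ} (hqz : qz < 175560) (h : commChk qz T n = true) {m : ℕ}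
    (hm : m < n) : e32 T m < 175560 ∧ Qg (e32 T m) * Qg qz = Qg qz * Qg (e32 T m) := by
  rw [commChk, natLet_eq] at h
  have h1 := ltAll_spec _ n h m hm
  rw [Bool.and_eq_true, natLet_eq] at h1
  have hlt : e32 T m < 175560 := Nat.le_of_ble_eq_true h1.1
  exact ⟨hlt, eq_of_isCode (Nat.eq_of_beq_eq_true h1.2 ▸ isCode_mul (isCode_Qg hlt) (isCode_Qg hqz))
    (isCode_mul (isCode_Qg hqz) (isCode_Qg hlt))⟩

end Cfsg.Agent.Helper7
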