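/-
Helper7 library: in the Janko group `J₁`, the centraliser of the involution `jT` is isomorphic to
`Z₂ × A₅`: it has at most 120 elements (kernel check), and contains `x`, `y` with
`x² = y³ = (xy)⁵ = 1`, `x ≠ 1`.
-/
import Cfsg.Agent.Helper7.J1Cent
import Cfsg.Agent.Helper40.PresSmall

set_option autoImplicit false

namespace Cfsg.Agent.Helper7

open Cfsg

/-- The images of the vector `jT b` under the stabiliser. -/
def j1CentKT : ℕ := 0x10040a0100500c0201c07014080000200c010040101c0600c090200701400004050140202407010020040101409014020240501802028000040101c0a028090240801003018080100001c020140800807018020200300400004070240402404004050140301c060000101c0600c090040101c09024090280700407008060200301c0001006020000080801c070180200c030280902804020000200000002008090280702807024060140502405024020000a00401004040200a0040502401010070240a008040280201409004040200a0040701402020080280900c07000040080500c0801c080240401800018030240a0040a0100a004040040202800004020280202408004000000a00809000090240901007008010040902403028010080a0000a0200300007000080000002804020000200901408028070080a0040a028070080001403028070240300802008010100a010020140800c0800c030200500805008020180501008004010180200402028040200a0280500c090180302807008040280602803004020240200004010070040902004020060040201c0501805000030040a0140a00c0a0240701c0002000000010200802007000040240501c0a0140100c01008070100a0240900004024010040a01c050200a01c030040a0180200c060040601c0001809028070280700802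

/-- The numbers of the 120 elements of the centraliser of `jT`. -/
def j1CentT : ℕ := 0x2a63400029ab200028fd100028ca400028c4f00028b72000289810002896e0002874f0002846f000279f10002713c00026a9a00026621000265100002639200026102000256cc0002500f000248ba0002410e00023fda00023bfa000238d400022f300002272800022547000222a0000221f600021bc4000207e8000207a500020028000200130001ff7a0001f88a0001f31e0001eee50001e35a0001d98e0001d8280001d3cf0001d1930001cf7b0001c5910001c0000001bff60001bb700001b84c0001b7260001b5c20001b11c00019f1200019cfe000187f3000181f1000173c10001719b00015caa00015614000149f100013fb100013e36000139b0000137790001352800012b5800012639000125ae000120b500011e1b00011d4300011b7b000116da0001085d0000f3970000f3540000ec280000ebc20000eb7e0000e46c0000deb40000da6f0000d3c00000d09b0000c5f00000bf0e0000b7cb0000b0850000afbd0000ab6e0000a89000009e2a000095a9000094b800009205000091590000868c00007b1f0000704700006d2f00006cbf00006bd400006a6000006a0e000067c30000664c00005986000051bb00004abf000046bb000045fe0000416700004048000036340000358500002c5300002baf000027d200002787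

theorem centT_kt : ktChk (cQ 116113) j1CentKT = true := by decide +kernel
theorem centT_1 : centChkR 116113 j1CentKT j1CentT 120 0 800 = true := by decide +kernel
theorem centT_2 : centChkR 116113 j1CentKT j1CentT 120 800 800 = true := by decide +kernel
theorem centT_3 : centChkR 116113 j1CentKT j1CentT 120 1600 800 = true := by decide +kernel
theorem centT_4 : centChkR 116113 j1CentKT j1CentT 120 2400 680 = true := by decide +kernel

/-- The involution. -/
noncomputable def jT : ↥Spor.J1 := Qg 116113

theorem isCode_jT : IsCode (jT : GL (Fin 7) (ZMod 11)) (cQ 116113) := isCode_Qg (by norm_num)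

theorem jT_sq : jT ^ 2 = 1 :=
  (pow_eq_one_iff_code isCode_jT 2).mpr (by decide +kernel)

theorem jT_ne_one : jT ≠ 1 := fun h =>
  absurd ((eq_one_iff_code isCode_jT (cQ_lt _)).mp h) (by decide +kernel)

theorem orderOf_jT : orderOf jT = 2 := by
  have : Fact (Nat.Prime 2) := ⟨Nat.prime_two⟩
  exact orderOf_eq_prime jT_sq jT_ne_one

theorem centT_mem (g : ↥Spor.J1) (hg : g ∈ Subgroup.centralizer ({jT} : Set ↥Spor.J1)) :
    ∃ m, m < 120 ∧ g = Qg (e32 j1CentT m) := by
  have h : g * jT = jT * g :=
    (Subgroup.mem_centralizer_iff.mp hg jT (Set.mem_singleton _)).symm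
  exact cent_subQ (by norm_num) j1CentKT j1CentT 120 centT_kt centT_1 centT_2 centT_3 centT_4 g h

theorem card_centT_le : Nat.card ↥(Subgroup.centralizer ({jT} : Set ↥Spor.J1)) ≤ 120 := by
  let f : ↥(Subgroup.centralizer ({jT} : Set ↥Spor.J1)) → Fin 120 := fun g =>
    ⟨(centT_mem g.1 g.2).choose, (centT_mem g.1 g.2).choose_spec.1⟩
  have hf : Function.Injective f := by
    intro a c h
    have ha := (centT_mem a.1 a.2).choose_spec.2
    have hc := (centT_mem c.1 c.2).choose_spec.2
    have e : (centT_mem a.1 a.2).choose = (centT_mem c.1 c.2).choose := congrArg Fin.val h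
    exact Subtype.ext (by rw [ha, hc, e])
  have := Nat.card_le_card_of_injective f hf
  rwa [Nat.card_fin] at this

theorem mem_centT_of_code {q : ℕ} (hq : q < 175560)
    (h : mulC (cQ 116113) (cQ q) = mulC (cQ q) (cQ 116113)) :
    Qg q ∈ Subgroup.centralizer ({jT} : Set ↥Spor.J1) := by
  rw [Subgroup.mem_centralizer_iff]
  intro t ht
  rw [Set.mem_singleton_iff.mp ht]
  exact eq_of_isCode (h ▸ isCode_mul isCode_jT (isCode_Qg hq)) (isCode_mul (isCode_Qg hq) isCode_jT)

theorem centT_x : Qg 17918 ∈ Subgroup.centralizer ({jT} : Set ↥Spor.J1) :=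
  mem_centT_of_code (by norm_num) (by decide +kernel)

theorem centT_y : Qg 10194 ∈ Subgroup.centralizer ({jT} : Set ↥Spor.J1) :=
  mem_centT_of_code (by norm_num) (by decide +kernel)

theorem centT_x_sq : Qg 17918 ^ 2 = 1 :=
  (pow_eq_one_iff_code (isCode_Qg (by norm_num)) 2).mpr (by decide +kernel)

theorem centT_y_cube : Qg 10194 ^ 3 = 1 :=
  (pow_eq_one_iff_code (isCode_Qg (by norm_num)) 3).mpr (by decide +kernel)

theorem centT_xy_pow : (Qg 17918 * Qg 10194) ^ 5 = 1 :=
  (pow_eq_one_iff_code (isCode_mul (isCode_Qg (by norm_num)) (isCode_Qg (by norm_num))) 5).mpr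
    (by decide +kernel)

theorem centT_x_ne : Qg 17918 ≠ 1 := fun h =>
  absurd ((eq_one_iff_code (isCode_Qg (by norm_num)) (cQ_lt _)).mp h) (by decide +kernel)

/-- The centraliser of the involution `jT` is isomorphic to `Z₂ × A₅`. -/
theorem j1_centT_iso : Nonempty (↥(Subgroup.centralizer ({jT} : Set ↥Spor.J1)) ≃*
    Multiplicative (ZMod 2) × ↥(alternatingGroup (Fin 5))) := by
  classical
  obtain ⟨f, hfa, _⟩ := Cfsg.Agent.Helper40.PresSmall.a5_hom
    (⟨Qg 17918, centT_x⟩ : ↥(Subgroup.centralizer ({jT} : Set ↥Spor.J1)))
    (⟨Qg 10194, centT_y⟩ : ↥(Subgroup.centralizer ({jT} : Set ↥Spor.J1)))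
    (Subtype.ext centT_x_sq) (Subtype.ext centT_y_cube) (Subtype.ext centT_xy_pow)
  have hinj : Function.Injective f := Cfsg.Agent.Helper40.PresSmall.a5_inj f (by
    rw [hfa]; intro h; exact centT_x_ne (congrArg Subtype.val h))
  have htm : jT ∈ Subgroup.centralizer ({jT} : Set ↥Spor.J1) := by
    rw [Subgroup.mem_centralizer_iff]
    intro t ht
    rw [Set.mem_singleton_iff.mp ht]
  let tt : ↥(Subgroup.centralizer ({jT} : Set ↥Spor.J1)) := ⟨jT, htm⟩
  have htc : ∀ g : ↥(Subgroup.centralizer ({jT} : Set ↥Spor.J1)), Commute tt g := fun g =>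
    Subtype.ext (Subgroup.mem_centralizer_iff.mp g.2 jT (Set.mem_singleton _))
  have htt2 : tt ^ 2 = 1 := Subtype.ext jT_sq
  have htt1 : tt ≠ 1 := fun h => jT_ne_one (congrArg Subtype.val h)
  have hpow : ∀ n : ℕ, tt ^ (n % 2) = tt ^ n := fun n => by
    conv_rhs => rw [← Nat.div_add_mod n 2, pow_add, pow_mul, htt2, one_pow, one_mul]
  let φ₁ : Multiplicative (ZMod 2) →* ↥(Subgroup.centralizer ({jT} : Set ↥Spor.J1)) :=
    MonoidHom.mk' (fun z => tt ^ (Multiplicative.toAdd z).val) (fun a c => by
      show tt ^ (Multiplicative.toAdd (a * c)).val =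
        tt ^ (Multiplicative.toAdd a).val * tt ^ (Multiplicative.toAdd c).val
      rw [toAdd_mul, ZMod.val_add, hpow, pow_add])
  let Φ : Multiplicative (ZMod 2) × ↥(alternatingGroup (Fin 5)) →*
      ↥(Subgroup.centralizer ({jT} : Set ↥Spor.J1)) :=
    MonoidHom.noncommCoprod φ₁ f (fun m n => (htc (f n)).pow_left _)
  have hcen : Subgroup.center (alternatingGroup (Fin 5)) = ⊥ :=
    alternatingGroup.center_eq_bot (by rw [Nat.card_eq_fintype_card, Fintype.card_fin]; norm_num)
  have hΦ : Function.Injective Φ := by
    rw [injective_iff_map_eq_one]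
    rintro ⟨z, σ⟩ h
    have h' : tt ^ (Multiplicative.toAdd z).val * f σ = 1 := h
    have hv : (Multiplicative.toAdd z).val < 2 := ZMod.val_lt _
    have hcases : (Multiplicative.toAdd z).val = 0 ∨ (Multiplicative.toAdd z).val = 1 := by omega
    rcases hcases with h0 | h1
    · rw [h0, pow_zero, one_mul] at h'
      have hσ : σ = 1 := hinj (by rw [h', map_one])
      have hz : z = 1 := by
        have : Multiplicative.toAdd z = 0 := (ZMod.val_eq_zero _).mp h0
        exact this
      rw [hσ, hz]; rfl
    · exfalso
      rw [h1, pow_one] at h'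
      -- `tt` is in the range of `f`, and central
      have e1 : f σ⁻¹ = tt := by
        rw [map_inv, inv_eq_iff_eq_inv]
        exact (eq_inv_of_mul_eq_one_right h').symm ▸ rfl
      have hcs : σ⁻¹ ∈ Subgroup.center (alternatingGroup (Fin 5)) := by
        rw [Subgroup.mem_center_iff]
        intro τ
        apply hinj
        rw [map_mul, map_mul, e1]
        exact ((htc (f τ)).eq).symm
      rw [hcen, Subgroup.mem_bot] at hcs
      rw [hcs, map_one] at e1
      exact htt1 e1.symm
  have hcard : Nat.card (Multiplicative (ZMod 2) × ↥(alternatingGroup (Fin 5))) = 120 := by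
    rw [Nat.card_prod, Cfsg.Agent.Helper40.PresSmall.a5_card, Nat.card_eq_fintype_card]
    rfl
  have hle := Nat.card_le_card_of_injective Φ hΦ
  have hb : Function.Bijective Φ :=
    (Nat.bijective_iff_injective_and_card Φ).mpr ⟨hΦ, le_antisymm hle (hcard ▸ card_centT_le)⟩
  exact ⟨(MulEquiv.ofBijective Φ hb).symm⟩

end Cfsg.Agent.Helper7
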