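/-
Helper7 library: groups whose element orders are exactly the proper divisors of
`43890 = 2 · 3 · 5 · 7 · 11 · 19`. A criterion, and a family of arbitrarily large examples:
`D₅ × D₇ × D₁₁ × D₁₉ × T`, with `T` the group of maps into `S₃` of constant sign.
-/
import Mathlib

set_option autoImplicit false

namespace Cfsg.Agent.Helper7

theorem prime_dvd_43890 {p : ℕ} (hp : p.Prime) (h : p ∣ 43890) :
    p = 2 ∨ p = 3 ∨ p = 5 ∨ p = 7 ∨ p = 11 ∨ p = 19 := by
  have e : (43890 : ℕ) = 2 * (3 * (5 * (7 * (11 * 19)))) := by norm_num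
  rw [e] at h
  rcases (Nat.Prime.dvd_mul hp).mp h with h | h
  · exact Or.inl ((Nat.prime_dvd_prime_iff_eq hp Nat.prime_two).mp h)
  rcases (Nat.Prime.dvd_mul hp).mp h with h | h
  · exact Or.inr (Or.inl ((Nat.prime_dvd_prime_iff_eq hp Nat.prime_three).mp h))
  rcases (Nat.Prime.dvd_mul hp).mp h with h | h
  · exact Or.inr (Or.inr (Or.inl ((Nat.prime_dvd_prime_iff_eq hp Nat.prime_five).mp h)))
  rcases (Nat.Prime.dvd_mul hp).mp h with h | h
  · exact Or.inr (Or.inr (Or.inr (Or.inl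
      ((Nat.prime_dvd_prime_iff_eq hp (by norm_num)).mp h))))
  rcases (Nat.Prime.dvd_mul hp).mp h with h | h
  · exact Or.inr (Or.inr (Or.inr (Or.inr (Or.inl
      ((Nat.prime_dvd_prime_iff_eq hp (by norm_num)).mp h)))))
  · exact Or.inr (Or.inr (Or.inr (Or.inr (Or.inr
      ((Nat.prime_dvd_prime_iff_eq hp (by norm_num)).mp h)))))

/-- A group in which every element order is a proper divisor of 43890, and which has an element
of order `43890 / p` for each prime `p`, has exactly the proper divisors as element orders. -/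
theorem range_orderOf_eq_43890 {K : Type*} [Group K]
    (h1 : ∀ x : K, orderOf x ∣ 43890 ∧ orderOf x ≠ 43890)
    (h2 : ∀ p : ℕ, p.Prime → p ∣ 43890 → ∃ x : K, orderOf x = 43890 / p) :
    Set.range (orderOf : K → ℕ) = {d | d ∣ 43890 ∧ d ≠ 43890} := by
  ext d
  constructor
  · rintro ⟨x, rfl⟩; exact h1 x
  · rintro ⟨hd, hne⟩
    obtain ⟨m, hm⟩ := hd
    have hm1 : m ≠ 1 := by rintro rfl; omega
    obtain ⟨p, hp, hpm⟩ := Nat.exists_prime_and_dvd hm1
    obtain ⟨m', rfl⟩ := hpm
    have hp43 : p ∣ 43890 := ⟨d * m', by rw [hm]; ring⟩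
    obtain ⟨x, hx⟩ := h2 p hp hp43
    have e : 43890 / p = d * m' := by
      rw [hm, show d * (p * m') = p * (d * m') by ring]
      exact Nat.mul_div_cancel_left _ hp.pos
    have hdx : d ∣ orderOf x := by rw [hx, e]; exact dvd_mul_right d m'
    have hx0 : orderOf x ≠ 0 := by
      rw [hx, e]
      intro h0
      rw [h0] at e
      have : 43890 / p ≠ 0 := by
        have := Nat.div_pos (Nat.le_of_dvd (by norm_num) hp43) hp.pos
        omega
      exact this e
    exact ⟨x ^ (orderOf x / d), orderOf_pow_orderOf_div hx0 hdx⟩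

/-! ### Dihedral groups of prime degree -/

theorem dihedral_orderOf {p : ℕ} (hp : p.Prime) (x : DihedralGroup p) :
    orderOf x = 1 ∨ orderOf x = 2 ∨ orderOf x = p := by
  have : NeZero p := ⟨hp.ne_zero⟩
  cases x with
  | r i =>
    have h : orderOf (DihedralGroup.r i) ∣ p := by
      rw [DihedralGroup.orderOf_r]
      exact Nat.div_dvd_of_dvd (Nat.gcd_dvd_left _ _)
    rcases (Nat.dvd_prime hp).mp h with h | h
    · exact Or.inl h
    · exact Or.inr (Or.inr h)
  | sr i => exact Or.inr (Or.inl (DihedralGroup.orderOf_sr i))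

/-! ### Maps into `S₃` of constant sign -/

/-- The group of maps from `Fin (k + 1)` into `S₃` of constant sign. -/
def sgnSub (k : ℕ) : Subgroup (Fin (k + 1) → Equiv.Perm (Fin 3)) where
  carrier := {f | ∀ i, Equiv.Perm.sign (f i) = Equiv.Perm.sign (f 0)}
  mul_mem' := by
    intro f g hf hg i
    simp only [Pi.mul_apply, map_mul]
    rw [hf i, hg i]
  one_mem' := by intro i; rfl
  inv_mem' := by
    intro f hf i
    simp only [Pi.inv_apply, map_inv]
    rw [hf i]

theorem perm3_even : ∀ σ : Equiv.Perm (Fin 3), Equiv.Perm.sign σ = 1 → σ ^ 3 = 1 := by decide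

theorem perm3_odd : ∀ σ : Equiv.Perm (Fin 3), Equiv.Perm.sign σ = -1 → σ ^ 2 = 1 := by decide

theorem sgnSub_orderOf (k : ℕ) (x : ↥(sgnSub k)) :
    orderOf x = 1 ∨ orderOf x = 2 ∨ orderOf x = 3 := by
  rcases Int.units_eq_one_or (Equiv.Perm.sign ((x : Fin (k + 1) → Equiv.Perm (Fin 3)) 0)) with
    h | h
  · have h3 : x ^ 3 = 1 := by
      apply Subtype.ext
      funext i
      show ((x : Fin (k + 1) → Equiv.Perm (Fin 3)) i) ^ 3 = 1
      exact perm3_even _ ((x.2 i).trans h)
    rcases (Nat.dvd_prime Nat.prime_three).mp (orderOf_dvd_of_pow_eq_one h3) with h' | h'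
    · exact Or.inl h'
    · exact Or.inr (Or.inr h')
  · have h2 : x ^ 2 = 1 := by
      apply Subtype.ext
      funext i
      show ((x : Fin (k + 1) → Equiv.Perm (Fin 3)) i) ^ 2 = 1
      exact perm3_odd _ ((x.2 i).trans h)
    rcases (Nat.dvd_prime Nat.prime_two).mp (orderOf_dvd_of_pow_eq_one h2) with h' | h'
    · exact Or.inl h'
    · exact Or.inr (Or.inl h')

/-- The constant map with an even value. -/
def sgnConst (k : ℕ) (σ : Equiv.Perm (Fin 3)) : ↥(sgnSub k) := ⟨fun _ => σ, fun _ => rfl⟩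

theorem sgnSub_exists_two (k : ℕ) : ∃ x : ↥(sgnSub k), orderOf x = 2 := by
  refine ⟨sgnConst k (Equiv.swap 0 1), ?_⟩
  have : Fact (Nat.Prime 2) := ⟨Nat.prime_two⟩
  refine orderOf_eq_prime ?_ ?_
  · apply Subtype.ext
    funext i
    show (Equiv.swap (0 : Fin 3) 1) ^ 2 = 1
    decide
  · intro h
    have h1 := congrFun (congrArg Subtype.val h) 0
    have h2 : Equiv.swap (0 : Fin 3) 1 = 1 := h1
    exact absurd h2 (by decide)

theorem sgnSub_exists_three (k : ℕ) : ∃ x : ↥(sgnSub k), orderOf x = 3 := by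
  refine ⟨sgnConst k (Equiv.swap 0 1 * Equiv.swap 1 2), ?_⟩
  have : Fact (Nat.Prime 3) := ⟨Nat.prime_three⟩
  refine orderOf_eq_prime ?_ ?_
  · apply Subtype.ext
    funext i
    show (Equiv.swap (0 : Fin 3) 1 * Equiv.swap 1 2) ^ 3 = 1
    decide
  · intro h
    have h1 := congrFun (congrArg Subtype.val h) 0
    have h2 : Equiv.swap (0 : Fin 3) 1 * Equiv.swap 1 2 = 1 := h1
    exact absurd h2 (by decide)

theorem sgnSub_card_gt (k : ℕ) : k < Nat.card ↥(sgnSub k) := by
  have hs : Equiv.Perm.sign (Equiv.swap (0 : Fin 3) 1 * Equiv.swap 1 2) = 1 := by decide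
  let f : (Fin (k + 1) → Bool) → ↥(sgnSub k) := fun v =>
    ⟨fun i => if v i then Equiv.swap (0 : Fin 3) 1 * Equiv.swap 1 2 else 1, fun i => by
      have key : ∀ b : Bool, Equiv.Perm.sign
          (if b then Equiv.swap (0 : Fin 3) 1 * Equiv.swap 1 2 else 1) = 1 := by
        intro b; cases b
        · simp
        · rw [if_pos rfl]; exact hs
      rw [key, key]⟩
  have hf : Function.Injective f := by
    intro v w h
    funext i
    have h1 := congrFun (congrArg Subtype.val h) i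
    have h2 : (if v i then Equiv.swap (0 : Fin 3) 1 * Equiv.swap 1 2 else 1) =
        (if w i then Equiv.swap (0 : Fin 3) 1 * Equiv.swap 1 2 else 1) := h1
    have hne : Equiv.swap (0 : Fin 3) 1 * Equiv.swap 1 2 ≠ 1 := by decide
    cases hv : v i <;> cases hw : w i <;> simp_all
  have h1 := Nat.card_le_card_of_injective f hf
  have h2 : Nat.card (Fin (k + 1) → Bool) = 2 ^ (k + 1) := by
    rw [Nat.card_eq_fintype_card, Fintype.card_fun, Fintype.card_bool, Fintype.card_fin]
  have h3 : k + 1 < 2 ^ (k + 1) := Nat.lt_two_pow_self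
  omega

/-! ### The product -/

/-- The example group. -/
abbrev SpecGrp (k : ℕ) : Type :=
  DihedralGroup 5 × (DihedralGroup 7 × (DihedralGroup 11 × (DihedralGroup 19 × ↥(sgnSub k))))

theorem lcm5_ok : ∀ a ∈ [1, 2, 5], ∀ b ∈ [1, 2, 7], ∀ c ∈ [1, 2, 11], ∀ d ∈ [1, 2, 19],
    ∀ e ∈ [1, 2, 3], Nat.lcm a (Nat.lcm b (Nat.lcm c (Nat.lcm d e))) ∣ 43890 ∧
      Nat.lcm a (Nat.lcm b (Nat.lcm c (Nat.lcm d e))) ≠ 43890 := by decide +kernel

theorem specGrp_orderOf (k : ℕ) (x : SpecGrp k) : orderOf x ∣ 43890 ∧ orderOf x ≠ 43890 := by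
  obtain ⟨a, b, c, d, e⟩ := x
  rw [Prod.orderOf_mk, Prod.orderOf_mk, Prod.orderOf_mk, Prod.orderOf_mk]
  have ha := dihedral_orderOf (p := 5) (by norm_num) a
  have hb := dihedral_orderOf (p := 7) (by norm_num) b
  have hc := dihedral_orderOf (p := 11) (by norm_num) c
  have hd := dihedral_orderOf (p := 19) (by norm_num) d
  have he := sgnSub_orderOf k e
  exact lcm5_ok _ (by simpa using ha) _ (by simpa using hb) _ (by simpa using hc) _
    (by simpa using hd) _ (by simpa using he)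

theorem specGrp_exists (k : ℕ) (p : ℕ) (hp : p.Prime) (h : p ∣ 43890) :
    ∃ x : SpecGrp k, orderOf x = 43890 / p := by
  obtain ⟨t2, ht2⟩ := sgnSub_exists_two k
  obtain ⟨t3, ht3⟩ := sgnSub_exists_three k
  have r5 : orderOf (DihedralGroup.r 1 : DihedralGroup 5) = 5 := DihedralGroup.orderOf_r_one
  have r7 : orderOf (DihedralGroup.r 1 : DihedralGroup 7) = 7 := DihedralGroup.orderOf_r_one
  have r11 : orderOf (DihedralGroup.r 1 : DihedralGroup 11) = 11 := DihedralGroup.orderOf_r_one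
  have r19 : orderOf (DihedralGroup.r 1 : DihedralGroup 19) = 19 := DihedralGroup.orderOf_r_one
  have s5 : orderOf (DihedralGroup.sr 0 : DihedralGroup 5) = 2 := DihedralGroup.orderOf_sr 0
  have s7 : orderOf (DihedralGroup.sr 0 : DihedralGroup 7) = 2 := DihedralGroup.orderOf_sr 0
  have s11 : orderOf (DihedralGroup.sr 0 : DihedralGroup 11) = 2 := DihedralGroup.orderOf_sr 0
  have s19 : orderOf (DihedralGroup.sr 0 : DihedralGroup 19) = 2 := DihedralGroup.orderOf_sr 0
  rcases prime_dvd_43890 hp h with rfl | rfl | rfl | rfl | rfl | rfl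
  · refine ⟨(DihedralGroup.r 1, DihedralGroup.r 1, DihedralGroup.r 1, DihedralGroup.r 1, t3), ?_⟩
    rw [Prod.orderOf_mk, Prod.orderOf_mk, Prod.orderOf_mk, Prod.orderOf_mk, r5, r7, r11, r19, ht3]
    decide
  · refine ⟨(DihedralGroup.r 1, DihedralGroup.r 1, DihedralGroup.r 1, DihedralGroup.r 1, t2), ?_⟩
    rw [Prod.orderOf_mk, Prod.orderOf_mk, Prod.orderOf_mk, Prod.orderOf_mk, r5, r7, r11, r19, ht2]
    decide
  · refine ⟨(DihedralGroup.sr 0, DihedralGroup.r 1, DihedralGroup.r 1, DihedralGroup.r 1, t3), ?_⟩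
    rw [Prod.orderOf_mk, Prod.orderOf_mk, Prod.orderOf_mk, Prod.orderOf_mk, s5, r7, r11, r19, ht3]
    decide
  · refine ⟨(DihedralGroup.r 1, DihedralGroup.sr 0, DihedralGroup.r 1, DihedralGroup.r 1, t3), ?_⟩
    rw [Prod.orderOf_mk, Prod.orderOf_mk, Prod.orderOf_mk, Prod.orderOf_mk, r5, s7, r11, r19, ht3]
    decide
  · refine ⟨(DihedralGroup.r 1, DihedralGroup.r 1, DihedralGroup.sr 0, DihedralGroup.r 1, t3), ?_⟩
    rw [Prod.orderOf_mk, Prod.orderOf_mk, Prod.orderOf_mk, Prod.orderOf_mk, r5, r7, s11, r19, ht3]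
    decide
  · refine ⟨(DihedralGroup.r 1, DihedralGroup.r 1, DihedralGroup.r 1, DihedralGroup.sr 0, t3), ?_⟩
    rw [Prod.orderOf_mk, Prod.orderOf_mk, Prod.orderOf_mk, Prod.orderOf_mk, r5, r7, r11, s19, ht3]
    decide

/-- The element orders of the example group are the proper divisors of 43890. -/
theorem specGrp_range (k : ℕ) :
    Set.range (orderOf : SpecGrp k → ℕ) = {d | d ∣ 43890 ∧ d ≠ 43890} :=
  range_orderOf_eq_43890 (specGrp_orderOf k) (specGrp_exists k)

theorem specGrp_card_gt (k : ℕ) : k < Nat.card (SpecGrp k) := by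
  let f : ↥(sgnSub k) → SpecGrp k := fun t => (1, 1, 1, 1, t)
  have hf : Function.Injective f := by
    intro a b h
    have : (f a).2.2.2.2 = (f b).2.2.2.2 := by rw [h]
    exact this
  exact lt_of_lt_of_le (sgnSub_card_gt k) (Nat.card_le_card_of_injective f hf)

end Cfsg.Agent.Helper7
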