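/-
Helper7 library: the element orders of the Janko group `J₁` are 1, 2, 3, 5, 6, 7, 10, 11, 15, 19,
and the element orders of `J₁ × J₁ × J₁ × J₁` are the proper divisors of 43890.
-/
import Cfsg.Agent.Helper7.J1CentT
import Cfsg.Agent.Helper7.SpecDih

set_option autoImplicit false

namespace Cfsg.Agent.Helper7

open Cfsg

/-- An element of order divisible by `p` has a conjugate commuting with an element of order `p`
of a given subgroup of Sylow order. -/
theorem exists_conj_commute_of_dvd {G : Type*} [Group G] [Finite G] {p k : ℕ} [Fact p.Prime]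
    (P : Subgroup G) (hP : Nat.card P = p ^ k) (hidx : ¬ p ∣ P.index) (g : G)
    (hg : p ∣ orderOf g) : ∃ c : G, ∃ x ∈ P, orderOf x = p ∧ Commute (c * g * c⁻¹) x := by
  have h0 : orderOf g ≠ 0 := (orderOf_pos g).ne'
  have ho : orderOf (g ^ (orderOf g / p)) = p := orderOf_pow_orderOf_div h0 hg
  have hz : IsPGroup p (Subgroup.zpowers (g ^ (orderOf g / p))) :=
    IsPGroup.of_card (n := 1) (by rw [Nat.card_zpowers, ho, pow_one])
  obtain ⟨Q, hQ⟩ := hz.exists_le_sylow
  obtain ⟨c, hc⟩ := MulAction.exists_smul_eq G Q ((IsPGroup.of_card hP).toSylow hidx)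
  refine ⟨c, c * g ^ (orderOf g / p) * c⁻¹, ?_, ?_, ?_⟩
  · have h1 : g ^ (orderOf g / p) ∈ (Q : Subgroup G) := hQ (Subgroup.mem_zpowers _)
    have h2 : c * g ^ (orderOf g / p) * c⁻¹ ∈ ((c • Q : Sylow p G) : Subgroup G) := by
      rw [Sylow.coe_subgroup_smul, Subgroup.mem_pointwise_smul_iff_inv_smul_mem, MulAut.smul_def,
        MulAut.conj_inv_apply]
      have : c⁻¹ * (c * g ^ (orderOf g / p) * c⁻¹) * c = g ^ (orderOf g / p) := by group
      rw [this]; exact h1
    rw [hc] at h2
    exact h2
  · have : c * g ^ (orderOf g / p) * c⁻¹ = MulAut.conj c (g ^ (orderOf g / p)) := rfl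
    rw [this, MulEquiv.orderOf_eq, ho]
  · rw [← conj_pow]
    exact (Commute.refl _).pow_right _

theorem orderOf_conj_eq {G : Type*} [Group G] (c g : G) : orderOf (c * g * c⁻¹) = orderOf g := by
  have : c * g * c⁻¹ = MulAut.conj c g := rfl
  rw [this, MulEquiv.orderOf_eq]

/-- The elements of a table have `p`-th power 1. -/
noncomputable def powChk (T n p : ℕ) : Bool :=
  ltAll (fun m => Nat.blt (e32 T m) 175560 &&
    natLet (cQ (e32 T m)) (fun c => Nat.beq (jpowC c p) idC)) n

theorem pow_eq_one_of_cent {qz : ℕ} (hqz : qz < 175560) (KT T n p : ℕ)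
    (hk : ktChk (cQ qz) KT = true)
    (h1 : centChkR qz KT T n 0 800 = true) (h2 : centChkR qz KT T n 800 800 = true)
    (h3 : centChkR qz KT T n 1600 800 = true) (h4 : centChkR qz KT T n 2400 680 = true)
    (hp : powChk T n p = true) (g : ↥Spor.J1) (hg : g * Qg qz = Qg qz * g) : g ^ p = 1 := by
  obtain ⟨m, hm, rfl⟩ := cent_subQ hqz KT T n hk h1 h2 h3 h4 g hg
  have h := ltAll_spec _ n hp m hm
  rw [Bool.and_eq_true, natLet_eq] at h
  exact (pow_eq_one_iff_code (isCode_Qg (Nat.le_of_ble_eq_true h.1)) p).mpr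
    (Nat.eq_of_beq_eq_true h.2)

/-! The centraliser of the element of order 7. -/
def j1CentKT7 : ℕ := 0x201c01008070240102802028000040101c070100200401008090040a018020280700c0100404008000280100407014060140000c030280a018090040401000020000000a0200401c09000040280900007028020100700800004010080a00404000070080600c03010010040700800004010200400c0201005000040000700805020080240100001004040280301c0801401008020040a028070080002807020020100500008000010280a0040700801004060240101c030240101c080040a0140a01c00028010080101003000030000002803010080180a0080201c00020000000a00c0a024070040500408014030200300c0802004004020100702400008020000701007004050180301c050000a00004008050200301001024040140200c03000060000002406014000000101c0800008000000280801c0000c08000000040400c0000c080200800c0500c030200a024040140900004008060200801c050200301c0001c09024000100a008070100800003000000040402401028020240401c0a01c0902402028040080801008014010240201c07008000100100c0a01005018050000400803008050200a0140001400000090140400402004000040a0140a014070000600c05004020240301003024080080502001010070080a02802024070200201c0700c0400c090280a0240201007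
def j1CentT7 : ℕ := 0x2359000015559000123b20000ef980000eb960000c8a100005986

theorem cent7_kt : ktChk (cQ 87385) j1CentKT7 = true := by decide +kernel
theorem cent7_1 : centChkR 87385 j1CentKT7 j1CentT7 7 0 800 = true := by decide +kernel
theorem cent7_2 : centChkR 87385 j1CentKT7 j1CentT7 7 800 800 = true := by decide +kernel
theorem cent7_3 : centChkR 87385 j1CentKT7 j1CentT7 7 1600 800 = true := by decide +kernel
theorem cent7_4 : centChkR 87385 j1CentKT7 j1CentT7 7 2400 680 = true := by decide +kernel
theorem cent7_pow : powChk j1CentT7 7 7 = true := by decide +kernel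

theorem cent7 (g : ↥Spor.J1) (hg : g * Qg 87385 = Qg 87385 * g) : g ^ 7 = 1 :=
  pow_eq_one_of_cent (by norm_num) j1CentKT7 j1CentT7 7 7 cent7_kt cent7_1 cent7_2
    cent7_3 cent7_4 cent7_pow g hg

/-! The centraliser of the element of order 11. -/
def j1CentKT11 : ℕ := 0x800000028040200001006020000080801c0301c0001002014030100800401018020040600c090280102804024080100801801008010040101c0600c090140901402024050180901805014090140901c05008080200a0240a00404004020280001c07014080000200c0201c060080800c010200a004050240101000004070240402404004050140301c060000a0140a00c0a024070240900c0a00402028010040a0100500c0201c00020000000102009008000100401c010100a0180a00c01008000280800c0001c0001c09028020100a0080101c0600c09004010080a000010040702802028040200a0280501403028070240300807008060200301c00008000280100401010090240401c020040101c0402809024000100900401028070140801409004040200a0040200809028070280700c060040601c0001807014060140000c010080901c04008010040a01c030040a0180201c060080300c0a02402008010100a0100201c0a0140100c010080802007000040240502009014080280700807024090240a01c010040202802024080040a024090200400c060240a01c0a01c0200805020030200300c080200400007008050200801c080240401800020070140000405014000000a00809000090280402000020000000500805008020180500c0901803028070080a0040a0280700800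
def j1CentT11 : ℕ := 0x26a8300025c43000205f00001fc570001b8e100016d6c00010c8a00009c4700005b870000598600000595

theorem cent11_kt : ktChk (cQ 1429) j1CentKT11 = true := by decide +kernel
theorem cent11_1 : centChkR 1429 j1CentKT11 j1CentT11 11 0 800 = true := by decide +kernel
theorem cent11_2 : centChkR 1429 j1CentKT11 j1CentT11 11 800 800 = true := by decide +kernel
theorem cent11_3 : centChkR 1429 j1CentKT11 j1CentT11 11 1600 800 = true := by decide +kernel
theorem cent11_4 : centChkR 1429 j1CentKT11 j1CentT11 11 2400 680 = true := by decide +kernel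
theorem cent11_pow : powChk j1CentT11 11 11 = true := by decide +kernel

theorem cent11 (g : ↥Spor.J1) (hg : g * Qg 1429 = Qg 1429 * g) : g ^ 11 = 1 :=
  pow_eq_one_of_cent (by norm_num) j1CentKT11 j1CentT11 11 11 cent11_kt cent11_1 cent11_2
    cent11_3 cent11_4 cent11_pow g hg

/-! The centraliser of the element of order 19. -/
def j1CentKT19 : ℕ := 0x10080900c0400c05004020240301003014010080900c0400c05004020240301003014010080900c0400c05004020240301003014010080900c0400c05004020240301003014010080900c0400c05004020240301003014010080900c0400c05004020240301003014010080900c0400c05004020240301003014010080900c0400c05004020240301003014010080900c0400c05004020240301003014010080900c0400c05004020240301003014010080900c0400c05004020240301003014010080900c0400c05004020240301003014010080900c0400c05004020240301003014010080900c0400c05004020240301003014010080900c0400c05004020240301003014010080900c0400c05004020240301003014010080900c0400c05004020240301003014010080900c0400c05004020240301003014010080900c0400c05004020240301003014010080900c0400c05004020240301003014010080900c0400c05004020240301003014010080900c0400c05004020240301003014010080900c0400c05004020240301003014010080900c0400c05004020240301003014010080900c0400c05004020240301003014010080900c0400c05004020240301003014010080900c0400c05004020240301003014010080900c0400c05004020240301003014010080900c0400c05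
def j1CentT19 : ℕ := 0x59b4000059b2000059b1000059b0000059af000059ad000059aa000059a8000059a6000059a4000059a00000599f000059910000598c0000598600005985000059840000598300005982

theorem cent19_kt : ktChk (cQ 22914) j1CentKT19 = true := by decide +kernel
theorem cent19_1 : centChkR 22914 j1CentKT19 j1CentT19 19 0 800 = true := by decide +kernel
theorem cent19_2 : centChkR 22914 j1CentKT19 j1CentT19 19 800 800 = true := by decide +kernel
theorem cent19_3 : centChkR 22914 j1CentKT19 j1CentT19 19 1600 800 = true := by decide +kernel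
theorem cent19_4 : centChkR 22914 j1CentKT19 j1CentT19 19 2400 680 = true := by decide +kernel
theorem cent19_pow : powChk j1CentT19 19 19 = true := by decide +kernel

theorem cent19 (g : ↥Spor.J1) (hg : g * Qg 22914 = Qg 22914 * g) : g ^ 19 = 1 :=
  pow_eq_one_of_cent (by norm_num) j1CentKT19 j1CentT19 19 19 cent19_kt cent19_1 cent19_2
    cent19_3 cent19_4 cent19_pow g hg

/-- An element of order divisible by an odd prime `p ∈ {7, 11, 19}` has order `p`. -/
theorem orderOf_eq_of_cent {p k : ℕ} [Fact p.Prime] (ho : orderOf (Qg (seedQ k)) = p)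
    (hidx : ∀ j, p * j = 175560 → ¬ p ∣ j)
    (hcent : ∀ g : ↥Spor.J1, g * Qg (seedQ k) = Qg (seedQ k) * g → g ^ p = 1)
    (g : ↥Spor.J1) (hg : p ∣ orderOf g) : orderOf g = p := by
  have hP : Nat.card (Subgroup.zpowers (Qg (seedQ k))) = p ^ 1 := by
    rw [Nat.card_zpowers, ho, pow_one]
  have hi : ¬ p ∣ (Subgroup.zpowers (Qg (seedQ k))).index := by
    apply hidx
    rw [← card_J1, ← Subgroup.card_mul_index (Subgroup.zpowers (Qg (seedQ k))), hP, pow_one]
  obtain ⟨c, x, hxP, hxo, hcomm⟩ := exists_conj_commute_of_dvd _ hP hi g hg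
  have hle : Subgroup.zpowers x ≤ Subgroup.zpowers (Qg (seedQ k)) :=
    (Subgroup.zpowers_le).mpr hxP
  have heq : Subgroup.zpowers x = Subgroup.zpowers (Qg (seedQ k)) :=
    Subgroup.eq_of_le_of_card_ge hle (by rw [Nat.card_zpowers, Nat.card_zpowers, hxo, ho])
  have hz : Qg (seedQ k) ∈ Subgroup.zpowers x := heq ▸ Subgroup.mem_zpowers _
  obtain ⟨j, hj⟩ := Subgroup.mem_zpowers_iff.mp hz
  have hc2 : Commute (c * g * c⁻¹) (Qg (seedQ k)) := hj ▸ hcomm.zpow_right j
  have h1 := hcent _ hc2.eq
  have h2 : orderOf g ∣ p := by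
    rw [← orderOf_conj_eq c g]; exact orderOf_dvd_of_pow_eq_one h1
  exact Nat.dvd_antisymm h2 hg

/-! The involutions of the Sylow 2-subgroup are conjugate to `jT`, and the elements of the
centraliser of `jT` have orders dividing 6 or 10. -/
def j1ConjT : ℕ := 0x2925100009e6200022fd10000a7c000001480000065fe0000598600000000

theorem conjT_chk : ltAll (fun m => Nat.beq m 0 ||
    conjChk 116113 (seedQ m) (e32 j1ConjT m)) 8 = true := by decide +kernel

theorem centT_pow : ltAll (fun m => Nat.blt (e32 j1CentT m) 175560 &&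
    natLet (cQ (e32 j1CentT m)) (fun c => Nat.beq (jpowC c 6) idC || Nat.beq (jpowC c 10) idC))
    120 = true := by decide +kernel

theorem pow_of_comm_jT (g : ↥Spor.J1) (hg : g * jT = jT * g) : g ^ 6 = 1 ∨ g ^ 10 = 1 := by
  obtain ⟨m, hm, rfl⟩ := cent_subQ (by norm_num) j1CentKT j1CentT 120 centT_kt centT_1 centT_2
    centT_3 centT_4 g hg
  have h := ltAll_spec _ 120 centT_pow m hm
  rw [Bool.and_eq_true, natLet_eq, Bool.or_eq_true] at h
  have hc := isCode_Qg (Nat.le_of_ble_eq_true h.1)
  rcases h.2 with h6 | h10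
  · exact Or.inl ((pow_eq_one_iff_code hc 6).mpr (Nat.eq_of_beq_eq_true h6))
  · exact Or.inr ((pow_eq_one_iff_code hc 10).mpr (Nat.eq_of_beq_eq_true h10))

theorem conj_pow_eq_one {G : Type*} [Group G] (a g : G) (n : ℕ) (h : (a * g * a⁻¹) ^ n = 1) :
    g ^ n = 1 := by
  rw [conj_pow] at h
  have : g ^ n = a⁻¹ * (a * g ^ n * a⁻¹) * a := by group
  rw [this, h]; group

theorem pow_of_even (g : ↥Spor.J1) (hg : 2 ∣ orderOf g) : g ^ 6 = 1 ∨ g ^ 10 = 1 := by
  have : Fact (Nat.Prime 2) := ⟨Nat.prime_two⟩
  have hi : ¬ 2 ∣ j1P2.index := by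
    have h3 := Subgroup.card_mul_index j1P2
    rw [card_j1P2, card_J1] at h3
    omega
  obtain ⟨c, x, ⟨m, hm, rfl⟩, hxo, hcomm⟩ :=
    exists_conj_commute_of_dvd j1P2 (k := 3) (by rw [card_j1P2]; norm_num) hi g hg
  have hm0 : m ≠ 0 := by
    rintro rfl
    rw [seedQ_zero, Qg_one, orderOf_one] at hxo
    omega
  have hchk := ltAll_spec _ 8 conjT_chk m hm
  have hb : Nat.beq m 0 = false := by
    rw [← Bool.not_eq_true]; intro h'; exact hm0 (Nat.eq_of_beq_eq_true h')
  rw [hb, Bool.false_or, conjChk, Bool.and_eq_true, Bool.and_eq_true] at hchk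
  obtain ⟨ha, hd, he⟩ := hchk
  have ha' : seedQ m < 175560 := Nat.le_of_ble_eq_true ha
  have hd' : e32 j1ConjT m < 175560 := Nat.le_of_ble_eq_true hd
  have e : Qg (seedQ m) * Qg (e32 j1ConjT m) = Qg (e32 j1ConjT m) * jT :=
    eq_of_isCode (Nat.eq_of_beq_eq_true he ▸ isCode_mul (isCode_Qg ha') (isCode_Qg hd'))
      (isCode_mul (isCode_Qg hd') isCode_jT)
  generalize Qg (seedQ m) = x at e hcomm
  generalize Qg (e32 j1ConjT m) = d at e
  have ht : jT = d⁻¹ * x * d := by rw [mul_assoc, e]; group
  have key : (d⁻¹ * c) * g * (d⁻¹ * c)⁻¹ * jT = jT * ((d⁻¹ * c) * g * (d⁻¹ * c)⁻¹) := by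
    rw [ht]
    calc d⁻¹ * c * g * (d⁻¹ * c)⁻¹ * (d⁻¹ * x * d) = d⁻¹ * (c * g * c⁻¹ * x) * d := by group
      _ = d⁻¹ * (x * (c * g * c⁻¹)) * d := by rw [hcomm.eq]
      _ = d⁻¹ * x * d * (d⁻¹ * c * g * (d⁻¹ * c)⁻¹) := by group
  rcases pow_of_comm_jT _ key with h | h
  · exact Or.inl (conj_pow_eq_one _ g 6 h)
  · exact Or.inr (conj_pow_eq_one _ g 10 h)

theorem seedQ_10 : seedQ 10 = 87385 := by decide
theorem seedQ_11 : seedQ 11 = 1429 := by decide
theorem seedQ_12 : seedQ 12 = 22914 := by decide

/-- The element orders of `J₁`. -/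
theorem j1_orderOf_mem (g : ↥Spor.J1) :
    orderOf g ∈ ([1, 2, 3, 5, 6, 7, 10, 11, 15, 19] : List ℕ) := by
  have hdvd : orderOf g ∣ 175560 := card_J1 ▸ orderOf_dvd_natCard g
  by_cases h19 : 19 ∣ orderOf g
  · have : Fact (Nat.Prime 19) := ⟨by norm_num⟩
    have := orderOf_eq_of_cent (k := 12) (orderOf_seed_aux (by norm_num) seed_order19)
      (fun j hj => by omega) (fun g hg => cent19 g (by rw [← seedQ_12]; exact hg)) g h19
    rw [this]; decide
  by_cases h11 : 11 ∣ orderOf g
  · have : Fact (Nat.Prime 11) := ⟨by norm_num⟩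
    have := orderOf_eq_of_cent (k := 11) (orderOf_seed_aux (by norm_num) seed_order11)
      (fun j hj => by omega) (fun g hg => cent11 g (by rw [← seedQ_11]; exact hg)) g h11
    rw [this]; decide
  by_cases h7 : 7 ∣ orderOf g
  · have : Fact (Nat.Prime 7) := ⟨by norm_num⟩
    have := orderOf_eq_of_cent (k := 10) (orderOf_seed_aux (by norm_num) seed_order7)
      (fun j hj => by omega) (fun g hg => cent7 g (by rw [← seedQ_10]; exact hg)) g h7
    rw [this]; decide
  by_cases h2 : 2 ∣ orderOf g
  · rcases pow_of_even g h2 with h | h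
    · have h6 : orderOf g ∣ 6 := orderOf_dvd_of_pow_eq_one h
      have hle : orderOf g ≤ 6 := Nat.le_of_dvd (by norm_num) h6
      have hpos := orderOf_pos g
      generalize orderOf g = n at *
      interval_cases n <;> simp_all
    · have h10 : orderOf g ∣ 10 := orderOf_dvd_of_pow_eq_one h
      have hle : orderOf g ≤ 10 := Nat.le_of_dvd (by norm_num) h10
      have hpos := orderOf_pos g
      generalize orderOf g = n at *
      interval_cases n <;> simp_all
  · have hco : Nat.Coprime (orderOf g) (2 ^ 3 * (7 * (11 * 19))) := by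
      refine Nat.Coprime.mul_right (Nat.Coprime.pow_right 3 ?_) (Nat.Coprime.mul_right ?_
        (Nat.Coprime.mul_right ?_ ?_))
      · exact ((Nat.Prime.coprime_iff_not_dvd Nat.prime_two).mpr h2).symm
      · exact ((Nat.Prime.coprime_iff_not_dvd (by norm_num)).mpr h7).symm
      · exact ((Nat.Prime.coprime_iff_not_dvd (by norm_num)).mpr h11).symm
      · exact ((Nat.Prime.coprime_iff_not_dvd (by norm_num)).mpr h19).symm
    have h15 : orderOf g ∣ 15 := by
      have e : (175560 : ℕ) = 2 ^ 3 * (7 * (11 * 19)) * 15 := by norm_num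
      rw [e] at hdvd
      exact hco.dvd_of_dvd_mul_left hdvd
    have hle : orderOf g ≤ 15 := Nat.le_of_dvd (by norm_num) h15
    have hpos := orderOf_pos g
    generalize orderOf g = n at *
    interval_cases n <;> simp_all

/-! ### Elements of given orders -/

theorem orderOf_eq_mul_of_primes {G : Type*} [Group G] {g : G} {p q : ℕ} (hp : p.Prime)
    (hq : q.Prime) (h1 : g ^ (p * q) = 1) (h2 : g ^ p ≠ 1) (h3 : g ^ q ≠ 1) :
    orderOf g = p * q := by
  refine orderOf_eq_of_pow_and_pow_div_prime (Nat.mul_pos hp.pos hq.pos) h1 (fun r hr hrd => ?_)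
  rcases (Nat.Prime.dvd_mul hr).mp hrd with h | h
  · have : r = p := (Nat.prime_dvd_prime_iff_eq hr hp).mp h
    subst this
    rw [Nat.mul_div_cancel_left _ hr.pos]; exact h3
  · have : r = q := (Nat.prime_dvd_prime_iff_eq hr hq).mp h
    subst this
    rw [Nat.mul_div_cancel _ hr.pos]; exact h2

theorem orderOf_Qg_mul {q a c : ℕ} (hq : q < 175560) (ha : a.Prime) (hc : c.Prime)
    (h1 : jpowC (cQ q) (a * c) = idC) (h2 : jpowC (cQ q) a ≠ idC) (h3 : jpowC (cQ q) c ≠ idC) :
    orderOf (Qg q) = a * c :=
  orderOf_eq_mul_of_primes ha hc ((pow_eq_one_iff_code (isCode_Qg hq) _).mpr h1)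
    (fun h => h2 ((pow_eq_one_iff_code (isCode_Qg hq) _).mp h))
    (fun h => h3 ((pow_eq_one_iff_code (isCode_Qg hq) _).mp h))

theorem j1_exists_six : ∃ g : ↥Spor.J1, orderOf g = 6 :=
  ⟨Qg 11183, orderOf_Qg_mul (a := 2) (c := 3) (by norm_num) (by norm_num) (by norm_num)
    (by decide +kernel) (by decide +kernel) (by decide +kernel)⟩

theorem j1_exists_ten : ∃ g : ↥Spor.J1, orderOf g = 10 :=
  ⟨Qg 13701, orderOf_Qg_mul (a := 2) (c := 5) (by norm_num) (by norm_num) (by norm_num)
    (by decide +kernel) (by decide +kernel) (by decide +kernel)⟩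

theorem j1_exists_fifteen : ∃ g : ↥Spor.J1, orderOf g = 15 :=
  ⟨Qg 114274, orderOf_Qg_mul (a := 3) (c := 5) (by norm_num) (by norm_num) (by norm_num)
    (by decide +kernel) (by decide +kernel) (by decide +kernel)⟩

theorem j1_exists_five : ∃ g : ↥Spor.J1, orderOf g = 5 :=
  have : Fact (Nat.Prime 5) := ⟨by norm_num⟩
  ⟨_, orderOf_seed_aux (k := 9) (by norm_num) seed_order5⟩

theorem j1_exists_seven : ∃ g : ↥Spor.J1, orderOf g = 7 :=
  have : Fact (Nat.Prime 7) := ⟨by norm_num⟩
  ⟨_, orderOf_seed_aux (k := 10) (by norm_num) seed_order7⟩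

theorem j1_exists_eleven : ∃ g : ↥Spor.J1, orderOf g = 11 :=
  have : Fact (Nat.Prime 11) := ⟨by norm_num⟩
  ⟨_, orderOf_seed_aux (k := 11) (by norm_num) seed_order11⟩

theorem j1_exists_nineteen : ∃ g : ↥Spor.J1, orderOf g = 19 :=
  have : Fact (Nat.Prime 19) := ⟨by norm_num⟩
  ⟨_, orderOf_seed_aux (k := 12) (by norm_num) seed_order19⟩

/-! ### The fourth power -/

theorem lcm4_ok : ∀ a ∈ ([1, 2, 3, 5, 6, 7, 10, 11, 15, 19] : List ℕ),
    ∀ b ∈ ([1, 2, 3, 5, 6, 7, 10, 11, 15, 19] : List ℕ),
    ∀ c ∈ ([1, 2, 3, 5, 6, 7, 10, 11, 15, 19] : List ℕ),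
    ∀ d ∈ ([1, 2, 3, 5, 6, 7, 10, 11, 15, 19] : List ℕ),
    Nat.lcm a (Nat.lcm b (Nat.lcm c d)) ∣ 43890 ∧ Nat.lcm a (Nat.lcm b (Nat.lcm c d)) ≠ 43890 := by
  decide +kernel

/-- The element orders of `J₁⁴` are the proper divisors of 43890. -/
theorem j1pow4_range :
    Set.range (orderOf : ↥Spor.J1 × ↥Spor.J1 × ↥Spor.J1 × ↥Spor.J1 → ℕ) =
      {d | d ∣ 43890 ∧ d ≠ 43890} := by
  apply range_orderOf_eq_43890
  · rintro ⟨a, b, c, d⟩
    rw [Prod.orderOf_mk, Prod.orderOf_mk, Prod.orderOf_mk]
    exact lcm4_ok _ (j1_orderOf_mem a) _ (j1_orderOf_mem b) _ (j1_orderOf_mem c) _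
      (j1_orderOf_mem d)
  · intro p hp hpd
    obtain ⟨g5, h5⟩ := j1_exists_five
    obtain ⟨g6, h6⟩ := j1_exists_six
    obtain ⟨g7, h7⟩ := j1_exists_seven
    obtain ⟨g10, h10⟩ := j1_exists_ten
    obtain ⟨g11, h11⟩ := j1_exists_eleven
    obtain ⟨g15, h15⟩ := j1_exists_fifteen
    obtain ⟨g19, h19⟩ := j1_exists_nineteen
    rcases prime_dvd_43890 hp hpd with rfl | rfl | rfl | rfl | rfl | rfl
    · refine ⟨(g15, g7, g11, g19), ?_⟩
      rw [Prod.orderOf_mk, Prod.orderOf_mk, Prod.orderOf_mk, h15, h7, h11, h19]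
      decide
    · refine ⟨(g10, g7, g11, g19), ?_⟩
      rw [Prod.orderOf_mk, Prod.orderOf_mk, Prod.orderOf_mk, h10, h7, h11, h19]
      decide
    · refine ⟨(g6, g7, g11, g19), ?_⟩
      rw [Prod.orderOf_mk, Prod.orderOf_mk, Prod.orderOf_mk, h6, h7, h11, h19]
      decide
    · refine ⟨(g6, g5, g11, g19), ?_⟩
      rw [Prod.orderOf_mk, Prod.orderOf_mk, Prod.orderOf_mk, h6, h5, h11, h19]
      decide
    · refine ⟨(g6, g5, g7, g19), ?_⟩
      rw [Prod.orderOf_mk, Prod.orderOf_mk, Prod.orderOf_mk, h6, h5, h7, h19]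
      decide
    · refine ⟨(g6, g5, g7, g11), ?_⟩
      rw [Prod.orderOf_mk, Prod.orderOf_mk, Prod.orderOf_mk, h6, h5, h7, h11]
      decide

end Cfsg.Agent.Helper7
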