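/-
Helper7 library: every automorphism of the Janko group `J₁` is inner. An automorphism is
normalised on a Frobenius subgroup `⟨A, B⟩` of order 110; it then permutes the centraliser of the
involution `B ^ 5`, and the image of a third generator `T` in this centraliser is pinned down by
the orders of the elements `A ^ i * B ^ j * T`.
-/
import Cfsg.Agent.Helper7.J1Spec
import Cfsg.Agent.Helper7.AutTools

set_option autoImplicit false

namespace Cfsg.Agent.Helper7

open Cfsg

/-! The elements `A` (order 11), `B` (order 10, `B A B⁻¹ = A²`), `T`, and the involution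
`B ^ 5`. -/
noncomputable def joA : ↥Spor.J1 := Qg 1429
noncomputable def joB : ↥Spor.J1 := Qg 138225
noncomputable def joT : ↥Spor.J1 := Qg 2865
noncomputable def joU : ↥Spor.J1 := Qg 22633

theorem isCode_joA : IsCode (joA : GL (Fin 7) (ZMod 11)) (cQ 1429) := isCode_Qg (by norm_num)
theorem isCode_joB : IsCode (joB : GL (Fin 7) (ZMod 11)) (cQ 138225) := isCode_Qg (by norm_num)
theorem isCode_joT : IsCode (joT : GL (Fin 7) (ZMod 11)) (cQ 2865) := isCode_Qg (by norm_num)
theorem isCode_joU : IsCode (joU : GL (Fin 7) (ZMod 11)) (cQ 22633) := isCode_Qg (by norm_num)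

/-- Two elements with equal codes are equal. -/
theorem eq_of_codes {g h : ↥Spor.J1} {c d : ℕ} (hg : IsCode (g : GL (Fin 7) (ZMod 11)) c)
    (hh : IsCode (h : GL (Fin 7) (ZMod 11)) d) (e : c = d) : g = h :=
  eq_of_isCode (e ▸ hg) hh

theorem orderOf_joA : orderOf joA = 11 := by
  have : Fact (Nat.Prime 11) := ⟨by norm_num⟩
  have h := orderOf_seed_aux (k := 11) (by norm_num) seed_order11
  rwa [seedQ_11] at h

theorem joB_conj : joB * joA * joB⁻¹ = joA ^ 2 := by
  have h : joB * joA = joA ^ 2 * joB :=
    eq_of_codes (isCode_mul isCode_joB isCode_joA)
      (isCode_mul (isCode_pow isCode_joA 2) isCode_joB) (by decide +kernel)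
  rw [h, mul_inv_cancel_right]

theorem joB_pow : joB ^ 5 = joU :=
  eq_of_codes (isCode_pow isCode_joB 5) isCode_joU (by decide +kernel)

theorem joT_comm : joT * joU = joU * joT :=
  eq_of_codes (isCode_mul isCode_joT isCode_joU) (isCode_mul isCode_joU isCode_joT)
    (by decide +kernel)

/-- The exponents of the elements of the centraliser of `A`. -/
def j1ExpA : ℕ := 0x8000000070000000500000002000000040000000600000003000000090000000a0000000000000001

theorem centA_pow : ltAll (fun m => Nat.blt (e32 j1CentT11 m) 175560 &&
    Nat.beq (cQ (e32 j1CentT11 m)) (jpowC (cQ 1429) (e32 j1ExpA m))) 11 = true := by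
  decide +kernel

theorem centA (y : ↥Spor.J1) (hy : y * joA = joA * y) : ∃ i : ℕ, y = joA ^ i := by
  obtain ⟨m, hm, rfl⟩ := cent_subQ (by norm_num) j1CentKT11 j1CentT11 11 cent11_kt cent11_1
    cent11_2 cent11_3 cent11_4 y hy
  have h := ltAll_spec _ 11 centA_pow m hm
  rw [Bool.and_eq_true] at h
  exact ⟨e32 j1ExpA m, eq_of_codes (isCode_Qg (Nat.le_of_ble_eq_true h.1))
    (isCode_pow isCode_joA _) (Nat.eq_of_beq_eq_true h.2)⟩

/-! The centraliser of the involution `B ^ 5`. -/
def j1CentKTU : ℕ := 0x90280102804018030040902403004010240301c03008040180000c08024040100301c01024040280201009020030200800c030180400c0201c050000301c010240200004010060240901806014020000a0200800004000070000a028090040a024010240900c010040a02401004070000102404028020100900404024000040a004010080200c01004020040500c05004060100001c0700c0400c08008070040201009028090000a028020280101c030080a0040101c050280501c00018080180800c0800c0602008000080280701806014050200502805010000040a02804018080240201c040080001c01008060080201406018010240701009000040180300c0800c080200601000014080180102408010040180300009014050000500000014020040400c010280900002000000040201002028090100a0240201c0a00804008010000102402000020000400404008090240a01002000010040a0280a00c0a024070280502809004000040a01c0300407018060180000c0100402004020080901c070080a02802020090100500003010060140901402024050040a0100500c020040100807004050280802000010000000100c020100a0180a00c01008040180000c040200100807028020100200801028070000a004010080701c02000040040601c000180301800010000000102003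
def j1CentTU : ℕ := 0x2a8bc0002a64600029f5500029c9700029c2300028bae00028b150002756200026879000262270002612700025db2000258ad0002542b00025174000242db00024279000242470002423900023d3100022d4700021de200021bf100021b7300020e4700020d5700020bfc00020b1d000205aa0001fb240001f2d50001e8420001e62b0001e5d40001e56f0001d2e20001cb790001c8fd0001c67b0001bfa60001bcbf0001b9f90001b86f0001b6430001b60e00019ef400019e7000019a6f00018d9d00018710000182bb0001809200017c14000177bf00016ded00016cdd000160e600015ce100015c5f0001535b00014f07000147c50001479b00014573000143d000013fbe00013cfc000134e40001320f00012d3100012957000116b60001167100011605000105b50000fde10000f3230000eec50000edec0000eca00000eba60000dd3d0000dca40000dac70000d5960000ce110000be810000b8350000b8010000b7c80000b7ae0000a9be0000a61e0000a31500009a22000099260000964b00008c8b00007fa4000069e9000069880000598600005869000055a300004eb300004c460000432000003ce000003379000031fc000031a300002bdc00002894000026a80000237800001e1f00001cac0000192d0000117000000b31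

theorem centU_kt : ktChk (cQ 22633) j1CentKTU = true := by decide +kernel
theorem centU_1 : centChkR 22633 j1CentKTU j1CentTU 120 0 800 = true := by decide +kernel
theorem centU_2 : centChkR 22633 j1CentKTU j1CentTU 120 800 800 = true := by decide +kernel
theorem centU_3 : centChkR 22633 j1CentKTU j1CentTU 120 1600 800 = true := by decide +kernel
theorem centU_4 : centChkR 22633 j1CentKTU j1CentTU 120 2400 680 = true := by decide +kernel

/-! For each element `c ≠ T` of the centraliser: a prefix `A ^ i * B ^ j` (number `10 i + j`)
and an exponent `n` such that exactly one of `(A ^ i * B ^ j * c) ^ n`,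
`(A ^ i * B ^ j * T) ^ n` is the identity. -/
def j1DistK : ℕ := 0x400000000000000000000000000000002000000040000000a000000020000000400000003000000040000000a0000000000000004000000000000000000000002000000020000000000000003000000000000000300000000000000000000000200000000000000000000000000000004000000040000000300000003000000040000000400000002000000000000000000000002000000040000000000000000000000040000000a0000000000000003000000000000000400000000000000040000000400000000000000000000000000000002000000010000000a000000020000000000000000000000020000000400000003000000000000000000000004000000000000000200000002000000040000000000000002000000030000000000000000000000000000000400000000000000040000000a000000040000000000000000000000040000000200000004000000030000000000000000000000040000000400000004000000040000000000000000000000040000000300000000000000020000000200000000000000000000000000000004000000040000000200000000000000040000000b00000000000000030000000000000000000000000000000e0000000000000000000000000000000400000000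
def j1DistN : ℕ := 0x30000000200000003000000020000000200000002000000020000000300000002000000020000000100000002000000060000000200000002000000020000000200000002000000020000000300000003000000020000000300000003000000030000000200000003000000020000000200000002000000020000000300000003000000020000000200000002000000020000000200000002000000020000000300000003000000020000000600000003000000030000000300000002000000020000000200000002000000030000000300000003000000020000000100000006000000020000000300000002000000020000000200000003000000020000000200000002000000030000000100000002000000020000000200000002000000030000000200000002000000030000000200000002000000020000000300000002000000020000000200000001000000020000000200000003000000020000000200000002000000020000000200000002000000020000000200000002000000030000000200000002000000020000000300000001000000020000000200000002000000020000000300000002000000020000000300000003000000030000000200000002000000030000000200000002000000020000000200000001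

/-- The code of the prefix number `k`. -/
noncomputable def prefC (k : ℕ) : ℕ :=
  mulC (jpowC (cQ 1429) (Nat.div k 10)) (jpowC (cQ 138225) (Nat.mod k 10))

noncomputable def distChk (m : ℕ) : Bool :=
  Nat.blt (e32 j1CentTU m) 175560 && (Nat.beq (e32 j1CentTU m) 2865 ||
    natLet (prefC (e32 j1DistK m)) (fun P =>
      Bool.xor (Nat.beq (jpowC (mulC P (cQ (e32 j1CentTU m))) (e32 j1DistN m)) idC)
        (Nat.beq (jpowC (mulC P (cQ 2865)) (e32 j1DistN m)) idC)))

theorem dist_a : ltAll distChk 40 = true := by decide +kernel
theorem dist_b : ltAll (fun m => distChk (Nat.add 40 m)) 40 = true := by decide +kernel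
theorem dist_c : ltAll (fun m => distChk (Nat.add 80 m)) 40 = true := by decide +kernel

theorem distChk_all {m : ℕ} (hm : m < 120) : distChk m = true := by
  by_cases h1 : m < 40
  · exact ltAll_spec _ 40 dist_a m h1
  by_cases h2 : m < 80
  · exact ltAll_off distChk 40 40 dist_b m (by omega) (by omega)
  · exact ltAll_off distChk 80 40 dist_c m (by omega) (by omega)

/-- An automorphism fixing `A` and `B` fixes `T`. -/
theorem aut_fix_T (γ : MulAut ↥Spor.J1) (hA : γ joA = joA) (hB : γ joB = joB) : γ joT = joT := by
  have hU : γ joU = joU := by rw [← joB_pow, map_pow, hB]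
  have hc : γ joT * joU = joU * γ joT := by
    have := congrArg γ joT_comm
    rwa [map_mul, map_mul, hU] at this
  obtain ⟨m, hm, hγ⟩ := cent_subQ (by norm_num) j1CentKTU j1CentTU 120 centU_kt centU_1 centU_2
    centU_3 centU_4 _ hc
  have h := distChk_all hm
  rw [distChk, Bool.and_eq_true, Bool.or_eq_true] at h
  obtain ⟨hlt, h⟩ := h
  have hlt' : e32 j1CentTU m < 175560 := Nat.le_of_ble_eq_true hlt
  rcases h with h | h
  · rw [hγ, Nat.eq_of_beq_eq_true h]; rfl
  · exfalso
    rw [natLet_eq] at h
    set P : ↥Spor.J1 := joA ^ (e32 j1DistK m / 10) * joB ^ (e32 j1DistK m % 10) with hP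
    have hPc : IsCode (P : GL (Fin 7) (ZMod 11)) (prefC (e32 j1DistK m)) :=
      isCode_mul (isCode_pow isCode_joA _) (isCode_pow isCode_joB _)
    have hγP : γ P = P := by rw [hP, map_mul, map_pow, map_pow, hA, hB]
    have e1 : γ ((P * joT) ^ e32 j1DistN m) = (P * Qg (e32 j1CentTU m)) ^ e32 j1DistN m := by
      rw [map_pow, map_mul, hγP, hγ]
    have i1 : (P * joT) ^ e32 j1DistN m = 1 ↔
        jpowC (mulC (prefC (e32 j1DistK m)) (cQ 2865)) (e32 j1DistN m) = idC :=
      pow_eq_one_iff_code (isCode_mul hPc isCode_joT) _
    have i2 : (P * Qg (e32 j1CentTU m)) ^ e32 j1DistN m = 1 ↔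
        jpowC (mulC (prefC (e32 j1DistK m)) (cQ (e32 j1CentTU m))) (e32 j1DistN m) = idC :=
      pow_eq_one_iff_code (isCode_mul hPc (isCode_Qg hlt')) _
    have i3 : (P * joT) ^ e32 j1DistN m = 1 ↔ (P * Qg (e32 j1CentTU m)) ^ e32 j1DistN m = 1 := by
      rw [← e1]
      exact (map_eq_one_iff γ (MulEquiv.injective γ)).symm
    have i4 : Nat.beq (jpowC (mulC (prefC (e32 j1DistK m)) (cQ (e32 j1CentTU m)))
        (e32 j1DistN m)) idC =
        Nat.beq (jpowC (mulC (prefC (e32 j1DistK m)) (cQ 2865)) (e32 j1DistN m)) idC := by
      rw [Bool.eq_iff_iff]
      constructor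
      · intro a
        have e := i1.mp (i3.mpr (i2.mpr (Nat.eq_of_beq_eq_true a)))
        rw [e]; exact Nat.beq_refl _
      · intro a
        have e := i2.mp (i3.mp (i1.mpr (Nat.eq_of_beq_eq_true a)))
        rw [e]; exact Nat.beq_refl _
    rw [i4, Bool.xor_self] at h
    exact absurd h (by simp)

/-! The generators of `J₁` as words in `A`, `B`, `T`. -/

/-- The product of the elements with the given numbers. -/
noncomputable def prodQ : List ℕ → ↥Spor.J1
  | [] => 1
  | q :: l => Qg q * prodQ l

/-- The code of the product. -/
noncomputable def prodC : List ℕ → ℕ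
  | [] => idC
  | q :: l => mulC (cQ q) (prodC l)

theorem isCode_prodQ : ∀ l : List ℕ, (∀ q ∈ l, q < 175560) →
    IsCode (prodQ l : GL (Fin 7) (ZMod 11)) (prodC l)
  | [], _ => isCode_one'
  | q :: l, h => isCode_mul (isCode_Qg (h q List.mem_cons_self))
      (isCode_prodQ l (fun q' hq' => h q' (List.mem_cons_of_mem _ hq')))

theorem prodQ_fix (γ : MulAut ↥Spor.J1) : ∀ l : List ℕ, (∀ q ∈ l, γ (Qg q) = Qg q) →
    γ (prodQ l) = prodQ l
  | [], _ => map_one γ
  | q :: l, h => by
    show γ (Qg q * prodQ l) = Qg q * prodQ l
    rw [map_mul, h q List.mem_cons_self,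
      prodQ_fix γ l (fun q' hq' => h q' (List.mem_cons_of_mem _ hq'))]

def j1WordX : List ℕ := [2865, 2865, 138225, 1429, 138225, 2865, 138225, 2865, 2865, 1429, 2865, 138225]
def j1WordY : List ℕ := [138225, 2865, 138225, 1429, 2865, 138225, 138225, 138225, 1429]

theorem wordX_code : prodC j1WordX = gC 0 := by decide +kernel
theorem wordY_code : prodC j1WordY = gC 1 := by decide +kernel

theorem word_mem : ∀ q ∈ j1WordX ++ j1WordY, q < 175560 ∧ (q = 1429 ∨ q = 138225 ∨ q = 2865) := by
  decide

/-- An automorphism fixing `A`, `B` and `T` is the identity. -/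
theorem aut_eq_one_of_fix (γ : MulAut ↥Spor.J1) (hA : γ joA = joA) (hB : γ joB = joB)
    (hT : γ joT = joT) : γ = 1 := by
  have hfix : ∀ q ∈ j1WordX ++ j1WordY, γ (Qg q) = Qg q := by
    intro q hq
    rcases (word_mem q hq).2 with rfl | rfl | rfl
    · exact hA
    · exact hB
    · exact hT
  have hX : γ (jG 0) = jG 0 := by
    have e : prodQ j1WordX = jG 0 :=
      eq_of_codes (isCode_prodQ _ (fun q hq => (word_mem q (List.mem_append_left _ hq)).1))
        (isCode_jG 0) wordX_code
    rw [← e]
    exact prodQ_fix γ _ (fun q hq => hfix q (List.mem_append_left _ hq))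
  have hY : γ (jG 1) = jG 1 := by
    have e : prodQ j1WordY = jG 1 :=
      eq_of_codes (isCode_prodQ _ (fun q hq => (word_mem q (List.mem_append_right _ hq)).1))
        (isCode_jG 1) wordY_code
    rw [← e]
    exact prodQ_fix γ _ (fun q hq => hfix q (List.mem_append_right _ hq))
  -- the fixed points of `γ` form a subgroup containing both generators
  let F : Subgroup ↥Spor.J1 :=
    { carrier := {g | γ g = g}
      mul_mem' := fun {a b} ha hb => by
        show γ (a * b) = a * b
        rw [map_mul, ha, hb]
      one_mem' := map_one γ
      inv_mem' := fun {a} ha => by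
        show γ a⁻¹ = a⁻¹
        rw [map_inv, ha] }
  have hF : F = ⊤ := eq_top_of_jG_mem hX hY
  refine MulEquiv.ext (fun g => ?_)
  have : g ∈ F := hF ▸ Subgroup.mem_top g
  exact this

/-- Every automorphism of `J₁` is inner. -/
theorem j1_aut_inner (α : MulAut ↥Spor.J1) : α ∈ Inn ↥Spor.J1 := by
  have : Fact (Nat.Prime 11) := ⟨by norm_num⟩
  obtain ⟨β, hβ, ε, hε, h1, h2⟩ := normalize_frob (p := 11) (r := 2)
    (by rw [card_J1]; norm_num) orderOf_joA joB_conj centA [1] (by decide) (by decide) α
  have hε1 : ε = 1 := by simpa using hε
  rw [hε1, pow_one] at h1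
  have h3 := aut_eq_one_of_fix (β * α) h1 h2 (aut_fix_T (β * α) h1 h2)
  exact inn_of_mul hβ (h3 ▸ Subgroup.one_mem _)

end Cfsg.Agent.Helper7
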