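/-
Helper7 library: kernel-checked certificates for the outer automorphism group of `J₃` (the first rows of the inverses of the transversal).
-/
import Cfsg.Agent.Helper7.J3Data5

set_option autoImplicit false

namespace Cfsg.Agent.Helper7.J3

open Cfsg

theorem chkU_0 : rgAllF chkU 10 (1024 * 0) = true := by decide +kernel
theorem chkU_1 : rgAllF chkU 10 (1024 * 1) = true := by decide +kernel
theorem chkU_2 : rgAllF chkU 10 (1024 * 2) = true := by decide +kernel
theorem chkU_3 : rgAllF chkU 10 (1024 * 3) = true := by decide +kernel
theorem chkU_4 : rgAllF chkU 10 (1024 * 4) = true := by decide +kernel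
theorem chkU_5 : rgAllF chkU 10 (1024 * 5) = true := by decide +kernel
theorem chkU_6 : rgAllF chkU 10 (1024 * 6) = true := by decide +kernel
theorem chkU_7 : rgAllF chkU 10 (1024 * 7) = true := by decide +kernel
theorem chkU_8 : rgAllF chkU 10 (1024 * 8) = true := by decide +kernel
theorem chkU_9 : rgAllF chkU 10 (1024 * 9) = true := by decide +kernel
theorem chkU_10 : rgAllF chkU 10 (1024 * 10) = true := by decide +kernel
theorem chkU_11 : rgAllF chkU 10 (1024 * 11) = true := by decide +kernel
theorem chkU_12 : rgAllF chkU 10 (1024 * 12) = true := by decide +kernel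
theorem chkU_13 : rgAllF chkU 10 (1024 * 13) = true := by decide +kernel
theorem chkU_14 : rgAllF chkU 10 (1024 * 14) = true := by decide +kernel
theorem chkU_15 : rgAllF chkU 10 (1024 * 15) = true := by decide +kernel
theorem chkU_16 : rgAllF chkU 10 (1024 * 16) = true := by decide +kernel
theorem chkU_17 : rgAllF chkU 10 (1024 * 17) = true := by decide +kernel
theorem chkU_18 : rgAllF chkU 10 (1024 * 18) = true := by decide +kernel
theorem chkU_19 : rgAllF chkU 10 (1024 * 19) = true := by decide +kernel
theorem chkU_20 : rgAllF chkU 10 (1024 * 20) = true := by decide +kernel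
theorem chkU_21 : rgAllF chkU 10 (1024 * 21) = true := by decide +kernel
theorem chkU_22 : rgAllF chkU 10 (1024 * 22) = true := by decide +kernel

end Cfsg.Agent.Helper7.J3
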