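/-
Helper7 library: kernel-checked certificates for the outer automorphism group of `J₃` (cosets of elements commuting with the element of order 19, part).
-/
import Cfsg.Agent.Helper7.J3Data5

set_option autoImplicit false

namespace Cfsg.Agent.Helper7.J3

open Cfsg

theorem scA_0 : rgAllF scA 10 (1024 * 0) = true := by decide +kernel
theorem scA_1 : rgAllF scA 10 (1024 * 1) = true := by decide +kernel
theorem scA_2 : rgAllF scA 10 (1024 * 2) = true := by decide +kernel
theorem scA_3 : rgAllF scA 10 (1024 * 3) = true := by decide +kernel
theorem scA_4 : rgAllF scA 10 (1024 * 4) = true := by decide +kernel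
theorem scA_5 : rgAllF scA 10 (1024 * 5) = true := by decide +kernel
theorem scA_6 : rgAllF scA 10 (1024 * 6) = true := by decide +kernel
theorem scA_7 : rgAllF scA 10 (1024 * 7) = true := by decide +kernel
theorem scA_8 : rgAllF scA 10 (1024 * 8) = true := by decide +kernel
theorem scA_9 : rgAllF scA 10 (1024 * 9) = true := by decide +kernel
theorem scA_10 : rgAllF scA 10 (1024 * 10) = true := by decide +kernel
theorem scA_11 : rgAllF scA 10 (1024 * 11) = true := by decide +kernel

end Cfsg.Agent.Helper7.J3
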