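/-
Helper7 library: kernel-checked certificates for the outer automorphism group of `J₃` (cosets of elements commuting with the element of order 19, part).
-/
import Cfsg.Agent.Helper7.J3Data5

set_option autoImplicit false

namespace Cfsg.Agent.Helper7.J3

open Cfsg

theorem scA_12 : rgAllF scA 10 (1024 * 12) = true := by decide +kernel
theorem scA_13 : rgAllF scA 10 (1024 * 13) = true := by decide +kernel
theorem scA_14 : rgAllF scA 10 (1024 * 14) = true := by decide +kernel
theorem scA_15 : rgAllF scA 10 (1024 * 15) = true := by decide +kernel
theorem scA_16 : rgAllF scA 10 (1024 * 16) = true := by decide +kernel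
theorem scA_17 : rgAllF scA 10 (1024 * 17) = true := by decide +kernel
theorem scA_18 : rgAllF scA 10 (1024 * 18) = true := by decide +kernel
theorem scA_19 : rgAllF scA 10 (1024 * 19) = true := by decide +kernel
theorem scA_20 : rgAllF scA 10 (1024 * 20) = true := by decide +kernel
theorem scA_21 : rgAllF scA 10 (1024 * 21) = true := by decide +kernel
theorem scA_22 : rgAllF scA 10 (1024 * 22) = true := by decide +kernel

end Cfsg.Agent.Helper7.J3
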