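/-
Helper7 library: kernel-checked certificates for the outer automorphism group of `J₃` (elements of the stabiliser commuting with the two elements, and identities).
-/
import Cfsg.Agent.Helper7.J3Data5

set_option autoImplicit false

namespace Cfsg.Agent.Helper7.J3

open Cfsg

theorem scJA_0 : rgAllF scJA 10 (1024 * 0) = true := by decide +kernel
theorem scJA_1 : rgAllF scJA 10 (1024 * 1) = true := by decide +kernel
theorem scJA_2 : rgAllF scJA 10 (1024 * 2) = true := by decide +kernel
theorem scJA_3 : rgAllF scJA 10 (1024 * 3) = true := by decide +kernel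
theorem scJA_4 : rgAllF scJA 10 (1024 * 4) = true := by decide +kernel
theorem scJA_5 : rgAllF scJA 10 (1024 * 5) = true := by decide +kernel
theorem scJA_6 : rgAllF scJA 10 (1024 * 6) = true := by decide +kernel
theorem scJT_0 : rgAllF scJT 10 (1024 * 0) = true := by decide +kernel
theorem scJT_1 : rgAllF scJT 10 (1024 * 1) = true := by decide +kernel
theorem scJT_2 : rgAllF scJT 10 (1024 * 2) = true := by decide +kernel
theorem scJT_3 : rgAllF scJT 10 (1024 * 3) = true := by decide +kernel
theorem scJT_4 : rgAllF scJT 10 (1024 * 4) = true := by decide +kernel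
theorem scJT_5 : rgAllF scJT 10 (1024 * 5) = true := by decide +kernel
theorem scJT_6 : rgAllF scJT 10 (1024 * 6) = true := by decide +kernel
theorem oz_eq : ozC = sC jW ∧ oz2C = sC jW2 := by decide +kernel
theorem oa_coords : mulC (uC oaI) (sC oaJ) = oaC := by decide +kernel
theorem ot_coords : mulC (uC otI) (sC otJ) = otC := by decide +kernel
theorem ox_coords : mulC (uC oxI) (sC oxJ) = oxC := by decide +kernel
theorem od_eq : sC odJ = odC ∧ mulC odC odC = od2C := by decide +kernel
theorem chnA_all : rgAll chnA 5 0 = true := by decide +kernel
theorem chnT_all : rgAll chnT 4 0 = true := by decide +kernel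
theorem oa_pow19 : mulC oa18 oaC = idC := by decide +kernel
theorem ot_pow9 : mulC ot8 otC = idC := by decide +kernel
theorem ot_norm : mulC otC oaC = mulC oa4 otC := by decide +kernel
theorem ox_inv : mulC oxC otC = mulC ot8 oxC := by decide +kernel
theorem od_twist : mulC odC otC = mulC (mulC ozC otC) odC := by decide +kernel
theorem cndA_all : rgAll cndA 5 0 = true := by decide +kernel
theorem cndT_all : rgAll cndT 2 0 = true := by decide +kernel
theorem slT_all : rgAll slT 4 0 = true := by decide +kernel
theorem exC_all : rgAll exC 5 0 = true := by decide +kernel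
theorem ox_pow8 : pow8C (mulC oaC oxC) = oz2C := by decide +kernel
theorem oa_nscal : isScalC oaC = false := by decide +kernel
theorem owX_eq : wordC owX = cX := by decide +kernel
theorem owY_eq : wordC owY = cY := by decide +kernel
theorem tc_x : isTC cX cXf = true ∧ mulC (uC fxI) (sC fxJ) = cXf := by decide +kernel
theorem tc_y : isTC cY cYf = true ∧ mulC (uC fyI) (sC fyJ) = cYf := by decide +kernel
theorem tc_z : isTC ozC oz2C = true := by decide +kernel

end Cfsg.Agent.Helper7.J3
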