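/-
Helper7 library: kernel-checked certificates for the simplicity of `J₃` (the action of the stabiliser of a line on the cosets, part).
-/
import Cfsg.Agent.Helper7.J3Data2

set_option autoImplicit false

namespace Cfsg.Agent.Helper7.J3

open Cfsg

theorem chk8_0_0 : rgAll (chk8 0) 10 (1024 * 0) = true := by decide +kernel
theorem chk8_0_1 : rgAll (chk8 0) 10 (1024 * 1) = true := by decide +kernel
theorem chk8_0_2 : rgAll (chk8 0) 10 (1024 * 2) = true := by decide +kernel
theorem chk8_0_3 : rgAll (chk8 0) 10 (1024 * 3) = true := by decide +kernel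
theorem chk8_0_4 : rgAll (chk8 0) 10 (1024 * 4) = true := by decide +kernel
theorem chk8_0_5 : rgAll (chk8 0) 10 (1024 * 5) = true := by decide +kernel
theorem chk8_0_6 : rgAll (chk8 0) 10 (1024 * 6) = true := by decide +kernel
theorem chk8_0_7 : rgAll (chk8 0) 10 (1024 * 7) = true := by decide +kernel
theorem chk8_0_8 : rgAll (chk8 0) 10 (1024 * 8) = true := by decide +kernel
theorem chk8_0_9 : rgAll (chk8 0) 10 (1024 * 9) = true := by decide +kernel
theorem chk8_0_10 : rgAll (chk8 0) 10 (1024 * 10) = true := by decide +kernel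
theorem chk8_0_11 : rgAll (chk8 0) 10 (1024 * 11) = true := by decide +kernel

end Cfsg.Agent.Helper7.J3
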