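/-
Helper7 library: kernel-checked certificates for the simplicity of `J₃` (the action of the stabiliser of a line on the cosets, part).
-/
import Cfsg.Agent.Helper7.J3Data2

set_option autoImplicit false

namespace Cfsg.Agent.Helper7.J3

open Cfsg

theorem chk8_1_13 : rgAll (chk8 1) 10 (1024 * 13) = true := by decide +kernel
theorem chk8_1_14 : rgAll (chk8 1) 10 (1024 * 14) = true := by decide +kernel
theorem chk8_1_15 : rgAll (chk8 1) 10 (1024 * 15) = true := by decide +kernel
theorem chk8_1_16 : rgAll (chk8 1) 10 (1024 * 16) = true := by decide +kernel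
theorem chk8_1_17 : rgAll (chk8 1) 10 (1024 * 17) = true := by decide +kernel
theorem chk8_1_18 : rgAll (chk8 1) 10 (1024 * 18) = true := by decide +kernel
theorem chk8_1_19 : rgAll (chk8 1) 10 (1024 * 19) = true := by decide +kernel
theorem chk8_1_20 : rgAll (chk8 1) 10 (1024 * 20) = true := by decide +kernel
theorem chk8_1_21 : rgAll (chk8 1) 10 (1024 * 21) = true := by decide +kernel
theorem chk8_1_22 : rgAll (chk8 1) 10 (1024 * 22) = true := by decide +kernel

end Cfsg.Agent.Helper7.J3
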