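/-
Helper7 library: kernel-checked certificates for the simplicity of `J₃`: the orbits of the stabiliser of a line on the cosets and their sizes, the elements of the stabiliser moving a coset, and the generators as products of elements whose nineteenth power is trivial.
-/
import Cfsg.Agent.Helper7.J3Data2

set_option autoImplicit false

namespace Cfsg.Agent.Helper7.J3

open Cfsg

theorem chk9_0 : rgAll chk9 11 (2048 * 0) = true := by decide +kernel
theorem chk9_1 : rgAll chk9 11 (2048 * 1) = true := by decide +kernel
theorem chk9_2 : rgAll chk9 11 (2048 * 2) = true := by decide +kernel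
theorem chk9_3 : rgAll chk9 11 (2048 * 3) = true := by decide +kernel
theorem chk9_4 : rgAll chk9 11 (2048 * 4) = true := by decide +kernel
theorem chk9_5 : rgAll chk9 11 (2048 * 5) = true := by decide +kernel
theorem chk9_6 : rgAll chk9 11 (2048 * 6) = true := by decide +kernel
theorem chk9_7 : rgAll chk9 11 (2048 * 7) = true := by decide +kernel
theorem chk9_8 : rgAll chk9 11 (2048 * 8) = true := by decide +kernel
theorem chk9_9 : rgAll chk9 11 (2048 * 9) = true := by decide +kernel
theorem chk9_10 : rgAll chk9 11 (2048 * 10) = true := by decide +kernel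
theorem chk9_11 : rgAll chk9 11 (2048 * 11) = true := by decide +kernel
theorem chk10_0 : rgAll chk10 2 (4 * 0) = true := by decide +kernel
theorem chk10_1 : rgAll chk10 2 (4 * 1) = true := by decide +kernel
theorem chk10_2 : rgAll chk10 2 (4 * 2) = true := by decide +kernel
theorem chk10_3 : rgAll chk10 2 (4 * 3) = true := by decide +kernel
theorem chk10_4 : rgAll chk10 2 (4 * 4) = true := by decide +kernel
theorem chk10_5 : rgAll chk10 2 (4 * 5) = true := by decide +kernel
theorem chk10_6 : rgAll chk10 2 (4 * 6) = true := by decide +kernel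
theorem chk10_7 : rgAll chk10 2 (4 * 7) = true := by decide +kernel
theorem chk10b_a : rgAll chk10b 5 0 = true := by decide +kernel
theorem sz_first : e16 j3Sz 0 = 1 ∧ e16 j3Sz 1 = 80 ∧ e16 j3Sz 2 = 135 := by decide +kernel
theorem rep_zero : e16 j3ORep 0 = 0 ∧ labC 0 = 0 := by decide +kernel
theorem chk11_0 : rgAll chk11 11 (2048 * 0) = true := by decide +kernel
theorem chk11_1 : rgAll chk11 11 (2048 * 1) = true := by decide +kernel
theorem chk11_2 : rgAll chk11 11 (2048 * 2) = true := by decide +kernel
theorem chk11_3 : rgAll chk11 11 (2048 * 3) = true := by decide +kernel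
theorem w135 : labC 1976 = 2 ∧ labC 1976 = 2 ∧ labC 6849 = 11 ∧
    mulF (uC 1976) (uC 1976) = mulF (uC 6849) (sC 1501) := by decide +kernel
theorem e19_x : pow19C (usC 20801 6073) = idC ∧ pow19C (usC 5442 2616) = idC ∧
    mulF (usC 20801 6073) (usC 5442 2616) = cX := by decide +kernel
theorem e19_y : pow19C (usC 16234 3902) = idC ∧ pow19C (usC 21048 3911) = idC ∧
    mulF (usC 16234 3902) (usC 21048 3911) = cY := by decide +kernel
theorem e19_z : pow19C (usC 4467 5506) = idC ∧ pow19C (usC 9442 2363) = idC ∧
    pow19C (usC 8607 3049) = idC ∧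
    mulF (mulF (usC 4467 5506) (usC 9442 2363)) (usC 8607 3049) =
      packSym (eScal 2) := by decide +kernel
theorem xy_ne : mulF cX cY ≠ mulF cY cX := by decide +kernel
theorem scal_cube : mulF (packSym (eScal 2)) (packSym (eScal 3)) = idC := by decide +kernel
theorem scal_ne : packSym (eScal 2) ≠ idC := by decide +kernel

end Cfsg.Agent.Helper7.J3
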