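/-
Helper7 library: kernel-checked certificates for the order of the triple cover of `J₃` (closure of the two lists under the generators, part).
-/
import Cfsg.Agent.Helper7.J3Data

set_option autoImplicit false

namespace Cfsg.Agent.Helper7.J3

open Cfsg

theorem chk1_0_12 : rgAll (chk1 0) 10 (1024 * 12) = true := by decide +kernel
theorem chk1_0_13 : rgAll (chk1 0) 10 (1024 * 13) = true := by decide +kernel
theorem chk1_0_14 : rgAll (chk1 0) 10 (1024 * 14) = true := by decide +kernel
theorem chk1_0_15 : rgAll (chk1 0) 10 (1024 * 15) = true := by decide +kernel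
theorem chk1_0_16 : rgAll (chk1 0) 10 (1024 * 16) = true := by decide +kernel
theorem chk1_0_17 : rgAll (chk1 0) 10 (1024 * 17) = true := by decide +kernel
theorem chk1_0_18 : rgAll (chk1 0) 10 (1024 * 18) = true := by decide +kernel
theorem chk1_0_19 : rgAll (chk1 0) 10 (1024 * 19) = true := by decide +kernel
theorem chk1_0_20 : rgAll (chk1 0) 10 (1024 * 20) = true := by decide +kernel
theorem chk1_0_21 : rgAll (chk1 0) 10 (1024 * 21) = true := by decide +kernel
theorem chk1_0_22 : rgAll (chk1 0) 10 (1024 * 22) = true := by decide +kernel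
theorem chk1_1_0 : rgAll (chk1 1) 10 (1024 * 0) = true := by decide +kernel

end Cfsg.Agent.Helper7.J3
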