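/-
Helper7 library: kernel-checked certificates for the stabiliser of a line in the triple cover of `J₃` (closure of the list under its two generators).
-/
import Cfsg.Agent.Helper7.J3Data

set_option autoImplicit false

namespace Cfsg.Agent.Helper7.J3

open Cfsg

theorem chk2_0_0 : rgAll (chk2 0) 11 (2048 * 0) = true := by decide +kernel
theorem chk2_0_1 : rgAll (chk2 0) 11 (2048 * 1) = true := by decide +kernel
theorem chk2_0_2 : rgAll (chk2 0) 11 (2048 * 2) = true := by decide +kernel
theorem chk2_0_3 : rgAll (chk2 0) 11 (2048 * 3) = true := by decide +kernel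
theorem chk2_1_0 : rgAll (chk2 1) 11 (2048 * 0) = true := by decide +kernel
theorem chk2_1_1 : rgAll (chk2 1) 11 (2048 * 1) = true := by decide +kernel
theorem chk2_1_2 : rgAll (chk2 1) 11 (2048 * 2) = true := by decide +kernel
theorem chk2_1_3 : rgAll (chk2 1) 11 (2048 * 3) = true := by decide +kernel

end Cfsg.Agent.Helper7.J3
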