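/-
Helper7 library: kernel-checked certificates for the triple cover of `J₃`: the shape of the two lists, their trees, and the generating matrices.
-/
import Cfsg.Agent.Helper7.J3Data

set_option autoImplicit false

namespace Cfsg.Agent.Helper7.J3

open Cfsg

theorem chk3_0 : rgAll chk3 11 (2048 * 0) = true := by decide +kernel
theorem chk3_1 : rgAll chk3 11 (2048 * 1) = true := by decide +kernel
theorem chk3_2 : rgAll chk3 11 (2048 * 2) = true := by decide +kernel
theorem chk3_3 : rgAll chk3 11 (2048 * 3) = true := by decide +kernel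
theorem chk4_0 : rgAll chk4 11 (2048 * 0) = true := by decide +kernel
theorem chk4_1 : rgAll chk4 11 (2048 * 1) = true := by decide +kernel
theorem chk4_2 : rgAll chk4 11 (2048 * 2) = true := by decide +kernel
theorem chk4_3 : rgAll chk4 11 (2048 * 3) = true := by decide +kernel
theorem chk4_4 : rgAll chk4 11 (2048 * 4) = true := by decide +kernel
theorem chk4_5 : rgAll chk4 11 (2048 * 5) = true := by decide +kernel
theorem chk4_6 : rgAll chk4 11 (2048 * 6) = true := by decide +kernel
theorem chk4_7 : rgAll chk4 11 (2048 * 7) = true := by decide +kernel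
theorem chk4_8 : rgAll chk4 11 (2048 * 8) = true := by decide +kernel
theorem chk4_9 : rgAll chk4 11 (2048 * 9) = true := by decide +kernel
theorem chk4_10 : rgAll chk4 11 (2048 * 10) = true := by decide +kernel
theorem chk4_11 : rgAll chk4 11 (2048 * 11) = true := by decide +kernel
theorem chk5_0 : rgAll chk5 11 (2048 * 0) = true := by decide +kernel
theorem chk5_1 : rgAll chk5 11 (2048 * 1) = true := by decide +kernel
theorem chk5_2 : rgAll chk5 11 (2048 * 2) = true := by decide +kernel
theorem chk5_3 : rgAll chk5 11 (2048 * 3) = true := by decide +kernel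
theorem chk5_4 : rgAll chk5 11 (2048 * 4) = true := by decide +kernel
theorem chk5_5 : rgAll chk5 11 (2048 * 5) = true := by decide +kernel
theorem chk5_6 : rgAll chk5 11 (2048 * 6) = true := by decide +kernel
theorem chk5_7 : rgAll chk5 11 (2048 * 7) = true := by decide +kernel
theorem chk5_8 : rgAll chk5 11 (2048 * 8) = true := by decide +kernel
theorem chk5_9 : rgAll chk5 11 (2048 * 9) = true := by decide +kernel
theorem chk5_10 : rgAll chk5 11 (2048 * 10) = true := by decide +kernel
theorem chk5_11 : rgAll chk5 11 (2048 * 11) = true := by decide +kernel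
theorem chk6_0 : rgAll chk6 11 (2048 * 0) = true := by decide +kernel
theorem chk6_1 : rgAll chk6 11 (2048 * 1) = true := by decide +kernel
theorem chk6_2 : rgAll chk6 11 (2048 * 2) = true := by decide +kernel
theorem chk6_3 : rgAll chk6 11 (2048 * 3) = true := by decide +kernel
theorem chk7_a : rgAll chk7 6 0 = true := by decide +kernel
theorem uC_root : uC 0 = idC := by decide +kernel
theorem sC_jId : sC jId = idC := by decide +kernel
theorem sC_jW : sC jW = packSym (eScal 2) := by decide +kernel
theorem sC_jW2 : sC jW2 = packSym (eScal 3) := by decide +kernel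
theorem cX_eq : cX = mulC (packSym (eC (2, 0))) (packSym (eB (2, 0))) := by decide +kernel
theorem cY_eq : cY = mulC (packSym (eD (1, 2))) (packSym (eE (1, 1))) := by decide +kernel
theorem inv_Cx : mulC (packSym (eC (2, 0))) iCx = idC ∧ mulC iCx (packSym (eC (2, 0))) = idC := by
  decide +kernel
theorem inv_Bx : mulC (packSym (eB (2, 0))) iBx = idC ∧ mulC iBx (packSym (eB (2, 0))) = idC := by
  decide +kernel
theorem inv_Dy : mulC (packSym (eD (1, 2))) iDy = idC ∧ mulC iDy (packSym (eD (1, 2))) = idC := by
  decide +kernel
theorem inv_Ey : mulC (packSym (eE (1, 1))) iEy = idC ∧ mulC iEy (packSym (eE (1, 1))) = idC := by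
  decide +kernel
theorem inv_Az : mulC (packSym (eA (0, 1))) iAz = idC ∧ mulC iAz (packSym (eA (0, 1))) = idC := by
  decide +kernel
theorem inv_Dz : mulC (packSym (eD (0, 1))) iDz = idC ∧ mulC iDz (packSym (eD (0, 1))) = idC := by
  decide +kernel
theorem scal_comm : mulC (packSym (eA (0, 1))) (packSym (eD (0, 1))) =
    mulC (packSym (eScal 2)) (mulC (packSym (eD (0, 1))) (packSym (eA (0, 1)))) := by decide +kernel
theorem scal_sq : mulC (packSym (eScal 2)) (packSym (eScal 2)) = packSym (eScal 3) := by
  decide +kernel
theorem tau_wit1 : Nat.blt 12823 23256 = true ∧ tauC 1 12823 = jH1 := by decide +kernel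
theorem tau_wit2 : Nat.blt 14428 23256 = true ∧ tauC 1 14428 = jH2 := by decide +kernel

end Cfsg.Agent.Helper7.J3
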