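/-
Helper7 library: bit codes of 9 × 9 matrices over a field with four elements `{0, 1, ω, ω + 1}`.
A matrix is stored as one natural number of 162 bits: row `i` occupies bits `18 i, …, 18 i + 17`,
and the entry `a₀ + a₁ ω` in column `k` of that row has `a₀` at bit `k` and `a₁` at bit `9 + k`
of the row. `J3.mulC` is the product of codes and `J3.IsCodeM.mul` its correctness.
-/
import Cfsg.Prelude.Def_Spor_J3
import Cfsg.Agent.Helper7.J1Code

set_option autoImplicit false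

namespace Cfsg.Agent.Helper7.J3

open Cfsg Finset

/-! ### Bits and rows -/

/-- Bit `n` of `c`. -/
def bitN (c n : ℕ) : ℕ := Nat.mod (Nat.shiftRight c n) 2

theorem bitN_eq (c n : ℕ) : bitN c n = digB 2 c n := by
  show (c >>> n) % 2 = c / 2 ^ n % 2
  rw [Nat.shiftRight_eq_div_pow]

theorem bitN_lt (c n : ℕ) : bitN c n < 2 := Nat.mod_lt _ (by norm_num)

theorem bitN_toNat (c n : ℕ) : bitN c n = (c.testBit n).toNat := by
  rw [bitN_eq, digB, Nat.toNat_testBit]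

/-- Row `k` of a matrix code: 18 bits. -/
def rowN (d k : ℕ) : ℕ := Nat.mod (Nat.shiftRight d (Nat.mul 18 k)) 262144

theorem rowN_eq (d k : ℕ) : rowN d k = digB (2 ^ 18) d k := by
  show (d >>> (18 * k)) % 262144 = d / (2 ^ 18) ^ k % 2 ^ 18
  rw [Nat.shiftRight_eq_div_pow, pow_mul]
  norm_num

theorem rowN_lt (d k : ℕ) : rowN d k < 2 ^ 18 := by
  rw [rowN_eq]; exact Nat.mod_lt _ (by norm_num)

theorem bitN_rowN (x i : ℕ) {j : ℕ} (hj : j < 18) : bitN (rowN x i) j = bitN x (18 * i + j) := by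
  rw [bitN_eq, bitN_eq, rowN_eq, digB, digB, digB]
  have e : (2 : ℕ) ^ 18 = 2 ^ j * 2 ^ (18 - j) := by rw [← pow_add]; congr 1; omega
  have hd : (2 : ℕ) ∣ 2 ^ (18 - j) := dvd_pow_self _ (by omega)
  rw [e, Nat.mod_mul_right_div_self, Nat.mod_mod_of_dvd _ hd, ← e, Nat.div_div_eq_div_mul,
    ← pow_mul, ← pow_add]

theorem bitN_xor (x y j : ℕ) : bitN (Nat.xor x y) j = (bitN x j + bitN y j) % 2 := by
  show bitN (x ^^^ y) j = _
  rw [bitN_toNat, bitN_toNat, bitN_toNat, Nat.testBit_xor]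
  cases x.testBit j <;> cases y.testBit j <;> rfl

theorem bitN_mul (a r j : ℕ) (ha : a < 2) : bitN (Nat.mul a r) j = a * bitN r j := by
  show bitN (a * r) j = _
  interval_cases a
  · simp [bitN_eq, digB]
  · simp

/-! ### The product of a row and a matrix -/

/-- The sum of the rows of `d` selected by bits `off, …, off + 8` of `rc`. -/
def xr (rc off d : ℕ) : ℕ :=
  Nat.xor (Nat.mul (bitN rc off) (rowN d 0))
  (Nat.xor (Nat.mul (bitN rc (Nat.add off 1)) (rowN d 1))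
  (Nat.xor (Nat.mul (bitN rc (Nat.add off 2)) (rowN d 2))
  (Nat.xor (Nat.mul (bitN rc (Nat.add off 3)) (rowN d 3))
  (Nat.xor (Nat.mul (bitN rc (Nat.add off 4)) (rowN d 4))
  (Nat.xor (Nat.mul (bitN rc (Nat.add off 5)) (rowN d 5))
  (Nat.xor (Nat.mul (bitN rc (Nat.add off 6)) (rowN d 6))
  (Nat.xor (Nat.mul (bitN rc (Nat.add off 7)) (rowN d 7))
  (Nat.mul (bitN rc (Nat.add off 8)) (rowN d 8)))))))))

theorem xr_lt (rc off d : ℕ) : xr rc off d < 2 ^ 18 := by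
  have h : ∀ c n k, Nat.mul (bitN c n) (rowN d k) < 2 ^ 18 := fun c n k => by
    show bitN c n * rowN d k < _
    have h1 := rowN_lt d k
    have h2 := bitN_lt c n
    have h3 : bitN c n * rowN d k ≤ 1 * rowN d k := Nat.mul_le_mul_right _ (by omega)
    omega
  unfold xr
  exact Nat.xor_lt_two_pow (h _ _ _) (Nat.xor_lt_two_pow (h _ _ _) (Nat.xor_lt_two_pow (h _ _ _)
    (Nat.xor_lt_two_pow (h _ _ _) (Nat.xor_lt_two_pow (h _ _ _) (Nat.xor_lt_two_pow (h _ _ _)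
    (Nat.xor_lt_two_pow (h _ _ _) (Nat.xor_lt_two_pow (h _ _ _) (h _ _ _))))))))

/-- The two halves of the two sums recombined: `ω (t₀ + t₁ ω) = t₁ + (t₀ + t₁) ω`. -/
def comb (T0 T1 : ℕ) : ℕ :=
  Nat.add (Nat.xor (Nat.mod T0 512) (Nat.div T1 512))
    (Nat.mul 512 (Nat.xor (Nat.xor (Nat.div T0 512) (Nat.mod T1 512)) (Nat.div T1 512)))

theorem bitN_mod512 (T : ℕ) {j : ℕ} (hj : j < 9) : bitN (Nat.mod T 512) j = bitN T j := by
  show bitN (T % 512) j = _
  rw [bitN_toNat, bitN_toNat, show (512 : ℕ) = 2 ^ 9 by norm_num, Nat.testBit_mod_two_pow]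
  simp [hj]

theorem bitN_div512 (T j : ℕ) : bitN (Nat.div T 512) j = bitN T (9 + j) := by
  show bitN (T / 512) j = _
  rw [bitN_toNat, bitN_toNat, show (512 : ℕ) = 2 ^ 9 by norm_num, Nat.testBit_div_two_pow,
    add_comm]

theorem bitN_low (a b : ℕ) (ha : a < 512) {j : ℕ} (hj : j < 9) :
    bitN (Nat.add a (Nat.mul 512 b)) j = bitN a j := by
  show bitN (a + 512 * b) j = _
  rw [bitN_toNat, bitN_toNat, show a + 512 * b = 2 ^ 9 * b + a by ring,
    Nat.testBit_two_pow_mul_add _ (by norm_num; exact ha)]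
  simp [hj]

theorem bitN_high (a b : ℕ) (ha : a < 512) (j : ℕ) :
    bitN (Nat.add a (Nat.mul 512 b)) (9 + j) = bitN b j := by
  show bitN (a + 512 * b) (9 + j) = _
  rw [bitN_toNat, bitN_toNat, show a + 512 * b = 2 ^ 9 * b + a by ring,
    Nat.testBit_two_pow_mul_add _ (by norm_num; exact ha)]
  simp

theorem div512_lt {T : ℕ} (h : T < 2 ^ 18) : Nat.div T 512 < 2 ^ 9 := by
  show T / 512 < 2 ^ 9
  rw [Nat.div_lt_iff_lt_mul (by norm_num)]
  norm_num at h ⊢; omega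

theorem mod512_lt (T : ℕ) : Nat.mod T 512 < 2 ^ 9 := by
  show T % 512 < 2 ^ 9
  have := Nat.mod_lt T (show 0 < 512 by norm_num)
  norm_num; omega

theorem comb_lt {T0 T1 : ℕ} (_h0 : T0 < 2 ^ 18) (h1 : T1 < 2 ^ 18) : comb T0 T1 < 2 ^ 18 := by
  have a : Nat.xor (Nat.mod T0 512) (Nat.div T1 512) < 2 ^ 9 :=
    Nat.xor_lt_two_pow (mod512_lt _) (div512_lt h1)
  have b : Nat.xor (Nat.xor (Nat.div T0 512) (Nat.mod T1 512)) (Nat.div T1 512) < 2 ^ 9 :=
    Nat.xor_lt_two_pow (Nat.xor_lt_two_pow (div512_lt _h0) (mod512_lt _)) (div512_lt h1)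
  show Nat.xor (Nat.mod T0 512) (Nat.div T1 512) +
    512 * Nat.xor (Nat.xor (Nat.div T0 512) (Nat.mod T1 512)) (Nat.div T1 512) < 2 ^ 18
  norm_num at a b ⊢; omega

/-- The code of the product of the row `rc` and the matrix `d`. -/
def crow (rc d : ℕ) : ℕ := comb (xr rc 0 d) (xr rc 9 d)

theorem crow_lt (rc d : ℕ) : crow rc d < 2 ^ 18 := comb_lt (xr_lt _ _ _) (xr_lt _ _ _)

/-- The code of the product of two matrices. -/
def mulC (c d : ℕ) : ℕ :=
  Nat.add (crow (rowN c 0) d) (Nat.mul 262144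
  (Nat.add (crow (rowN c 1) d) (Nat.mul 262144
  (Nat.add (crow (rowN c 2) d) (Nat.mul 262144
  (Nat.add (crow (rowN c 3) d) (Nat.mul 262144
  (Nat.add (crow (rowN c 4) d) (Nat.mul 262144
  (Nat.add (crow (rowN c 5) d) (Nat.mul 262144
  (Nat.add (crow (rowN c 6) d) (Nat.mul 262144
  (Nat.add (crow (rowN c 7) d) (Nat.mul 262144
  (crow (rowN c 8) d))))))))))))))))

theorem mulC_eq (c d : ℕ) : mulC c d = pkB (2 ^ 18) (fun i => crow (rowN c i) d) 9 := by
  show crow (rowN c 0) d + 262144 * (crow (rowN c 1) d + 262144 * (crow (rowN c 2) d +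
    262144 * (crow (rowN c 3) d + 262144 * (crow (rowN c 4) d + 262144 * (crow (rowN c 5) d +
    262144 * (crow (rowN c 6) d + 262144 * (crow (rowN c 7) d + 262144 * crow (rowN c 8) d)))))))
    = _
  simp only [pkB, sum_range_succ, sum_range_zero]
  ring

theorem rowN_mulC (c d : ℕ) {i : ℕ} (hi : i < 9) : rowN (mulC c d) i = crow (rowN c i) d := by
  rw [rowN_eq, mulC_eq]
  exact digB_pkB (by norm_num) _ 9 (fun j _ => crow_lt _ _) hi

theorem mulC_lt (c d : ℕ) : mulC c d < 2 ^ 162 := by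
  rw [mulC_eq, show (2 : ℕ) ^ 162 = (2 ^ 18) ^ 9 by rw [← pow_mul]]
  exact pkB_lt (by norm_num) _ 9 (fun j _ => crow_lt _ _)

/-! ### Matrices over a field with four elements -/

/-- The index of an element of `𝔽₉`. -/
def ix (z : Spor.F9) : ℕ := 3 * z.1.val + z.2.val

theorem ix_lt : ∀ z : Spor.F9, ix z < 9 := by decide

/-- The element of `𝔽₉` with index `n`. -/
def un (n : ℕ) : Spor.F9 := (((n / 3 : ℕ) : ZMod 3), ((n : ℕ) : ZMod 3))

theorem un_ix : ∀ z : Spor.F9, un (ix z) = z := by decide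

theorem ix_un {n : ℕ} (hn : n < 9) : ix (un n) = n := by
  interval_cases n <;> rfl

theorem ix_zero : ix (0 : Spor.F9) = 0 := rfl

theorem ix_inj {w z : Spor.F9} (h : ix w = ix z) : w = z := by
  rw [← un_ix w, ← un_ix z, h]

theorem sum_ix {M : Type*} [AddCommMonoid M] (f : ℕ → M) :
    ∑ u : Spor.F9, f (ix u) = ∑ k ∈ range 9, f k := by
  have h : (univ : Finset Spor.F9).image ix = range 9 := by decide
  rw [← h, sum_image (fun x _ y _ e => ix_inj e)]

section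
variable {F : Type*} [Field F]

theorem cast_mod_two (h2 : (2 : F) = 0) (n : ℕ) : ((n % 2 : ℕ) : F) = (n : F) := by
  conv_rhs => rw [← Nat.mod_add_div n 2]
  rw [Nat.cast_add, Nat.cast_mul, Nat.cast_ofNat, h2, zero_mul, add_zero]

theorem cast_bitN_xor (h2 : (2 : F) = 0) (x y j : ℕ) :
    ((bitN (Nat.xor x y) j : ℕ) : F) = (bitN x j : F) + (bitN y j : F) := by
  rw [bitN_xor, cast_mod_two h2, Nat.cast_add]

theorem cast_bitN_mul (c n r j : ℕ) :
    ((bitN (Nat.mul (bitN c n) r) j : ℕ) : F) = (bitN c n : F) * (bitN r j : F) := by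
  rw [bitN_mul _ r j (bitN_lt _ _), Nat.cast_mul]

theorem cast_bitN_xr (h2 : (2 : F) = 0) (rc off d j : ℕ) :
    ((bitN (xr rc off d) j : ℕ) : F) =
      ∑ k ∈ range 9, ((bitN rc (off + k) : ℕ) : F) * ((bitN (rowN d k) j : ℕ) : F) := by
  simp only [xr, cast_bitN_xor h2, cast_bitN_mul, sum_range_succ, sum_range_zero, zero_add,
    Nat.add_eq, add_zero, add_assoc]

theorem cast_bitN_comb_low (h2 : (2 : F) = 0) {T0 T1 : ℕ} (h1 : T1 < 2 ^ 18) {j : ℕ}
    (hj : j < 9) :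
    ((bitN (comb T0 T1) j : ℕ) : F) = (bitN T0 j : F) + (bitN T1 (9 + j) : F) := by
  have a : Nat.xor (Nat.mod T0 512) (Nat.div T1 512) < 512 := by
    have := Nat.xor_lt_two_pow (mod512_lt T0) (div512_lt h1)
    norm_num at this ⊢; exact this
  rw [comb, bitN_low _ _ a hj, cast_bitN_xor h2, bitN_mod512 _ hj, bitN_div512]

theorem cast_bitN_comb_high (h2 : (2 : F) = 0) {T0 T1 : ℕ} (h1 : T1 < 2 ^ 18) {j : ℕ}
    (hj : j < 9) :
    ((bitN (comb T0 T1) (9 + j) : ℕ) : F) =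
      (bitN T0 (9 + j) : F) + (bitN T1 j : F) + (bitN T1 (9 + j) : F) := by
  have a : Nat.xor (Nat.mod T0 512) (Nat.div T1 512) < 512 := by
    have := Nat.xor_lt_two_pow (mod512_lt T0) (div512_lt h1)
    norm_num at this ⊢; exact this
  rw [comb, bitN_high _ _ a, cast_bitN_xor h2, cast_bitN_xor h2, bitN_mod512 _ hj, bitN_div512,
    bitN_div512]

/-- The element `a₀ + a₁ ω`. -/
def el (ω : F) (a0 a1 : ℕ) : F := (a0 : F) + (a1 : F) * ω

/-- `c` is the code of the row vector `r`. -/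
def IsRow (ω : F) (r : Spor.F9 → F) (c : ℕ) : Prop :=
  ∀ z, r z = el ω (bitN c (ix z)) (bitN c (9 + ix z))

/-- `c` is the code of the matrix `M`. -/
def IsCodeM (ω : F) (M : Matrix Spor.F9 Spor.F9 F) (c : ℕ) : Prop :=
  ∀ w z, M w z = el ω (bitN c (18 * ix w + ix z)) (bitN c (18 * ix w + 9 + ix z))

variable {ω : F}

theorem IsCodeM.row {M : Matrix Spor.F9 Spor.F9 F} {c : ℕ} (h : IsCodeM ω M c) (w : Spor.F9) :
    IsRow ω (M w) (rowN c (ix w)) := fun z => by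
  rw [h w z, bitN_rowN _ _ (by have := ix_lt z; omega),
    bitN_rowN _ _ (by have := ix_lt z; omega), add_assoc]

theorem isCodeM_of_rows {M : Matrix Spor.F9 Spor.F9 F} {c : ℕ}
    (h : ∀ w, IsRow ω (M w) (rowN c (ix w))) : IsCodeM ω M c := fun w z => by
  rw [h w z, bitN_rowN _ _ (by have := ix_lt z; omega),
    bitN_rowN _ _ (by have := ix_lt z; omega), add_assoc]

theorem IsRow.eq {r r' : Spor.F9 → F} {c : ℕ} (h : IsRow ω r c) (h' : IsRow ω r' c) : r = r' :=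
  funext fun z => by rw [h z, h' z]

theorem IsCodeM.eq {M N : Matrix Spor.F9 Spor.F9 F} {c : ℕ} (h : IsCodeM ω M c)
    (h' : IsCodeM ω N c) : M = N := by
  ext w z; rw [h w z, h' w z]

/-- The product of a row vector and a matrix. -/
theorem IsRow.vecMul (h2 : (2 : F) = 0) (hω : ω ^ 2 + ω + 1 = 0) {r : Spor.F9 → F} {rc : ℕ}
    {N : Matrix Spor.F9 Spor.F9 F} {d : ℕ} (hr : IsRow ω r rc) (hN : IsCodeM ω N d) :
    IsRow ω (Matrix.vecMul r N) (crow rc d) := by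
  intro z
  have hj := ix_lt z
  have e1 : Matrix.vecMul r N z = ∑ k ∈ range 9,
      el ω (bitN rc k) (bitN rc (9 + k)) *
        el ω (bitN (rowN d k) (ix z)) (bitN (rowN d k) (9 + ix z)) := by
    rw [← sum_ix (fun k => el ω (bitN rc k) (bitN rc (9 + k)) *
        el ω (bitN (rowN d k) (ix z)) (bitN (rowN d k) (9 + ix z)))]
    simp only [Matrix.vecMul, dotProduct]
    refine sum_congr rfl (fun u _ => ?_)
    rw [hr u, hN u z, bitN_rowN _ _ (by omega), bitN_rowN _ _ (by omega), add_assoc]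
  rw [e1]
  have key : ∀ k, el ω (bitN rc k) (bitN rc (9 + k)) *
        el ω (bitN (rowN d k) (ix z)) (bitN (rowN d k) (9 + ix z)) =
      ((bitN rc (0 + k) : F) * (bitN (rowN d k) (ix z) : F) +
        (bitN rc (9 + k) : F) * (bitN (rowN d k) (9 + ix z) : F)) +
      ((bitN rc (0 + k) : F) * (bitN (rowN d k) (9 + ix z) : F) +
        (bitN rc (9 + k) : F) * (bitN (rowN d k) (ix z) : F) +
        (bitN rc (9 + k) : F) * (bitN (rowN d k) (9 + ix z) : F)) * ω := fun k => by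
    simp only [el, zero_add]
    linear_combination ((bitN rc (9 + k) : F) * (bitN (rowN d k) (9 + ix z) : F)) * hω -
      ((bitN rc (9 + k) : F) * (bitN (rowN d k) (9 + ix z) : F) * (ω + 1)) * h2
  rw [sum_congr rfl (fun k _ => key k), el, crow,
    cast_bitN_comb_low h2 (xr_lt _ _ _) hj, cast_bitN_comb_high h2 (xr_lt _ _ _) hj,
    cast_bitN_xr h2, cast_bitN_xr h2, cast_bitN_xr h2, cast_bitN_xr h2]
  simp only [sum_add_distrib, ← sum_mul]

/-- The product of two matrices. -/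
theorem IsCodeM.mul (h2 : (2 : F) = 0) (hω : ω ^ 2 + ω + 1 = 0)
    {M N : Matrix Spor.F9 Spor.F9 F} {c d : ℕ} (hM : IsCodeM ω M c) (hN : IsCodeM ω N d) :
    IsCodeM ω (M * N) (mulC c d) := by
  refine isCodeM_of_rows (fun w => ?_)
  rw [rowN_mulC _ _ (ix_lt w)]
  have := IsRow.vecMul h2 hω (hM.row w) hN
  have e : (M * N) w = Matrix.vecMul (M w) N := by
    ext z; simp [Matrix.mul_apply, Matrix.vecMul, dotProduct]
  rw [e]; exact this

end

/-! ### A product that the kernel evaluates faster -/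

/-- `f x`, with `x` evaluated first. -/
def natLetN (x : ℕ) (f : ℕ → ℕ) : ℕ := Nat.rec (f 0) (fun k _ => f (Nat.succ k)) x

theorem natLetN_eq (x : ℕ) (f : ℕ → ℕ) : natLetN x f = f x := by
  cases x <;> rfl

/-- `xr` with the rows of the matrix given. -/
def xr9 (rc off r0 r1 r2 r3 r4 r5 r6 r7 r8 : ℕ) : ℕ :=
  Nat.xor (Nat.mul (bitN rc off) r0)
  (Nat.xor (Nat.mul (bitN rc (Nat.add off 1)) r1)
  (Nat.xor (Nat.mul (bitN rc (Nat.add off 2)) r2)
  (Nat.xor (Nat.mul (bitN rc (Nat.add off 3)) r3)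
  (Nat.xor (Nat.mul (bitN rc (Nat.add off 4)) r4)
  (Nat.xor (Nat.mul (bitN rc (Nat.add off 5)) r5)
  (Nat.xor (Nat.mul (bitN rc (Nat.add off 6)) r6)
  (Nat.xor (Nat.mul (bitN rc (Nat.add off 7)) r7)
  (Nat.mul (bitN rc (Nat.add off 8)) r8))))))))

/-- `crow` with the rows of the matrix given. -/
def crow9 (rc r0 r1 r2 r3 r4 r5 r6 r7 r8 : ℕ) : ℕ :=
  natLetN rc fun rc =>
  natLetN (xr9 rc 0 r0 r1 r2 r3 r4 r5 r6 r7 r8) fun T0 =>
  natLetN (xr9 rc 9 r0 r1 r2 r3 r4 r5 r6 r7 r8) fun T1 => comb T0 T1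

/-- `crow`, evaluated faster. -/
def crowF (rc d : ℕ) : ℕ :=
  natLetN d fun d =>
  natLetN (rowN d 0) fun r0 => natLetN (rowN d 1) fun r1 => natLetN (rowN d 2) fun r2 =>
  natLetN (rowN d 3) fun r3 => natLetN (rowN d 4) fun r4 => natLetN (rowN d 5) fun r5 =>
  natLetN (rowN d 6) fun r6 => natLetN (rowN d 7) fun r7 => natLetN (rowN d 8) fun r8 =>
  crow9 rc r0 r1 r2 r3 r4 r5 r6 r7 r8

theorem crowF_eq (rc d : ℕ) : crowF rc d = crow rc d := by
  simp only [crowF, crow9, natLetN_eq]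
  rfl

/-- `mulC`, evaluated faster. -/
def mulF (c d : ℕ) : ℕ :=
  natLetN c fun c => natLetN d fun d =>
  natLetN (rowN d 0) fun r0 => natLetN (rowN d 1) fun r1 => natLetN (rowN d 2) fun r2 =>
  natLetN (rowN d 3) fun r3 => natLetN (rowN d 4) fun r4 => natLetN (rowN d 5) fun r5 =>
  natLetN (rowN d 6) fun r6 => natLetN (rowN d 7) fun r7 => natLetN (rowN d 8) fun r8 =>
  Nat.add (crow9 (rowN c 0) r0 r1 r2 r3 r4 r5 r6 r7 r8) (Nat.mul 262144
  (Nat.add (crow9 (rowN c 1) r0 r1 r2 r3 r4 r5 r6 r7 r8) (Nat.mul 262144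
  (Nat.add (crow9 (rowN c 2) r0 r1 r2 r3 r4 r5 r6 r7 r8) (Nat.mul 262144
  (Nat.add (crow9 (rowN c 3) r0 r1 r2 r3 r4 r5 r6 r7 r8) (Nat.mul 262144
  (Nat.add (crow9 (rowN c 4) r0 r1 r2 r3 r4 r5 r6 r7 r8) (Nat.mul 262144
  (Nat.add (crow9 (rowN c 5) r0 r1 r2 r3 r4 r5 r6 r7 r8) (Nat.mul 262144
  (Nat.add (crow9 (rowN c 6) r0 r1 r2 r3 r4 r5 r6 r7 r8) (Nat.mul 262144
  (Nat.add (crow9 (rowN c 7) r0 r1 r2 r3 r4 r5 r6 r7 r8) (Nat.mul 262144
  (crow9 (rowN c 8) r0 r1 r2 r3 r4 r5 r6 r7 r8))))))))))))))))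

theorem mulF_eq (c d : ℕ) : mulF c d = mulC c d := by
  simp only [mulF, crow9, natLetN_eq]
  rfl

/-- The code of the identity matrix. -/
def idC : ℕ := 0x100002000040000800010000200004000080001

end Cfsg.Agent.Helper7.J3
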