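/-
Helper7 library: the codes of the generating matrices of the triple cover of the Janko group
`J₃` (the five families of the definitions), over any field with four elements, and the basic
facts that relate codes to matrices: equal matrices have equal codes, the first column, the
normal form of a vector up to scalars.
-/
import Cfsg.Agent.Helper7.J3Code

set_option autoImplicit false

namespace Cfsg.Agent.Helper7.J3

open Cfsg Finset

/-! ### Packing a matrix of symbols -/

/-- The number with digits `s 0, …, s (n - 1)` in base `B`, by recursion. -/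
def pkR (B : ℕ) (s : ℕ → ℕ) : ℕ → ℕ
  | 0 => 0
  | n + 1 => pkR B s n + s n * B ^ n

theorem pkR_eq (B : ℕ) (s : ℕ → ℕ) (n : ℕ) : pkR B s n = pkB B s n := by
  induction n with
  | zero => simp [pkR, pkB]
  | succ n ih => rw [pkR, ih, pkB_succ]

/-- Bit `m` of row `i` of the matrix of symbols `e` (symbols `0, 1, 2, 3` for `0, 1, ω, ω²`). -/
def symBit (e : Spor.F9 → Spor.F9 → ℕ) (i m : ℕ) : ℕ :=
  if m < 9 then e (un i) (un m) % 2 else e (un i) (un (m - 9)) / 2 % 2

/-- Row `i` of the code of the matrix of symbols `e`. -/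
def rowSym (e : Spor.F9 → Spor.F9 → ℕ) (i : ℕ) : ℕ := pkR 2 (symBit e i) 18

/-- The code of the matrix of symbols `e`. -/
def packSym (e : Spor.F9 → Spor.F9 → ℕ) : ℕ := pkR (2 ^ 18) (rowSym e) 9

theorem symBit_lt (e : Spor.F9 → Spor.F9 → ℕ) (i m : ℕ) : symBit e i m < 2 := by
  unfold symBit; split_ifs <;> exact Nat.mod_lt _ (by norm_num)

theorem rowSym_lt (e : Spor.F9 → Spor.F9 → ℕ) (i : ℕ) : rowSym e i < 2 ^ 18 := by
  rw [rowSym, pkR_eq]; exact pkB_lt (by norm_num) _ _ (fun j _ => symBit_lt e i j)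

theorem rowN_packSym (e : Spor.F9 → Spor.F9 → ℕ) {i : ℕ} (hi : i < 9) :
    rowN (packSym e) i = rowSym e i := by
  rw [rowN_eq, packSym, pkR_eq]; exact digB_pkB (by norm_num) _ 9 (fun j _ => rowSym_lt e j) hi

theorem bitN_rowSym (e : Spor.F9 → Spor.F9 → ℕ) (i : ℕ) {m : ℕ} (hm : m < 18) :
    bitN (rowSym e i) m = symBit e i m := by
  rw [bitN_eq, rowSym, pkR_eq]; exact digB_pkB (by norm_num) _ 18 (fun j _ => symBit_lt e i j) hm

theorem packSym_lt (e : Spor.F9 → Spor.F9 → ℕ) : packSym e < 2 ^ 162 := by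
  rw [packSym, pkR_eq, show (2 : ℕ) ^ 162 = (2 ^ 18) ^ 9 by rw [← pow_mul]]
  exact pkB_lt (by norm_num) _ 9 (fun j _ => rowSym_lt e j)

section
variable {F : Type*} [Field F] {ω : F}

theorem omega_ne_zero (hω : ω ^ 2 + ω + 1 = 0) : ω ≠ 0 := by
  rintro rfl; simp at hω

theorem omega_ne_one (h2 : (2 : F) = 0) (hω : ω ^ 2 + ω + 1 = 0) : ω ≠ 1 := by
  rintro rfl
  have : (1 : F) = 0 := by linear_combination hω - h2
  exact one_ne_zero this

theorem omega_sq (h2 : (2 : F) = 0) (hω : ω ^ 2 + ω + 1 = 0) : ω ^ 2 = 1 + ω := by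
  linear_combination hω - (1 + ω) * h2

theorem omega_cube (hω : ω ^ 2 + ω + 1 = 0) : ω ^ 3 = 1 := by
  linear_combination (ω - 1) * hω

theorem el_00 : el ω 0 0 = 0 := by simp [el]
theorem el_10 : el ω 1 0 = 1 := by simp [el]
theorem el_01 : el ω 0 1 = ω := by simp [el]
theorem el_11 : el ω 1 1 = 1 + ω := by simp [el]

theorem one_add_omega_ne_zero (h2 : (2 : F) = 0) (hω : ω ^ 2 + ω + 1 = 0) : 1 + ω ≠ 0 :=
  fun e => omega_ne_one h2 hω (by linear_combination e - h2)

/-- The four elements `a₀ + a₁ ω` are distinct. -/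
theorem el_inj (h2 : (2 : F) = 0) (hω : ω ^ 2 + ω + 1 = 0) {a0 a1 b0 b1 : ℕ} (ha0 : a0 < 2)
    (ha1 : a1 < 2) (hb0 : b0 < 2) (hb1 : b1 < 2) (h : el ω a0 a1 = el ω b0 b1) :
    a0 = b0 ∧ a1 = b1 := by
  have h10 : (1 : F) ≠ 0 := one_ne_zero
  have hw0 := omega_ne_zero hω
  have hw1 := omega_ne_one h2 hω
  have hw2 := one_add_omega_ne_zero h2 hω
  interval_cases a0 <;> interval_cases a1 <;> interval_cases b0 <;> interval_cases b1 <;>
    simp only [el_00, el_10, el_01, el_11] at h <;>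
    first
    | exact ⟨rfl, rfl⟩
    | exact absurd h h10
    | exact absurd h.symm h10
    | exact absurd h hw0
    | exact absurd h.symm hw0
    | exact absurd h hw1
    | exact absurd h.symm hw1
    | exact absurd h hw2
    | exact absurd h.symm hw2
    | exact absurd (show ω = 0 by linear_combination h) hw0
    | exact absurd (show ω = 0 by linear_combination -h) hw0
    | exact absurd (show (1 : F) = 0 by linear_combination h) h10
    | exact absurd (show (1 : F) = 0 by linear_combination -h) h10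

theorem el_eq_zero (h2 : (2 : F) = 0) (hω : ω ^ 2 + ω + 1 = 0) {a0 a1 : ℕ} (ha0 : a0 < 2)
    (ha1 : a1 < 2) (h : el ω a0 a1 = 0) : a0 = 0 ∧ a1 = 0 :=
  el_inj h2 hω ha0 ha1 (by norm_num) (by norm_num) (h.trans el_00.symm)

/-- Equal matrices have equal codes. -/
theorem IsCodeM.code_eq (h2 : (2 : F) = 0) (hω : ω ^ 2 + ω + 1 = 0)
    {M : Matrix Spor.F9 Spor.F9 F} {c c' : ℕ} (h : IsCodeM ω M c) (h' : IsCodeM ω M c')
    (hc : c < 2 ^ 162) (hc' : c' < 2 ^ 162) : c = c' := by
  refine eq_of_digB_eq 162 hc hc' (fun p hp => ?_)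
  rw [← bitN_eq, ← bitN_eq]
  by_cases hm : p % 18 < 9
  · have e := (h (un (p / 18)) (un (p % 18))).symm.trans (h' (un (p / 18)) (un (p % 18)))
    rw [ix_un (show p / 18 < 9 by omega), ix_un hm] at e
    have := (el_inj h2 hω (bitN_lt _ _) (bitN_lt _ _) (bitN_lt _ _) (bitN_lt _ _) e).1
    rwa [show 18 * (p / 18) + p % 18 = p by omega] at this
  · have e := (h (un (p / 18)) (un (p % 18 - 9))).symm.trans
      (h' (un (p / 18)) (un (p % 18 - 9)))
    rw [ix_un (show p / 18 < 9 by omega), ix_un (show p % 18 - 9 < 9 by omega)] at e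
    have := (el_inj h2 hω (bitN_lt _ _) (bitN_lt _ _) (bitN_lt _ _) (bitN_lt _ _) e).2
    rwa [show 18 * (p / 18) + 9 + (p % 18 - 9) = p by omega] at this

/-- The matrix with code `c`. -/
def matOfC (ω : F) (c : ℕ) : Matrix Spor.F9 Spor.F9 F :=
  fun w z => el ω (bitN c (18 * ix w + ix z)) (bitN c (18 * ix w + 9 + ix z))

theorem isCodeM_matOfC (ω : F) (c : ℕ) : IsCodeM ω (matOfC ω c) c := fun _ _ => rfl

/-- The element with symbol `s`. -/
def sym (ω : F) (s : ℕ) : F := el ω (s % 2) (s / 2 % 2)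

theorem sym_zero : sym ω 0 = 0 := by simp [sym, el]
theorem sym_one : sym ω 1 = 1 := by simp [sym, el]
theorem sym_two : sym ω 2 = ω := by simp [sym, el]
theorem sym_three (h2 : (2 : F) = 0) (hω : ω ^ 2 + ω + 1 = 0) : sym ω 3 = ω ^ 2 := by
  rw [omega_sq h2 hω]; simp [sym, el]

theorem isCodeM_packSym (ω : F) (e : Spor.F9 → Spor.F9 → ℕ) :
    IsCodeM ω (fun w z => sym ω (e w z)) (packSym e) := by
  intro w z
  have hw := ix_lt w
  have hz := ix_lt z
  rw [add_assoc, ← bitN_rowN _ _ (show ix z < 18 by omega),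
    ← bitN_rowN _ _ (show 9 + ix z < 18 by omega), rowN_packSym e hw,
    bitN_rowSym e _ (by omega), bitN_rowSym e _ (by omega)]
  simp only [symBit, hz, if_true, un_ix, show ¬ (9 + ix z < 9) by omega, if_false,
    Nat.add_sub_cancel_left]
  rfl

/-! ### The five families -/

/-- The symbols of the identity matrix. -/
def eId : Spor.F9 → Spor.F9 → ℕ := fun w z => if w = z then 1 else 0

/-- The symbols of a scalar matrix. -/
def eScal (s : ℕ) : Spor.F9 → Spor.F9 → ℕ := fun w z => if w = z then s else 0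

/-- The symbols of `A_Z`. -/
def eA (Z : Spor.F9) : Spor.F9 → Spor.F9 → ℕ :=
  fun w z => if w = z then (Z.1 * z.1 + Z.2 * z.2).val + 1 else 0

/-- The symbols of `E_Z`. -/
def eE (Z : Spor.F9) : Spor.F9 → Spor.F9 → ℕ :=
  fun w z => if w = z then ((Z.1 - z.1) ^ 2 + (Z.2 - z.2) ^ 2).val + 1 else 0

/-- The symbol of the coefficient `λ`. -/
def eLam (Z z : Spor.F9) : ℕ :=
  if z = 0 then 1
  else if Spor.F9.div Z z = Spor.F9.I - Spor.F9.one then 2
  else if Spor.F9.div Z z = -Spor.F9.I - Spor.F9.one then 3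
  else 1

/-- The symbols of `D_Z`. -/
def eD (Z : Spor.F9) : Spor.F9 → Spor.F9 → ℕ := fun w z => if w = z + Z then eLam Z z else 0

/-- The symbols of `B_Z`. -/
def eB (Z : Spor.F9) : Spor.F9 → Spor.F9 → ℕ :=
  fun w z => if w = Spor.F9.mul Z z then 1 else 0

/-- The symbols of `C_Z`. -/
def eC (Z : Spor.F9) : Spor.F9 → Spor.F9 → ℕ := fun w z =>
  if z = 0 then (if w = 0 then 1 else 0)
  else if w = -Spor.F9.div Z z ∨ w = Spor.F9.mul Spor.F9.I (Spor.F9.div Z z) ∨
    w = -Spor.F9.mul Spor.F9.I (Spor.F9.div Z z) then 1 else 0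

theorem sym_val_succ (h2 : (2 : F) = 0) (hω : ω ^ 2 + ω + 1 = 0) (n : ZMod 3) :
    sym ω (n.val + 1) = Spor.omegaPow F ω n := by
  unfold Spor.omegaPow
  have : n.val = 0 ∨ n.val = 1 ∨ n.val = 2 := by have := ZMod.val_lt n; omega
  rcases this with h | h | h <;> rw [h] <;> simp [sym_one, sym_two, sym_three h2 hω]

theorem isCodeM_one : IsCodeM ω (1 : Matrix Spor.F9 Spor.F9 F) (packSym eId) := by
  have e : (1 : Matrix Spor.F9 Spor.F9 F) = fun w z => sym ω (eId w z) := by
    ext w z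
    simp only [Matrix.one_apply, eId]
    split_ifs
    · exact sym_one.symm
    · exact sym_zero.symm
  rw [e]; exact isCodeM_packSym ω _

theorem isCodeM_scal (s : ℕ) :
    IsCodeM ω (sym ω s • (1 : Matrix Spor.F9 Spor.F9 F)) (packSym (eScal s)) := by
  have e : sym ω s • (1 : Matrix Spor.F9 Spor.F9 F) = fun w z => sym ω (eScal s w z) := by
    ext w z
    simp only [Matrix.smul_apply, Matrix.one_apply, eScal, smul_eq_mul]
    split_ifs
    · rw [mul_one]
    · rw [mul_zero]; exact sym_zero.symm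
  rw [e]; exact isCodeM_packSym ω _

theorem isCodeM_A (h2 : (2 : F) = 0) (hω : ω ^ 2 + ω + 1 = 0) (Z : Spor.F9) :
    IsCodeM ω (Spor.j3A F ω Z) (packSym (eA Z)) := by
  have e : Spor.j3A F ω Z = fun w z => sym ω (eA Z w z) := by
    ext w z
    simp only [Spor.j3A, Matrix.diagonal_apply, eA]
    split_ifs with h
    · subst h; exact (sym_val_succ h2 hω _).symm
    · exact sym_zero.symm
  rw [e]; exact isCodeM_packSym ω _

theorem isCodeM_E (h2 : (2 : F) = 0) (hω : ω ^ 2 + ω + 1 = 0) (Z : Spor.F9) :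
    IsCodeM ω (Spor.j3E F ω Z) (packSym (eE Z)) := by
  have e : Spor.j3E F ω Z = fun w z => sym ω (eE Z w z) := by
    ext w z
    simp only [Spor.j3E, Matrix.diagonal_apply, eE]
    split_ifs with h
    · subst h; exact (sym_val_succ h2 hω _).symm
    · exact sym_zero.symm
  rw [e]; exact isCodeM_packSym ω _

theorem isCodeM_D (h2 : (2 : F) = 0) (hω : ω ^ 2 + ω + 1 = 0) (Z : Spor.F9) :
    IsCodeM ω (Spor.j3D F ω Z) (packSym (eD Z)) := by
  have e : Spor.j3D F ω Z = fun w z => sym ω (eD Z w z) := by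
    ext w z
    simp only [Spor.j3D, Matrix.of_apply, eD]
    split_ifs with h
    · unfold Spor.j3Lam eLam
      split_ifs
      · exact sym_one.symm
      · exact sym_two.symm
      · exact (sym_three h2 hω).symm
      · exact sym_one.symm
    · exact sym_zero.symm
  rw [e]; exact isCodeM_packSym ω _

theorem isCodeM_B (Z : Spor.F9) : IsCodeM ω (Spor.j3B F Z) (packSym (eB Z)) := by
  have e : Spor.j3B F Z = fun w z => sym ω (eB Z w z) := by
    ext w z
    simp only [Spor.j3B, Matrix.of_apply, eB]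
    split_ifs
    · exact sym_one.symm
    · exact sym_zero.symm
  rw [e]; exact isCodeM_packSym ω _

theorem isCodeM_C (Z : Spor.F9) : IsCodeM ω (Spor.j3C F Z) (packSym (eC Z)) := by
  have e : Spor.j3C F Z = fun w z => sym ω (eC Z w z) := by
    ext w z
    simp only [Spor.j3C, Matrix.of_apply, eC]
    split_ifs
    · exact sym_one.symm
    · exact sym_zero.symm
    · exact sym_one.symm
    · exact sym_zero.symm
  rw [e]; exact isCodeM_packSym ω _

theorem idC_eq : idC = packSym eId := by decide +kernel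

theorem isCodeM_idC : IsCodeM ω (1 : Matrix Spor.F9 Spor.F9 F) idC := by
  rw [idC_eq]; exact isCodeM_one

/-! ### Invertible matrices -/

/-- `c` is the code of the invertible matrix `g`. -/
def IsCode (ω : F) (g : GL Spor.F9 F) (c : ℕ) : Prop :=
  IsCodeM ω (g : Matrix Spor.F9 Spor.F9 F) c

theorem IsCode.mul (h2 : (2 : F) = 0) (hω : ω ^ 2 + ω + 1 = 0) {g g' : GL Spor.F9 F} {c d : ℕ}
    (h : IsCode ω g c) (h' : IsCode ω g' d) : IsCode ω (g * g') (mulC c d) := by
  show IsCodeM ω ((g * g' : GL Spor.F9 F) : Matrix Spor.F9 Spor.F9 F) _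
  rw [Units.val_mul]; exact IsCodeM.mul h2 hω h h'

theorem IsCode.eq {g g' : GL Spor.F9 F} {c : ℕ} (h : IsCode ω g c) (h' : IsCode ω g' c) :
    g = g' := Units.ext (IsCodeM.eq h h')

theorem isCode_one : IsCode ω (1 : GL Spor.F9 F) idC := by
  show IsCodeM ω ((1 : GL Spor.F9 F) : Matrix Spor.F9 Spor.F9 F) _
  rw [Units.val_one]; exact isCodeM_idC

/-- A matrix whose code has an inverse is invertible. -/
theorem exists_unit (h2 : (2 : F) = 0) (hω : ω ^ 2 + ω + 1 = 0)
    {M : Matrix Spor.F9 Spor.F9 F} {c : ℕ} (hM : IsCodeM ω M c) (d : ℕ)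
    (h1 : mulC c d = idC) (h1' : mulC d c = idC) :
    ∃ g : GL Spor.F9 F, (g : Matrix Spor.F9 Spor.F9 F) = M := by
  have e1 : M * matOfC ω d = 1 :=
    IsCodeM.eq (by rw [← h1]; exact IsCodeM.mul h2 hω hM (isCodeM_matOfC ω d)) isCodeM_idC
  have e2 : matOfC ω d * M = 1 :=
    IsCodeM.eq (by rw [← h1']; exact IsCodeM.mul h2 hω (isCodeM_matOfC ω d) hM) isCodeM_idC
  exact ⟨⟨M, matOfC ω d, e1, e2⟩, rfl⟩

end

end Cfsg.Agent.Helper7.J3
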