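/-
Helper7 library: the first column of a matrix code (as the bits of the code at the positions of
that column) and the test that it is normalised: its first nonzero entry is `1`.
-/
import Cfsg.Agent.Helper7.J3Gen

set_option autoImplicit false

namespace Cfsg.Agent.Helper7.J3

open Cfsg

/-- The positions of the first column in a matrix code. -/
def colMask : ℕ := 0x201008040201008040201008040201008040201

/-- The bits of the first column of a matrix code. -/
def skC (c : ℕ) : ℕ := Nat.land c colMask

/-- From entry `k` of the first column on, the first nonzero entry is `1` (with `n` entries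
left to look at). -/
def normGo (c : ℕ) : ℕ → ℕ → Bool
  | 0, _ => false
  | n + 1, k =>
    bif Nat.beq (bitN c (Nat.mul 18 k)) 1 then Nat.beq (bitN c (Nat.add (Nat.mul 18 k) 9)) 0
    else (Nat.beq (bitN c (Nat.add (Nat.mul 18 k) 9)) 0 && normGo c n (Nat.succ k))

/-- The first nonzero entry of the first column is `1`. -/
def normOK (c : ℕ) : Bool := normGo c 9 0

/-- The code of a nonzero multiple of the first basis vector: entry `1`, `ω` or `ω + 1` at the
first position and nothing else. -/
def isUnitKey (v : ℕ) : Bool := Nat.beq v 1 || (Nat.beq v 512 || Nat.beq v 513)

end Cfsg.Agent.Helper7.J3
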