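/-
Helper7 library: lemmas on the first column of a matrix code: equal first columns give equal
keys, a normalised first column, and the matrices whose first column or first row is a multiple
of the first basis vector.
-/
import Cfsg.Agent.Helper7.J3KeyDefs

set_option autoImplicit false

namespace Cfsg.Agent.Helper7.J3

open Cfsg Finset

theorem colMask_testBit {i : ℕ} (hi : i < 9) :
    colMask.testBit (18 * i) = true ∧ colMask.testBit (18 * i + 9) = true := by
  interval_cases i <;> exact ⟨rfl, rfl⟩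

theorem colMask_testBit_true {p : ℕ} (h : colMask.testBit p = true) : p < 162 ∧ p % 9 = 0 := by
  have h1 : p < 162 := by
    by_contra hp
    have h2 : colMask < 2 ^ p :=
      lt_of_lt_of_le (show colMask < 2 ^ 162 by decide) (Nat.pow_le_pow_right (by norm_num) (by omega))
    rw [Nat.testBit_lt_two_pow h2] at h
    exact Bool.false_ne_true h
  have h3 : ∀ q, q < 162 → colMask.testBit q = true → q % 9 = 0 := by decide +kernel
  exact ⟨h1, h3 p h1 h⟩

theorem testBit_eq_of_bitN {c c' p : ℕ} (h : bitN c p = bitN c' p) : c.testBit p = c'.testBit p := by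
  rw [bitN_toNat, bitN_toNat] at h
  revert h
  cases c.testBit p <;> cases c'.testBit p <;> simp

theorem bitN_skC_a (c : ℕ) {i : ℕ} (hi : i < 9) : bitN (skC c) (18 * i) = bitN c (18 * i) := by
  rw [bitN_toNat, bitN_toNat]
  show ((c &&& colMask).testBit _).toNat = _
  rw [Nat.testBit_and, (colMask_testBit hi).1, Bool.and_true]

theorem bitN_skC_b (c : ℕ) {i : ℕ} (hi : i < 9) :
    bitN (skC c) (18 * i + 9) = bitN c (18 * i + 9) := by
  rw [bitN_toNat, bitN_toNat]
  show ((c &&& colMask).testBit _).toNat = _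
  rw [Nat.testBit_and, (colMask_testBit hi).2, Bool.and_true]

theorem bitN_eq_zero_of_lt {v p : ℕ} (h : v < 2 ^ p) : bitN v p = 0 := by
  rw [bitN_eq, digB, Nat.div_eq_of_lt h]

theorem normGo_spec (c : ℕ) : ∀ n k, normGo c n k = true →
    ∃ t, k ≤ t ∧ t < k + n ∧ bitN c (18 * t) = 1 ∧ bitN c (18 * t + 9) = 0 ∧
      ∀ m, k ≤ m → m < t → bitN c (18 * m) = 0 ∧ bitN c (18 * m + 9) = 0 := by
  intro n
  induction n with
  | zero => intro k h; simp [normGo] at h
  | succ n ih =>
    intro k h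
    rw [normGo] at h
    by_cases h1 : bitN c (18 * k) = 1
    · have hb : Nat.beq (bitN c (Nat.mul 18 k)) 1 = true := by
        show Nat.beq (bitN c (18 * k)) 1 = true
        rw [h1]; rfl
      rw [hb, cond_true] at h
      exact ⟨k, le_refl _, by omega, h1, Nat.eq_of_beq_eq_true h, fun m hm1 hm2 => by omega⟩
    · have hb : Nat.beq (bitN c (Nat.mul 18 k)) 1 = false := by
        rw [← Bool.not_eq_true]; intro h'; exact h1 (Nat.eq_of_beq_eq_true h')
      rw [hb, cond_false, Bool.and_eq_true] at h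
      obtain ⟨t, ht1, ht2, ht3, ht4, ht5⟩ := ih _ h.2
      refine ⟨t, by omega, by omega, ht3, ht4, fun m hm1 hm2 => ?_⟩
      rcases Nat.eq_or_lt_of_le hm1 with e | hlt
      · subst e
        exact ⟨by have := bitN_lt c (18 * k); omega, Nat.eq_of_beq_eq_true h.1⟩
      · exact ht5 m hlt hm2

section
variable {F : Type*} [Field F] {ω : F}

/-- Equal first columns give equal keys. -/
theorem skC_eq_of_col (h2 : (2 : F) = 0) (hω : ω ^ 2 + ω + 1 = 0)
    {M M' : Matrix Spor.F9 Spor.F9 F} {c c' : ℕ} (h : IsCodeM ω M c) (h' : IsCodeM ω M' c')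
    (e : ∀ w, M w 0 = M' w 0) : skC c = skC c' := by
  apply Nat.eq_of_testBit_eq
  intro p
  show (c &&& colMask).testBit p = (c' &&& colMask).testBit p
  rw [Nat.testBit_and, Nat.testBit_and]
  by_cases hp : colMask.testBit p = true
  · obtain ⟨hp1, hp2⟩ := colMask_testBit_true hp
    rw [hp, Bool.and_true, Bool.and_true]
    have ee := (h (un (p / 18)) 0).symm.trans ((e _).trans (h' (un (p / 18)) 0))
    rw [ix_un (show p / 18 < 9 by omega), ix_zero, add_zero, add_zero] at ee
    obtain ⟨e0, e1⟩ := el_inj h2 hω (bitN_lt _ _) (bitN_lt _ _) (bitN_lt _ _) (bitN_lt _ _) ee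
    by_cases hq : p % 18 = 0
    · rw [show 18 * (p / 18) = p by omega] at e0
      exact testBit_eq_of_bitN e0
    · rw [show 18 * (p / 18) + 9 = p by omega] at e1
      exact testBit_eq_of_bitN e1
  · rw [Bool.not_eq_true] at hp
    rw [hp, Bool.and_false, Bool.and_false]

/-- A vector whose first nonzero entry is `1`. -/
def NormVec (f : Spor.F9 → F) : Prop := ∃ t, t < 9 ∧ f (un t) = 1 ∧ ∀ m, m < t → f (un m) = 0

theorem normVec_of_normOK {M : Matrix Spor.F9 Spor.F9 F} {c : ℕ} (h : IsCodeM ω M c)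
    (hn : normOK c = true) : NormVec (fun w => M w 0) := by
  obtain ⟨t, _, ht2, ht3, ht4, ht5⟩ := normGo_spec c 9 0 hn
  refine ⟨t, by omega, ?_, fun m hm => ?_⟩
  · show M (un t) 0 = 1
    rw [h (un t) 0, ix_un (by omega), ix_zero, add_zero, add_zero, ht3, ht4, el_10]
  · show M (un m) 0 = 0
    obtain ⟨a, b⟩ := ht5 m (Nat.zero_le _) hm
    rw [h (un m) 0, ix_un (by omega), ix_zero, add_zero, add_zero, a, b, el_00]

/-- Two normalised vectors that are proportional are equal. -/
theorem NormVec.eq_one {f f' : Spor.F9 → F} (hf : NormVec f) (hf' : NormVec f') {a : F}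
    (ha : a ≠ 0) (e : ∀ w, f w = a * f' w) : a = 1 := by
  obtain ⟨t, ht, h1, h0⟩ := hf
  obtain ⟨t', ht', h1', h0'⟩ := hf'
  have e1 : t ≤ t' := by
    by_contra hlt
    rw [not_le] at hlt
    have := e (un t')
    rw [h0 t' hlt, h1', mul_one] at this
    exact ha this.symm
  have e2 : t' ≤ t := by
    by_contra hlt
    rw [not_le] at hlt
    have := e (un t)
    rw [h1, h0' t hlt, mul_zero] at this
    exact one_ne_zero this
  have : t = t' := le_antisymm e1 e2
  subst this
  have := e (un t)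
  rw [h1, h1', mul_one] at this
  exact this.symm

theorem el_unitKey_ne_zero (h2 : (2 : F) = 0) (hω : ω ^ 2 + ω + 1 = 0) {v : ℕ}
    (hv : isUnitKey v = true) : el ω (bitN v 0) (bitN v 9) ≠ 0 ∧ v < 1024 ∧
      ∀ k, 0 < k → k < 9 → bitN v k = 0 ∧ bitN v (9 + k) = 0 := by
  have hv' : v = 1 ∨ v = 512 ∨ v = 513 := by
    simp only [isUnitKey, Bool.or_eq_true] at hv
    rcases hv with h | h | h
    · exact Or.inl (Nat.eq_of_beq_eq_true h)
    · exact Or.inr (Or.inl (Nat.eq_of_beq_eq_true h))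
    · exact Or.inr (Or.inr (Nat.eq_of_beq_eq_true h))
  have hk : ∀ u, (u = 1 ∨ u = 512 ∨ u = 513) → ∀ k, 0 < k → k < 9 →
      bitN u k = 0 ∧ bitN u (9 + k) = 0 := by
    intro u hu k hk1 hk2
    rcases hu with rfl | rfl | rfl <;> interval_cases k <;> exact ⟨rfl, rfl⟩
  refine ⟨?_, by rcases hv' with rfl | rfl | rfl <;> norm_num, hk v hv'⟩
  rcases hv' with rfl | rfl | rfl
  · rw [show bitN 1 0 = 1 from rfl, show bitN 1 9 = 0 from rfl, el_10]; exact one_ne_zero
  · rw [show bitN 512 0 = 0 from rfl, show bitN 512 9 = 1 from rfl, el_01]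
    exact omega_ne_zero hω
  · rw [show bitN 513 0 = 1 from rfl, show bitN 513 9 = 1 from rfl, el_11]
    exact one_add_omega_ne_zero h2 hω

/-- A matrix whose first column is a nonzero multiple of the first basis vector. -/
theorem col_of_unitKey (h2 : (2 : F) = 0) (hω : ω ^ 2 + ω + 1 = 0)
    {M : Matrix Spor.F9 Spor.F9 F} {c : ℕ} (h : IsCodeM ω M c) (hk : isUnitKey (skC c) = true) :
    M 0 0 ≠ 0 ∧ ∀ w, w ≠ 0 → M w 0 = 0 := by
  obtain ⟨ha, hv, _⟩ := el_unitKey_ne_zero h2 hω hk
  constructor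
  · rw [h 0 0, ix_zero]
    have a := bitN_skC_a c (show 0 < 9 by norm_num)
    have b := bitN_skC_b c (show 0 < 9 by norm_num)
    simp only [mul_zero, zero_add, add_zero] at a b ⊢
    rw [← a, ← b]; exact ha
  · intro w hw
    have hw1 : 0 < ix w := by
      rcases Nat.eq_zero_or_pos (ix w) with e | e
      · exact absurd (ix_inj (e.trans ix_zero.symm)) hw
      · exact e
    have hw2 := ix_lt w
    rw [h w 0, ix_zero, add_zero, add_zero, ← bitN_skC_a c hw2, ← bitN_skC_b c hw2,
      bitN_eq_zero_of_lt (lt_of_lt_of_le hv (show 1024 ≤ 2 ^ (18 * ix w) by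
        calc 1024 = 2 ^ 10 := by norm_num
          _ ≤ 2 ^ (18 * ix w) := Nat.pow_le_pow_right (by norm_num) (by omega))),
      bitN_eq_zero_of_lt (lt_of_lt_of_le hv (show 1024 ≤ 2 ^ (18 * ix w + 9) by
        calc 1024 = 2 ^ 10 := by norm_num
          _ ≤ 2 ^ (18 * ix w + 9) := Nat.pow_le_pow_right (by norm_num) (by omega))), el_00]

/-- A matrix whose first row is a nonzero multiple of the first basis vector. -/
theorem row_of_unitKey (h2 : (2 : F) = 0) (hω : ω ^ 2 + ω + 1 = 0)
    {M : Matrix Spor.F9 Spor.F9 F} {c : ℕ} (h : IsCodeM ω M c)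
    (hk : isUnitKey (rowN c 0) = true) : ∀ z, z ≠ 0 → M 0 z = 0 := by
  obtain ⟨_, _, hv⟩ := el_unitKey_ne_zero h2 hω hk
  intro z hz
  have hz1 : 0 < ix z := by
    rcases Nat.eq_zero_or_pos (ix z) with e | e
    · exact absurd (ix_inj (e.trans ix_zero.symm)) hz
    · exact e
  have hr := h.row 0 z
  rw [ix_zero] at hr
  obtain ⟨a, b⟩ := hv (ix z) hz1 (ix_lt z)
  rw [hr, a, b, el_00]

end

end Cfsg.Agent.Helper7.J3
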