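/-
Helper7 library: the kernel-checked certificates for the triple cover of the Janko group `J₃`,
put together: statements about all indices.
-/
import Cfsg.Agent.Helper7.J3Chk1a
import Cfsg.Agent.Helper7.J3Chk1b
import Cfsg.Agent.Helper7.J3Chk1c
import Cfsg.Agent.Helper7.J3Chk1d
import Cfsg.Agent.Helper7.J3Chk2
import Cfsg.Agent.Helper7.J3Chk3
import Cfsg.Agent.Helper7.J3Key

set_option autoImplicit false

namespace Cfsg.Agent.Helper7.J3

open Cfsg

/-- A range checked in blocks of `2 ^ d`. -/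
theorem rg_cover (p : ℕ → Bool) (d K : ℕ) (h : ∀ k, k < K → rgAll p d (2 ^ d * k) = true) (i : ℕ)
    (hi : i < 2 ^ d * K) : p i = true := by
  have hk : i / 2 ^ d < K := Nat.div_lt_of_lt_mul hi
  have h1 := Nat.lt_mul_div_succ i (show 0 < 2 ^ d by positivity)
  exact rgAll_spec p d _ (h _ hk) i (Nat.mul_div_le i (2 ^ d)) (by rw [Nat.mul_succ] at h1; exact h1)

theorem ble_false {n x : ℕ} (hx : x < n) : Nat.ble n x = false := by
  rw [← Bool.not_eq_true]; intro h'; have := Nat.le_of_ble_eq_true h'; omega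

theorem beq_false {x y : ℕ} (h : x ≠ y) : Nat.beq x y = false := by
  rw [← Bool.not_eq_true]; intro h'; exact h (Nat.eq_of_beq_eq_true h')

theorem chk1_all0 (i : ℕ) (hi : i < 23256) : chk1 0 i = true := by
  refine rg_cover (chk1 0) 10 23 (fun k hk => ?_) i (by norm_num; omega)
  interval_cases k
  · exact chk1_0_0
  · exact chk1_0_1
  · exact chk1_0_2
  · exact chk1_0_3
  · exact chk1_0_4
  · exact chk1_0_5
  · exact chk1_0_6
  · exact chk1_0_7
  · exact chk1_0_8
  · exact chk1_0_9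
  · exact chk1_0_10
  · exact chk1_0_11
  · exact chk1_0_12
  · exact chk1_0_13
  · exact chk1_0_14
  · exact chk1_0_15
  · exact chk1_0_16
  · exact chk1_0_17
  · exact chk1_0_18
  · exact chk1_0_19
  · exact chk1_0_20
  · exact chk1_0_21
  · exact chk1_0_22

theorem chk1_all1 (i : ℕ) (hi : i < 23256) : chk1 1 i = true := by
  refine rg_cover (chk1 1) 10 23 (fun k hk => ?_) i (by norm_num; omega)
  interval_cases k
  · exact chk1_1_0
  · exact chk1_1_1
  · exact chk1_1_2
  · exact chk1_1_3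
  · exact chk1_1_4
  · exact chk1_1_5
  · exact chk1_1_6
  · exact chk1_1_7
  · exact chk1_1_8
  · exact chk1_1_9
  · exact chk1_1_10
  · exact chk1_1_11
  · exact chk1_1_12
  · exact chk1_1_13
  · exact chk1_1_14
  · exact chk1_1_15
  · exact chk1_1_16
  · exact chk1_1_17
  · exact chk1_1_18
  · exact chk1_1_19
  · exact chk1_1_20
  · exact chk1_1_21
  · exact chk1_1_22

theorem chk2_all0 (i : ℕ) (hi : i < 6480) : chk2 0 i = true := by
  refine rg_cover (chk2 0) 11 4 (fun k hk => ?_) i (by norm_num; omega)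
  interval_cases k
  · exact chk2_0_0
  · exact chk2_0_1
  · exact chk2_0_2
  · exact chk2_0_3

theorem chk2_all1 (i : ℕ) (hi : i < 6480) : chk2 1 i = true := by
  refine rg_cover (chk2 1) 11 4 (fun k hk => ?_) i (by norm_num; omega)
  interval_cases k
  · exact chk2_1_0
  · exact chk2_1_1
  · exact chk2_1_2
  · exact chk2_1_3

theorem chk3_all (i : ℕ) (hi : i < 6480) : chk3 i = true := by
  refine rg_cover (chk3) 11 4 (fun k hk => ?_) i (by norm_num; omega)
  interval_cases k
  · exact chk3_0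
  · exact chk3_1
  · exact chk3_2
  · exact chk3_3

theorem chk4_all (i : ℕ) (hi : i < 23256) : chk4 i = true := by
  refine rg_cover (chk4) 11 12 (fun k hk => ?_) i (by norm_num; omega)
  interval_cases k
  · exact chk4_0
  · exact chk4_1
  · exact chk4_2
  · exact chk4_3
  · exact chk4_4
  · exact chk4_5
  · exact chk4_6
  · exact chk4_7
  · exact chk4_8
  · exact chk4_9
  · exact chk4_10
  · exact chk4_11

theorem chk5_all (i : ℕ) (hi : i < 23256) : chk5 i = true := by
  refine rg_cover (chk5) 11 12 (fun k hk => ?_) i (by norm_num; omega)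
  interval_cases k
  · exact chk5_0
  · exact chk5_1
  · exact chk5_2
  · exact chk5_3
  · exact chk5_4
  · exact chk5_5
  · exact chk5_6
  · exact chk5_7
  · exact chk5_8
  · exact chk5_9
  · exact chk5_10
  · exact chk5_11

theorem chk6_all (i : ℕ) (hi : i < 6480) : chk6 i = true := by
  refine rg_cover (chk6) 11 4 (fun k hk => ?_) i (by norm_num; omega)
  interval_cases k
  · exact chk6_0
  · exact chk6_1
  · exact chk6_2
  · exact chk6_3

theorem chk1_spec {g i : ℕ} (hg : g < 2) (hi : i < 23256) :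
    sigC g i < 23256 ∧ tauC g i < 6480 ∧
      mulC (gC g) (uC i) = mulC (uC (sigC g i)) (sC (tauC g i)) := by
  have h : chk1 g i = true := by
    have hg' : g = 0 ∨ g = 1 := by omega
    rcases hg' with rfl | rfl
    · exact chk1_all0 i hi
    · exact chk1_all1 i hi
  rw [chk1, ble_false hi, Bool.false_or, Bool.and_eq_true, Bool.and_eq_true, mulF_eq, mulF_eq] at h
  exact ⟨Nat.le_of_ble_eq_true h.1, Nat.le_of_ble_eq_true h.2.1, Nat.eq_of_beq_eq_true h.2.2⟩

theorem chk2_spec {h j : ℕ} (hh : h < 2) (hj : j < 6480) :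
    mC h j < 6480 ∧ mulC (hC h) (sC j) = sC (mC h j) := by
  have h' : chk2 h j = true := by
    have hh' : h = 0 ∨ h = 1 := by omega
    rcases hh' with rfl | rfl
    · exact chk2_all0 j hj
    · exact chk2_all1 j hj
  rw [chk2, ble_false hj, Bool.false_or, Bool.and_eq_true, mulF_eq] at h'
  exact ⟨Nat.le_of_ble_eq_true h'.1, Nat.eq_of_beq_eq_true h'.2⟩

theorem chk3_spec {j : ℕ} (hj : j < 6480) :
    isUnitKey (skC (sC j)) = true ∧ isUnitKey (rowN (sC j) 0) = true ∧
      (j < 6479 → sC j < sC (j + 1)) := by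
  have h := chk3_all j hj
  rw [chk3, ble_false hj, Bool.false_or, Bool.and_eq_true, Bool.and_eq_true] at h
  refine ⟨h.1, h.2.1, fun hj' => ?_⟩
  have h3 := h.2.2
  rw [ble_false hj', Bool.false_or] at h3
  exact Nat.le_of_ble_eq_true h3

theorem chk4_spec {i : ℕ} (hi : i < 23256) :
    normOK (uC i) = true ∧ (i < 23255 → skC (uC i) < skC (uC (i + 1))) := by
  have h := chk4_all i hi
  rw [chk4, ble_false hi, Bool.false_or, Bool.and_eq_true] at h
  refine ⟨h.1, fun hi' => ?_⟩
  have h3 := h.2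
  rw [ble_false hi', Bool.false_or] at h3
  exact Nat.le_of_ble_eq_true h3

theorem chk5_spec {i : ℕ} (hi : i < 23256) (hr : i ≠ 0) :
    e16 j3Dep (e16 j3Par i) < e16 j3Dep i ∧ e16 j3Par i < 23256 ∧ e16 j3Gen i < 2 ∧
      sigC (e16 j3Gen i) (e16 j3Par i) = i ∧
      isScalIdx (tauC (e16 j3Gen i) (e16 j3Par i)) = true := by
  have h := chk5_all i hi
  rw [chk5, ble_false hi, beq_false hr, Bool.false_or, Bool.false_or, Bool.and_eq_true,
    Bool.and_eq_true, Bool.and_eq_true, Bool.and_eq_true] at h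
  exact ⟨Nat.le_of_ble_eq_true h.1, Nat.le_of_ble_eq_true h.2.1, Nat.le_of_ble_eq_true h.2.2.1,
    Nat.eq_of_beq_eq_true h.2.2.2.1, h.2.2.2.2⟩

theorem chk6_spec {j : ℕ} (hj : j < 6480) (hr : j ≠ jId) :
    e16 j3DepS (e16 j3ParS j) < e16 j3DepS j ∧ e16 j3ParS j < 6480 ∧ e16 j3GenS j < 2 ∧
      mC (e16 j3GenS j) (e16 j3ParS j) = j := by
  have h := chk6_all j hj
  rw [chk6, ble_false hj, beq_false hr, Bool.false_or, Bool.false_or, Bool.and_eq_true,
    Bool.and_eq_true, Bool.and_eq_true] at h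
  exact ⟨Nat.le_of_ble_eq_true h.1, Nat.le_of_ble_eq_true h.2.1, Nat.le_of_ble_eq_true h.2.2.1,
    Nat.eq_of_beq_eq_true h.2.2.2⟩

theorem chk7_spec {t : ℕ} (ht : t < 45) (h27 : t ≠ 27) (h36 : t ≠ 36) :
    e16 j3GenI t < 23256 ∧ e16 j3GenJ t < 6480 ∧
      genCode t = mulC (uC (e16 j3GenI t)) (sC (e16 j3GenJ t)) := by
  have h := rgAll_spec _ _ _ chk7_a t (by omega) (by norm_num; omega)
  rw [chk7, ble_false ht, beq_false h27, beq_false h36, Bool.false_or, Bool.false_or,
    Bool.false_or, Bool.and_eq_true, Bool.and_eq_true, mulF_eq] at h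
  exact ⟨Nat.le_of_ble_eq_true h.1, Nat.le_of_ble_eq_true h.2.1, Nat.eq_of_beq_eq_true h.2.2⟩

theorem uC_lt (i : ℕ) : uC i < 2 ^ 162 := Nat.mod_lt _ (by norm_num)

theorem sC_lt (j : ℕ) : sC j < 2 ^ 162 := Nat.mod_lt _ (by norm_num)

end Cfsg.Agent.Helper7.J3
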