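/-
Helper7 library: the order of the triple cover `3·J₃ ≤ GL₉(F)` (`F` a field with four elements,
`ω` a primitive cube root of unity) is `150698880 = 23256 · 6480`. Every element is uniquely a
product `Ug i * Sg j` of one of 23256 transversal elements and one of the 6480 elements of the
stabiliser of the line through the first basis vector.
-/
import Cfsg.Agent.Helper7.J3Checks

set_option autoImplicit false

namespace Cfsg.Agent.Helper7.J3

open Cfsg
open scoped Pointwise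

/-- The hypotheses on the field and on `ω`. -/
structure Ctx {F : Type*} [Field F] (ω : F) : Prop where
  two : (2 : F) = 0
  om : ω ^ 2 + ω + 1 = 0

section
variable {F : Type*} [Field F] {ω : F}

theorem mem_gens_A (g : GL Spor.F9 F) (Z : Spor.F9)
    (h : (g : Matrix Spor.F9 Spor.F9 F) = Spor.j3A F ω Z) : g ∈ Spor.threeJ3 F ω :=
  Subgroup.subset_closure (Or.inl (Or.inl (Or.inl (Or.inl ⟨Z, h.symm⟩))))

theorem mem_gens_E (g : GL Spor.F9 F) (Z : Spor.F9)
    (h : (g : Matrix Spor.F9 Spor.F9 F) = Spor.j3E F ω Z) : g ∈ Spor.threeJ3 F ω :=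
  Subgroup.subset_closure (Or.inl (Or.inl (Or.inl (Or.inr ⟨Z, h.symm⟩))))

theorem mem_gens_D (g : GL Spor.F9 F) (Z : Spor.F9)
    (h : (g : Matrix Spor.F9 Spor.F9 F) = Spor.j3D F ω Z) : g ∈ Spor.threeJ3 F ω :=
  Subgroup.subset_closure (Or.inl (Or.inl (Or.inr ⟨Z, h.symm⟩)))

theorem mem_gens_B (g : GL Spor.F9 F) (Z : Spor.F9) (hZ : Z ≠ 0)
    (h : (g : Matrix Spor.F9 Spor.F9 F) = Spor.j3B F Z) : g ∈ Spor.threeJ3 F ω :=
  Subgroup.subset_closure (Or.inl (Or.inr ⟨Z, hZ, h⟩))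

theorem mem_gens_C (g : GL Spor.F9 F) (Z : Spor.F9) (hZ : Z ≠ 0)
    (h : (g : Matrix Spor.F9 Spor.F9 F) = Spor.j3C F Z) : g ∈ Spor.threeJ3 F ω :=
  Subgroup.subset_closure (Or.inr ⟨Z, hZ, h⟩)

/-- `a * b⁻¹` has code `c` when `a` has the code of a product of `c` and the code of `b`. -/
theorem isCode_mul_inv {a b : GL Spor.F9 F} {c d : ℕ} (H : Ctx ω)
    (hab : IsCode ω a (mulC c d)) (hb : IsCode ω b d) : IsCode ω (a * b⁻¹) c := by
  have e : (a : Matrix Spor.F9 Spor.F9 F) = matOfC ω c * (b : Matrix Spor.F9 Spor.F9 F) :=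
    IsCodeM.eq hab (IsCodeM.mul H.two H.om (isCodeM_matOfC ω c) hb)
  have e2 : ((a * b⁻¹ : GL Spor.F9 F) : Matrix Spor.F9 Spor.F9 F) = matOfC ω c := by
    rw [Units.val_mul, e, mul_assoc, Units.mul_inv, mul_one]
  show IsCodeM ω _ _
  rw [e2]; exact isCodeM_matOfC ω c

/-- `b⁻¹ * a` has code `c` when `a` has the code of a product of the code of `b` and `c`. -/
theorem isCode_inv_mul {a b : GL Spor.F9 F} {c d : ℕ} (H : Ctx ω)
    (hab : IsCode ω a (mulC d c)) (hb : IsCode ω b d) : IsCode ω (b⁻¹ * a) c := by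
  have e : (a : Matrix Spor.F9 Spor.F9 F) = (b : Matrix Spor.F9 Spor.F9 F) * matOfC ω c :=
    IsCodeM.eq hab (IsCodeM.mul H.two H.om hb (isCodeM_matOfC ω c))
  have e2 : ((b⁻¹ * a : GL Spor.F9 F) : Matrix Spor.F9 Spor.F9 F) = matOfC ω c := by
    rw [Units.val_mul, e, ← mul_assoc, Units.inv_mul, one_mul]
  show IsCodeM ω _ _
  rw [e2]; exact isCodeM_matOfC ω c

/-! ### The generators -/

theorem exists_gens (H : Ctx ω) : ∃ gx gy z : GL Spor.F9 F,
    gx ∈ Spor.threeJ3 F ω ∧ gy ∈ Spor.threeJ3 F ω ∧ z ∈ Spor.threeJ3 F ω ∧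
    IsCode ω gx cX ∧ IsCode ω gy cY ∧ IsCode ω z (packSym (eScal 2)) ∧
    (z : Matrix Spor.F9 Spor.F9 F) = sym ω 2 • (1 : Matrix Spor.F9 Spor.F9 F) := by
  obtain ⟨a, ha⟩ := exists_unit H.two H.om (isCodeM_C (ω := ω) (2, 0)) iCx inv_Cx.1 inv_Cx.2
  obtain ⟨b, hb⟩ := exists_unit H.two H.om (isCodeM_B (ω := ω) (2, 0)) iBx inv_Bx.1 inv_Bx.2
  obtain ⟨d, hd⟩ := exists_unit H.two H.om (isCodeM_D H.two H.om (1, 2)) iDy inv_Dy.1 inv_Dy.2
  obtain ⟨e, he⟩ := exists_unit H.two H.om (isCodeM_E H.two H.om (1, 1)) iEy inv_Ey.1 inv_Ey.2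
  obtain ⟨p, hp⟩ := exists_unit H.two H.om (isCodeM_A H.two H.om (0, 1)) iAz inv_Az.1 inv_Az.2
  obtain ⟨q, hq⟩ := exists_unit H.two H.om (isCodeM_D H.two H.om (0, 1)) iDz inv_Dz.1 inv_Dz.2
  have ca : IsCode ω a (packSym (eC (2, 0))) := by
    show IsCodeM ω _ _; rw [ha]; exact isCodeM_C _
  have cb : IsCode ω b (packSym (eB (2, 0))) := by
    show IsCodeM ω _ _; rw [hb]; exact isCodeM_B _
  have cd : IsCode ω d (packSym (eD (1, 2))) := by
    show IsCodeM ω _ _; rw [hd]; exact isCodeM_D H.two H.om _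
  have ce : IsCode ω e (packSym (eE (1, 1))) := by
    show IsCodeM ω _ _; rw [he]; exact isCodeM_E H.two H.om _
  have cp : IsCode ω p (packSym (eA (0, 1))) := by
    show IsCodeM ω _ _; rw [hp]; exact isCodeM_A H.two H.om _
  have cq : IsCode ω q (packSym (eD (0, 1))) := by
    show IsCodeM ω _ _; rw [hq]; exact isCodeM_D H.two H.om _
  have ma : a ∈ Spor.threeJ3 F ω := mem_gens_C a (2, 0) (by decide) ha
  have mb : b ∈ Spor.threeJ3 F ω := mem_gens_B b (2, 0) (by decide) hb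
  have md : d ∈ Spor.threeJ3 F ω := mem_gens_D d (1, 2) hd
  have me : e ∈ Spor.threeJ3 F ω := mem_gens_E e (1, 1) he
  have mp : p ∈ Spor.threeJ3 F ω := mem_gens_A p (0, 1) hp
  have mq : q ∈ Spor.threeJ3 F ω := mem_gens_D q (0, 1) hq
  have e1 : (p : Matrix Spor.F9 Spor.F9 F) * (q : Matrix Spor.F9 Spor.F9 F) =
      (sym ω 2 • (1 : Matrix Spor.F9 Spor.F9 F)) *
        ((q : Matrix Spor.F9 Spor.F9 F) * (p : Matrix Spor.F9 Spor.F9 F)) := by
    refine IsCodeM.eq (IsCodeM.mul H.two H.om cp cq) ?_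
    rw [scal_comm]
    exact IsCodeM.mul H.two H.om (isCodeM_scal 2) (IsCodeM.mul H.two H.om cq cp)
  have e2 : ((p * q * p⁻¹ * q⁻¹ : GL Spor.F9 F) : Matrix Spor.F9 Spor.F9 F) =
      sym ω 2 • (1 : Matrix Spor.F9 Spor.F9 F) := by
    rw [Units.val_mul, Units.val_mul, Units.val_mul, e1, Matrix.smul_mul, one_mul,
      Matrix.smul_mul, Matrix.smul_mul, mul_assoc (q : Matrix Spor.F9 Spor.F9 F), Units.mul_inv,
      mul_one, Units.mul_inv]
  refine ⟨a * b, d * e, p * q * p⁻¹ * q⁻¹, mul_mem ma mb, mul_mem md me,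
    mul_mem (mul_mem (mul_mem mp mq) (inv_mem mp)) (inv_mem mq), ?_, ?_, ?_, e2⟩
  · rw [cX_eq]; exact IsCode.mul H.two H.om ca cb
  · rw [cY_eq]; exact IsCode.mul H.two H.om cd ce
  · show IsCodeM ω _ _
    rw [e2]; exact isCodeM_scal 2

/-- The first generator. -/
noncomputable def gx (H : Ctx ω) : GL Spor.F9 F := Classical.choose (exists_gens H)

/-- The second generator. -/
noncomputable def gy (H : Ctx ω) : GL Spor.F9 F :=
  Classical.choose (Classical.choose_spec (exists_gens H))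

/-- The scalar `ω`. -/
noncomputable def gz (H : Ctx ω) : GL Spor.F9 F :=
  Classical.choose (Classical.choose_spec (Classical.choose_spec (exists_gens H)))

theorem gens_spec (H : Ctx ω) : gx H ∈ Spor.threeJ3 F ω ∧ gy H ∈ Spor.threeJ3 F ω ∧
    gz H ∈ Spor.threeJ3 F ω ∧ IsCode ω (gx H) cX ∧ IsCode ω (gy H) cY ∧
    IsCode ω (gz H) (packSym (eScal 2)) ∧
    (gz H : Matrix Spor.F9 Spor.F9 F) = sym ω 2 • (1 : Matrix Spor.F9 Spor.F9 F) :=
  Classical.choose_spec (Classical.choose_spec (Classical.choose_spec (exists_gens H)))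

/-- Generator `g`. -/
noncomputable def gG (H : Ctx ω) (g : ℕ) : GL Spor.F9 F := if g = 0 then gx H else gy H

theorem isCode_gG (H : Ctx ω) (g : ℕ) : IsCode ω (gG H g) (gC g) := by
  unfold gG
  split_ifs with h
  · subst h; exact (gens_spec H).2.2.2.1
  · have : gC g = cY := by rw [gC, beq_false h]; rfl
    rw [this]; exact (gens_spec H).2.2.2.2.1

/-- The subgroup generated by the two generators and the scalar. -/
noncomputable def H3 (H : Ctx ω) : Subgroup (GL Spor.F9 F) :=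
  Subgroup.closure {gx H, gy H, gz H}

theorem gx_mem (H : Ctx ω) : gx H ∈ H3 H := Subgroup.subset_closure (by simp)
theorem gy_mem (H : Ctx ω) : gy H ∈ H3 H := Subgroup.subset_closure (by simp)
theorem gz_mem (H : Ctx ω) : gz H ∈ H3 H := Subgroup.subset_closure (by simp)

theorem gG_mem (H : Ctx ω) (g : ℕ) : gG H g ∈ H3 H := by
  unfold gG; split_ifs
  · exact gx_mem H
  · exact gy_mem H

theorem H3_le (H : Ctx ω) : H3 H ≤ Spor.threeJ3 F ω := by
  rw [H3, Subgroup.closure_le]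
  rintro g (rfl | rfl | rfl)
  · exact (gens_spec H).1
  · exact (gens_spec H).2.1
  · exact (gens_spec H).2.2.1

theorem gz_comm (H : Ctx ω) (g : GL Spor.F9 F) : gz H * g = g * gz H := by
  apply Units.ext
  rw [Units.val_mul, Units.val_mul, (gens_spec H).2.2.2.2.2.2, Matrix.smul_mul, Matrix.mul_smul,
    one_mul, mul_one]

/-- A scalar with index `t` in the stabiliser list. -/
theorem exists_scal (H : Ctx ω) {t : ℕ} (ht : isScalIdx t = true) :
    ∃ z : GL Spor.F9 F, z ∈ H3 H ∧ IsCode ω z (sC t) := by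
  simp only [isScalIdx, Bool.or_eq_true] at ht
  rcases ht with h | h | h
  · rw [Nat.eq_of_beq_eq_true h, sC_jId]; exact ⟨1, one_mem _, isCode_one⟩
  · rw [Nat.eq_of_beq_eq_true h, sC_jW]; exact ⟨gz H, gz_mem H, (gens_spec H).2.2.2.2.2.1⟩
  · rw [Nat.eq_of_beq_eq_true h, sC_jW2, ← scal_sq]
    exact ⟨gz H * gz H, mul_mem (gz_mem H) (gz_mem H),
      IsCode.mul H.two H.om (gens_spec H).2.2.2.2.2.1 (gens_spec H).2.2.2.2.2.1⟩

/-! ### The two lists -/

theorem exists_u (H : Ctx ω) : ∀ d i, i < 23256 → e16 j3Dep i = d →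
    ∃ g : GL Spor.F9 F, g ∈ H3 H ∧ IsCode ω g (uC i) := by
  intro d
  induction d using Nat.strong_induction_on with
  | _ d ih =>
    intro i hi hd
    by_cases hr : i = 0
    · subst hr; exact ⟨1, one_mem _, by rw [uC_root]; exact isCode_one⟩
    · obtain ⟨h1, h2, h3, h4, h5⟩ := chk5_spec hi hr
      obtain ⟨g, hg, hc⟩ := ih _ (hd ▸ h1) _ h2 rfl
      obtain ⟨z, hz, hzc⟩ := exists_scal H h5
      obtain ⟨_, _, k3⟩ := chk1_spec h3 h2
      rw [h4] at k3
      have e := IsCode.mul H.two H.om (isCode_gG H (e16 j3Gen i)) hc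
      rw [k3] at e
      exact ⟨gG H (e16 j3Gen i) * g * z⁻¹, mul_mem (mul_mem (gG_mem H _) hg) (inv_mem hz),
        isCode_mul_inv H e hzc⟩

/-- The transversal element with code `uC i`. -/
noncomputable def Ug (H : Ctx ω) (i : ℕ) : GL Spor.F9 F :=
  if h : i < 23256 then Classical.choose (exists_u H _ i h rfl) else 1

theorem Ug_mem (H : Ctx ω) (i : ℕ) : Ug H i ∈ H3 H := by
  unfold Ug
  split_ifs with h
  · exact (Classical.choose_spec (exists_u H _ i h rfl)).1
  · exact one_mem _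

theorem Ug_code (H : Ctx ω) {i : ℕ} (hi : i < 23256) : IsCode ω (Ug H i) (uC i) := by
  unfold Ug
  rw [dif_pos hi]
  exact (Classical.choose_spec (exists_u H _ i hi rfl)).2

theorem exists_h (H : Ctx ω) (h : ℕ) : ∃ g : GL Spor.F9 F, g ∈ H3 H ∧ IsCode ω g (hC h) := by
  have key : ∀ i t, i < 23256 → tauC 1 i = t →
      ∃ g : GL Spor.F9 F, g ∈ H3 H ∧ IsCode ω g (sC t) := by
    intro i t hi ht
    obtain ⟨k1, _, k3⟩ := chk1_spec (g := 1) (by norm_num) hi
    rw [ht] at k3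
    have e := IsCode.mul H.two H.om (isCode_gG H 1) (Ug_code H hi)
    rw [k3] at e
    exact ⟨(Ug H (sigC 1 i))⁻¹ * (gG H 1 * Ug H i),
      mul_mem (inv_mem (Ug_mem H _)) (mul_mem (gG_mem H 1) (Ug_mem H _)),
      isCode_inv_mul H e (Ug_code H k1)⟩
  by_cases hh : h = 0
  · subst hh
    exact key _ _ (Nat.le_of_ble_eq_true tau_wit1.1) tau_wit1.2
  · have : hC h = sC jH2 := by rw [hC, beq_false hh]; rfl
    rw [this]
    exact key _ _ (Nat.le_of_ble_eq_true tau_wit2.1) tau_wit2.2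

/-- Generator `h` of the stabiliser. -/
noncomputable def hG (H : Ctx ω) (h : ℕ) : GL Spor.F9 F := Classical.choose (exists_h H h)

theorem hG_mem (H : Ctx ω) (h : ℕ) : hG H h ∈ H3 H := (Classical.choose_spec (exists_h H h)).1

theorem hG_code (H : Ctx ω) (h : ℕ) : IsCode ω (hG H h) (hC h) :=
  (Classical.choose_spec (exists_h H h)).2

theorem exists_s (H : Ctx ω) : ∀ d j, j < 6480 → e16 j3DepS j = d →
    ∃ g : GL Spor.F9 F, g ∈ H3 H ∧ IsCode ω g (sC j) := by
  intro d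
  induction d using Nat.strong_induction_on with
  | _ d ih =>
    intro j hj hd
    by_cases hr : j = jId
    · subst hr; exact ⟨1, one_mem _, by rw [sC_jId]; exact isCode_one⟩
    · obtain ⟨h1, h2, h3, h4⟩ := chk6_spec hj hr
      obtain ⟨g, hg, hc⟩ := ih _ (hd ▸ h1) _ h2 rfl
      obtain ⟨_, k2⟩ := chk2_spec h3 h2
      rw [h4] at k2
      have e := IsCode.mul H.two H.om (hG_code H (e16 j3GenS j)) hc
      rw [k2] at e
      exact ⟨hG H (e16 j3GenS j) * g, mul_mem (hG_mem H _) hg, e⟩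

/-- The stabiliser element with code `sC j`. -/
noncomputable def Sg (H : Ctx ω) (j : ℕ) : GL Spor.F9 F :=
  if h : j < 6480 then Classical.choose (exists_s H _ j h rfl) else 1

theorem Sg_mem (H : Ctx ω) (j : ℕ) : Sg H j ∈ H3 H := by
  unfold Sg
  split_ifs with h
  · exact (Classical.choose_spec (exists_s H _ j h rfl)).1
  · exact one_mem _

theorem Sg_code (H : Ctx ω) {j : ℕ} (hj : j < 6480) : IsCode ω (Sg H j) (sC j) := by
  unfold Sg
  rw [dif_pos hj]
  exact (Classical.choose_spec (exists_s H _ j hj rfl)).2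

theorem Ug_root (H : Ctx ω) : Ug H 0 = 1 :=
  IsCode.eq (Ug_code H (by norm_num)) (by rw [uC_root]; exact isCode_one)

theorem Sg_one (H : Ctx ω) : Sg H jId = 1 :=
  IsCode.eq (Sg_code H (by decide)) (by rw [sC_jId]; exact isCode_one)

theorem Sg_jW (H : Ctx ω) : Sg H jW = gz H :=
  IsCode.eq (Sg_code H (by decide)) (by rw [sC_jW]; exact (gens_spec H).2.2.2.2.2.1)

theorem hG_mul_Sg (H : Ctx ω) {h j : ℕ} (hh : h < 2) (hj : j < 6480) :
    hG H h * Sg H j = Sg H (mC h j) := by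
  obtain ⟨k1, k2⟩ := chk2_spec hh hj
  have e := IsCode.mul H.two H.om (hG_code H h) (Sg_code H hj)
  rw [k2] at e
  exact IsCode.eq e (Sg_code H k1)

/-- The stabiliser list is closed under multiplication. -/
theorem Sg_mul (H : Ctx ω) : ∀ d a, a < 6480 → e16 j3DepS a = d → ∀ b, b < 6480 →
    ∃ c, c < 6480 ∧ Sg H a * Sg H b = Sg H c := by
  intro d
  induction d using Nat.strong_induction_on with
  | _ d ih =>
    intro a ha hd b hb
    by_cases hr : a = jId
    · subst hr; exact ⟨b, hb, by rw [Sg_one, one_mul]⟩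
    · obtain ⟨h1, h2, h3, h4⟩ := chk6_spec ha hr
      obtain ⟨c, hc, e⟩ := ih _ (hd ▸ h1) _ h2 rfl b hb
      have e1 : Sg H a = hG H (e16 j3GenS a) * Sg H (e16 j3ParS a) := by
        rw [hG_mul_Sg H h3 h2, h4]
      refine ⟨mC (e16 j3GenS a) c, (chk2_spec h3 hc).1, ?_⟩
      rw [e1, mul_assoc, e, hG_mul_Sg H h3 hc]

theorem Sg_mul' (H : Ctx ω) {a b : ℕ} (ha : a < 6480) (hb : b < 6480) :
    ∃ c, c < 6480 ∧ Sg H a * Sg H b = Sg H c := Sg_mul H _ a ha rfl b hb

/-- The set of products of the two lists. -/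
def setR (H : Ctx ω) : Set (GL Spor.F9 F) :=
  {g | ∃ i j, i < 23256 ∧ j < 6480 ∧ g = Ug H i * Sg H j}

theorem gG_mul_R (H : Ctx ω) {g i j : ℕ} (hg : g < 2) (hi : i < 23256) (hj : j < 6480) :
    gG H g * (Ug H i * Sg H j) ∈ setR H := by
  obtain ⟨h1, h2, h3⟩ := chk1_spec hg hi
  have e1 : gG H g * Ug H i = Ug H (sigC g i) * Sg H (tauC g i) := by
    have a := IsCode.mul H.two H.om (isCode_gG H g) (Ug_code H hi)
    rw [h3] at a
    exact IsCode.eq a (IsCode.mul H.two H.om (Ug_code H h1) (Sg_code H h2))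
  obtain ⟨c, hc, e⟩ := Sg_mul' H h2 hj
  exact ⟨_, c, h1, hc, by rw [← mul_assoc, e1, mul_assoc, e]⟩

theorem setR_finite (H : Ctx ω) : (setR H).Finite := by
  refine Set.Finite.subset (((Set.finite_Iio 23256).prod (Set.finite_Iio 6480)).image
    (fun p : ℕ × ℕ => Ug H p.1 * Sg H p.2)) ?_
  rintro g ⟨i, j, hi, hj, rfl⟩
  exact ⟨(i, j), ⟨hi, hj⟩, rfl⟩

theorem H3_sub (H : Ctx ω) {g : GL Spor.F9 F} (hg : g ∈ H3 H) : g ∈ setR H := by
  have hstab : H3 H ≤ MulAction.stabilizer (GL Spor.F9 F) (setR H) := by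
    rw [H3, Subgroup.closure_le]
    intro g hg
    rw [SetLike.mem_coe, MulAction.mem_stabilizer_set' (setR_finite H)]
    rintro t ⟨i, j, hi, hj, rfl⟩
    rcases hg with rfl | rfl | hg
    · have := gG_mul_R H (g := 0) (by norm_num) hi hj
      rwa [gG, if_pos rfl] at this
    · have := gG_mul_R H (g := 1) (by norm_num) hi hj
      rwa [gG, if_neg (by norm_num)] at this
    · rw [Set.mem_singleton_iff] at hg
      subst hg
      obtain ⟨c, hc, e⟩ := Sg_mul' H (show jW < 6480 by decide) hj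
      refine ⟨i, c, hi, hc, ?_⟩
      rw [smul_eq_mul, ← mul_assoc, gz_comm, mul_assoc, ← Sg_jW, e]
  have h := hstab hg
  rw [MulAction.mem_stabilizer_set' (setR_finite H)] at h
  have h1 : (1 : GL Spor.F9 F) ∈ setR H :=
    ⟨0, jId, by norm_num, by decide, by rw [Ug_root, Sg_one, one_mul]⟩
  have h2 := h h1
  rwa [smul_eq_mul, mul_one] at h2

theorem setR_sub (H : Ctx ω) {g : GL Spor.F9 F} (hg : g ∈ setR H) : g ∈ H3 H := by
  obtain ⟨i, j, _, _, rfl⟩ := hg
  exact mul_mem (Ug_mem H i) (Sg_mem H j)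

/-- A generating matrix with code `genCode t` lies in `H3`. -/
theorem gen_mem (H : Ctx ω) (g : GL Spor.F9 F) {t : ℕ} (ht : t < 45) (h27 : t ≠ 27)
    (h36 : t ≠ 36) (hc : IsCode ω g (genCode t)) : g ∈ H3 H := by
  obtain ⟨h1, h2, h3⟩ := chk7_spec ht h27 h36
  rw [h3] at hc
  rw [IsCode.eq hc (IsCode.mul H.two H.om (Ug_code H h1) (Sg_code H h2))]
  exact mul_mem (Ug_mem H _) (Sg_mem H _)

theorem genCode_eq (f : ℕ) (Z : Spor.F9) : genCode (9 * f + ix Z) = packSym (famE f Z) := by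
  have h := ix_lt Z
  rw [genCode, show (9 * f + ix Z) / 9 = f by omega, show (9 * f + ix Z) % 9 = ix Z by omega,
    un_ix]

theorem ix_ne_zero {Z : Spor.F9} (hZ : Z ≠ 0) : ix Z ≠ 0 := fun e =>
  hZ (ix_inj (e.trans ix_zero.symm))

/-- The triple cover is generated by the two generators and the scalar. -/
theorem threeJ3_eq (H : Ctx ω) : Spor.threeJ3 F ω = H3 H := by
  refine le_antisymm ?_ (H3_le H)
  rw [Spor.threeJ3, Subgroup.closure_le]
  intro g hg
  have hZ := fun Z : Spor.F9 => ix_lt Z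
  rcases hg with (((⟨Z, hZg⟩ | ⟨Z, hZg⟩) | ⟨Z, hZg⟩) | ⟨Z, hZ0, hZg⟩) | ⟨Z, hZ0, hZg⟩
  · refine gen_mem H g (t := 9 * 0 + ix Z) (by have := hZ Z; omega) (by have := hZ Z; omega)
      (by have := hZ Z; omega) ?_
    rw [genCode_eq]; show IsCodeM ω _ _; rw [← hZg]; exact isCodeM_A H.two H.om Z
  · refine gen_mem H g (t := 9 * 1 + ix Z) (by have := hZ Z; omega) (by have := hZ Z; omega)
      (by have := hZ Z; omega) ?_
    rw [genCode_eq]; show IsCodeM ω _ _; rw [← hZg]; exact isCodeM_E H.two H.om Z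
  · refine gen_mem H g (t := 9 * 2 + ix Z) (by have := hZ Z; omega) (by have := hZ Z; omega)
      (by have := hZ Z; omega) ?_
    rw [genCode_eq]; show IsCodeM ω _ _; rw [← hZg]; exact isCodeM_D H.two H.om Z
  · refine gen_mem H g (t := 9 * 3 + ix Z) (by have := hZ Z; omega)
      (by have := ix_ne_zero hZ0; omega) (by have := hZ Z; omega) ?_
    rw [genCode_eq]; show IsCodeM ω _ _; rw [hZg]; exact isCodeM_B Z
  · refine gen_mem H g (t := 9 * 4 + ix Z) (by have := hZ Z; omega) (by have := hZ Z; omega)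
      (by have := ix_ne_zero hZ0; omega) ?_
    rw [genCode_eq]; show IsCodeM ω _ _; rw [hZg]; exact isCodeM_C Z

/-- Every element of the triple cover is a product of the two lists. -/
theorem coords (H : Ctx ω) {g : GL Spor.F9 F} (hg : g ∈ Spor.threeJ3 F ω) :
    ∃ i j, i < 23256 ∧ j < 6480 ∧ g = Ug H i * Sg H j := by
  rw [threeJ3_eq H] at hg
  exact H3_sub H hg

theorem Ug_mem3 (H : Ctx ω) (i : ℕ) : Ug H i ∈ Spor.threeJ3 F ω := H3_le H (Ug_mem H i)

theorem Sg_mem3 (H : Ctx ω) (j : ℕ) : Sg H j ∈ Spor.threeJ3 F ω := H3_le H (Sg_mem H j)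

/-! ### Uniqueness of the coordinates -/

theorem skC_strict : ∀ j i, i < j → j < 23256 → skC (uC i) < skC (uC j) := by
  intro j
  induction j with
  | zero => intro i h; omega
  | succ j ih =>
    intro i hi hj
    have h1 := (chk4_spec (i := j) (by omega)).2 (by omega)
    rcases Nat.lt_succ_iff_lt_or_eq.mp hi with h | h
    · exact lt_trans (ih i h (by omega)) h1
    · subst h; exact h1

theorem sC_strict : ∀ j i, i < j → j < 6480 → sC i < sC j := by
  intro j
  induction j with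
  | zero => intro i h; omega
  | succ j ih =>
    intro i hi hj
    have h1 := (chk3_spec (j := j) (by omega)).2.2 (by omega)
    rcases Nat.lt_succ_iff_lt_or_eq.mp hi with h | h
    · exact lt_trans (ih i h (by omega)) h1
    · subst h; exact h1

/-- The first column of a stabiliser element. -/
theorem Sg_col (H : Ctx ω) {j : ℕ} (hj : j < 6480) :
    (Sg H j : Matrix Spor.F9 Spor.F9 F) 0 0 ≠ 0 ∧
      ∀ w, w ≠ 0 → (Sg H j : Matrix Spor.F9 Spor.F9 F) w 0 = 0 :=
  col_of_unitKey H.two H.om (Sg_code H hj) (chk3_spec hj).1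

/-- The first row of a stabiliser element. -/
theorem Sg_row (H : Ctx ω) {j : ℕ} (hj : j < 6480) :
    ∀ z, z ≠ 0 → (Sg H j : Matrix Spor.F9 Spor.F9 F) 0 z = 0 :=
  row_of_unitKey H.two H.om (Sg_code H hj) (chk3_spec hj).2.1

/-- The first column of a product of the two lists. -/
theorem col_mul_Sg (H : Ctx ω) (M : Matrix Spor.F9 Spor.F9 F) {j : ℕ} (hj : j < 6480)
    (w : Spor.F9) : (M * (Sg H j : Matrix Spor.F9 Spor.F9 F)) w 0 =
      M w 0 * (Sg H j : Matrix Spor.F9 Spor.F9 F) 0 0 := by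
  rw [Matrix.mul_apply]
  refine Finset.sum_eq_single 0 (fun u _ hu => ?_) (fun h => absurd (Finset.mem_univ _) h)
  rw [(Sg_col H hj).2 u hu, mul_zero]

theorem U_inj (H : Ctx ω) {i j i' j' : ℕ} (hi : i < 23256) (hj : j < 6480) (hi' : i' < 23256)
    (hj' : j' < 6480) (h : Ug H i * Sg H j = Ug H i' * Sg H j') : i = i' ∧ j = j' := by
  have hm : (Ug H i : Matrix Spor.F9 Spor.F9 F) * (Sg H j : Matrix Spor.F9 Spor.F9 F) =
      (Ug H i' : Matrix Spor.F9 Spor.F9 F) * (Sg H j' : Matrix Spor.F9 Spor.F9 F) := by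
    rw [← Units.val_mul, ← Units.val_mul, h]
  have ha := (Sg_col H hj).1
  have ha' := (Sg_col H hj').1
  have e1 : ∀ w, (Ug H i : Matrix Spor.F9 Spor.F9 F) w 0 =
      ((Sg H j' : Matrix Spor.F9 Spor.F9 F) 0 0 / (Sg H j : Matrix Spor.F9 Spor.F9 F) 0 0) *
        (Ug H i' : Matrix Spor.F9 Spor.F9 F) w 0 := fun w => by
    have := congrFun (congrFun hm w) 0
    rw [col_mul_Sg H _ hj, col_mul_Sg H _ hj'] at this
    field_simp
    linear_combination this
  have n1 := normVec_of_normOK (Ug_code H hi) (chk4_spec hi).1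
  have n2 := normVec_of_normOK (Ug_code H hi') (chk4_spec hi').1
  have e2 := NormVec.eq_one n1 n2 (div_ne_zero ha' ha) e1
  have e3 : skC (uC i) = skC (uC i') :=
    skC_eq_of_col H.two H.om (Ug_code H hi) (Ug_code H hi') (fun w => by rw [e1 w, e2, one_mul])
  have hii : i = i' := by
    rcases lt_trichotomy i i' with h1 | h1 | h1
    · exact absurd e3 (ne_of_lt (skC_strict i' i h1 hi'))
    · exact h1
    · exact absurd e3.symm (ne_of_lt (skC_strict i i' h1 hi))
  subst hii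
  refine ⟨rfl, ?_⟩
  have e4 : Sg H j = Sg H j' := mul_left_cancel h
  have e5 : sC j = sC j' := by
    have a := Sg_code H hj
    rw [e4] at a
    exact IsCodeM.code_eq H.two H.om a (Sg_code H hj') (sC_lt _) (sC_lt _)
  rcases lt_trichotomy j j' with h1 | h1 | h1
  · exact absurd e5 (ne_of_lt (sC_strict j' j h1 hj'))
  · exact h1
  · exact absurd e5.symm (ne_of_lt (sC_strict j j' h1 hj))

/-- The order of the triple cover of `J₃`. -/
theorem card_threeJ3 (H : Ctx ω) : Nat.card ↥(Spor.threeJ3 F ω) = 150698880 := by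
  let f : Fin 23256 × Fin 6480 → ↥(Spor.threeJ3 F ω) := fun p =>
    ⟨Ug H p.1 * Sg H p.2, mul_mem (Ug_mem3 H _) (Sg_mem3 H _)⟩
  have hf : Function.Bijective f := by
    constructor
    · rintro ⟨a, c⟩ ⟨a', c'⟩ h
      have h' : Ug H a * Sg H c = Ug H a' * Sg H c' := congrArg Subtype.val h
      obtain ⟨h1, h2⟩ := U_inj H a.2 c.2 a'.2 c'.2 h'
      exact Prod.ext (Fin.ext h1) (Fin.ext h2)
    · rintro ⟨g, hg⟩
      obtain ⟨i, j, hi, hj, rfl⟩ := coords H hg
      exact ⟨(⟨i, hi⟩, ⟨j, hj⟩), rfl⟩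
  rw [← Nat.card_congr (Equiv.ofBijective f hf), Nat.card_prod, Nat.card_fin, Nat.card_fin]

end

end Cfsg.Agent.Helper7.J3
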