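/-
Helper7 library: the kernel-checked certificates for the simplicity of the Janko group `J₃`, put
together: statements about all indices.
-/
import Cfsg.Agent.Helper7.J3Chk8a
import Cfsg.Agent.Helper7.J3Chk8b
import Cfsg.Agent.Helper7.J3Chk8c
import Cfsg.Agent.Helper7.J3Chk8d
import Cfsg.Agent.Helper7.J3Chk9
import Cfsg.Agent.Helper7.J3Order

set_option autoImplicit false

namespace Cfsg.Agent.Helper7.J3

open Cfsg

theorem chk8_all0 (i : ℕ) (hi : i < 23256) : chk8 0 i = true := by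
  refine rg_cover (chk8 0) 10 23 (fun k hk => ?_) i (by norm_num; omega)
  interval_cases k
  · exact chk8_0_0
  · exact chk8_0_1
  · exact chk8_0_2
  · exact chk8_0_3
  · exact chk8_0_4
  · exact chk8_0_5
  · exact chk8_0_6
  · exact chk8_0_7
  · exact chk8_0_8
  · exact chk8_0_9
  · exact chk8_0_10
  · exact chk8_0_11
  · exact chk8_0_12
  · exact chk8_0_13
  · exact chk8_0_14
  · exact chk8_0_15
  · exact chk8_0_16
  · exact chk8_0_17
  · exact chk8_0_18
  · exact chk8_0_19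
  · exact chk8_0_20
  · exact chk8_0_21
  · exact chk8_0_22

theorem chk8_all1 (i : ℕ) (hi : i < 23256) : chk8 1 i = true := by
  refine rg_cover (chk8 1) 10 23 (fun k hk => ?_) i (by norm_num; omega)
  interval_cases k
  · exact chk8_1_0
  · exact chk8_1_1
  · exact chk8_1_2
  · exact chk8_1_3
  · exact chk8_1_4
  · exact chk8_1_5
  · exact chk8_1_6
  · exact chk8_1_7
  · exact chk8_1_8
  · exact chk8_1_9
  · exact chk8_1_10
  · exact chk8_1_11
  · exact chk8_1_12
  · exact chk8_1_13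
  · exact chk8_1_14
  · exact chk8_1_15
  · exact chk8_1_16
  · exact chk8_1_17
  · exact chk8_1_18
  · exact chk8_1_19
  · exact chk8_1_20
  · exact chk8_1_21
  · exact chk8_1_22

theorem chk9_all (i : ℕ) (hi : i < 23256) : chk9 i = true := by
  refine rg_cover (chk9) 11 12 (fun k hk => ?_) i (by norm_num; omega)
  interval_cases k
  · exact chk9_0
  · exact chk9_1
  · exact chk9_2
  · exact chk9_3
  · exact chk9_4
  · exact chk9_5
  · exact chk9_6
  · exact chk9_7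
  · exact chk9_8
  · exact chk9_9
  · exact chk9_10
  · exact chk9_11

theorem chk10_all (i : ℕ) (hi : i < 32) : chk10 i = true := by
  refine rg_cover (chk10) 2 8 (fun k hk => ?_) i (by norm_num; omega)
  interval_cases k
  · exact chk10_0
  · exact chk10_1
  · exact chk10_2
  · exact chk10_3
  · exact chk10_4
  · exact chk10_5
  · exact chk10_6
  · exact chk10_7

theorem chk11_all (i : ℕ) (hi : i < 6480) : chk11 i = true := by
  refine rg_cover (chk11) 11 4 (fun k hk => ?_) i (by norm_num; omega)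
  interval_cases k
  · exact chk11_0
  · exact chk11_1
  · exact chk11_2
  · exact chk11_3

theorem chk8_spec {h i : ℕ} (hh : h < 2) (hi : i < 23256) :
    sgC h i < 23256 ∧ tgC h i < 6480 ∧
      mulC (hC h) (uC i) = mulC (uC (sgC h i)) (sC (tgC h i)) := by
  have h' : chk8 h i = true := by
    have hh' : h = 0 ∨ h = 1 := by omega
    rcases hh' with rfl | rfl
    · exact chk8_all0 i hi
    · exact chk8_all1 i hi
  rw [chk8, ble_false hi, Bool.false_or, Bool.and_eq_true, Bool.and_eq_true, mulF_eq, mulF_eq]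
    at h'
  exact ⟨Nat.le_of_ble_eq_true h'.1, Nat.le_of_ble_eq_true h'.2.1, Nat.eq_of_beq_eq_true h'.2.2⟩

theorem chk9_spec {i : ℕ} (hi : i < 23256) : labC i < 28 ∧ (i = e16 j3ORep (labC i) ∨
    (e16 j3ODep (e16 j3OPar i) < e16 j3ODep i ∧ e16 j3OPar i < 23256 ∧ e16 j3OGen i < 2 ∧
      sgC (e16 j3OGen i) (e16 j3OPar i) = i ∧ labC (e16 j3OPar i) = labC i)) := by
  have h := chk9_all i hi
  rw [chk9, ble_false hi, Bool.false_or, Bool.and_eq_true, Bool.or_eq_true] at h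
  refine ⟨Nat.le_of_ble_eq_true h.1, ?_⟩
  rcases h.2 with h2 | h2
  · exact Or.inl (Nat.eq_of_beq_eq_true h2)
  · rw [Bool.and_eq_true, Bool.and_eq_true, Bool.and_eq_true, Bool.and_eq_true] at h2
    exact Or.inr ⟨Nat.le_of_ble_eq_true h2.1, Nat.le_of_ble_eq_true h2.2.1,
      Nat.le_of_ble_eq_true h2.2.2.1, Nat.eq_of_beq_eq_true h2.2.2.2.1,
      Nat.eq_of_beq_eq_true h2.2.2.2.2⟩

theorem chk10_spec {l : ℕ} (hl : l < 32) : cntL l = e16 j3Sz l :=
  Nat.eq_of_beq_eq_true (chk10_all l hl)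

theorem chk10b_spec {l : ℕ} (h3 : 3 ≤ l) (hl : l < 28) :
    e16 j3Sz l % 180 = 0 ∧ 0 < e16 j3Sz l := by
  have h := rgAll_spec _ _ _ chk10b_a l (by omega) (by norm_num; omega)
  rw [chk10b, ble_false (show 2 < l by omega), ble_false hl, Bool.false_or, Bool.false_or,
    Bool.and_eq_true] at h
  exact ⟨Nat.eq_of_beq_eq_true h.1, Nat.le_of_ble_eq_true h.2⟩

theorem chk11_spec {j : ℕ} (hj : j < 6480) (hs : isScalIdx j = false) :
    e16 j3Wi j < 23256 ∧ e16 j3Wi2 j < 23256 ∧ e16 j3Wj j < 6480 ∧ e16 j3Wi j ≠ e16 j3Wi2 j ∧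
      mulC (sC j) (uC (e16 j3Wi j)) = mulC (uC (e16 j3Wi2 j)) (sC (e16 j3Wj j)) := by
  have h := chk11_all j hj
  rw [chk11, ble_false hj, hs, Bool.false_or, Bool.false_or, Bool.and_eq_true, Bool.and_eq_true,
    Bool.and_eq_true, Bool.and_eq_true, mulF_eq, mulF_eq] at h
  refine ⟨Nat.le_of_ble_eq_true h.1, Nat.le_of_ble_eq_true h.2.1, Nat.le_of_ble_eq_true h.2.2.1,
    fun e => ?_, Nat.eq_of_beq_eq_true h.2.2.2.2⟩
  have h4 := h.2.2.2.1
  rw [e, Nat.beq_refl] at h4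
  exact Bool.false_ne_true h4

theorem rgCnt_spec (p : ℕ → Bool) (d s : ℕ) :
    rgCnt p d s = ((Finset.Ico s (s + 2 ^ d)).filter (fun i => p i = true)).card := by
  induction d generalizing s with
  | zero =>
    have e : Finset.Ico s (s + 2 ^ 0) = {s} := by
      ext i; simp only [Finset.mem_Ico, Finset.mem_singleton]; omega
    rw [e, Finset.filter_singleton]
    show (bif p s then 1 else 0) = _
    cases p s <;> simp
  | succ d ih =>
    have e : Finset.Ico s (s + 2 ^ (d + 1)) =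
        Finset.Ico s (s + 2 ^ d) ∪ Finset.Ico (s + 2 ^ d) (s + 2 ^ d + 2 ^ d) := by
      rw [Finset.Ico_union_Ico_eq_Ico (Nat.le_add_right _ _) (Nat.le_add_right _ _)]
      congr 1; rw [pow_succ]; omega
    have hd : Disjoint (Finset.Ico s (s + 2 ^ d)) (Finset.Ico (s + 2 ^ d) (s + 2 ^ d + 2 ^ d)) :=
      Finset.Ico_disjoint_Ico_consecutive _ _ _
    rw [e, Finset.filter_union, Finset.card_union_of_disjoint
      (Finset.disjoint_filter_filter hd), ← ih, ← ih]
    rfl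

theorem cntL_eq (l : ℕ) :
    cntL l = ((Finset.range 23256).filter (fun i => labC i = l)).card := by
  have h := rgCnt_spec (fun i => Nat.blt i 23256 && Nat.beq (labC i) l) 15 0
  have e : cntL l = rgCnt (fun i => Nat.blt i 23256 && Nat.beq (labC i) l) 15 0 := rfl
  refine e.trans (h.trans (congrArg Finset.card ?_))
  ext i
  simp only [Finset.mem_filter, Finset.mem_Ico, Finset.mem_range, Bool.and_eq_true]
  constructor
  · rintro ⟨_, h1, h2⟩
    exact ⟨Nat.le_of_ble_eq_true h1, Nat.eq_of_beq_eq_true h2⟩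
  · rintro ⟨h1, h2⟩
    refine ⟨⟨Nat.zero_le _, by omega⟩, Nat.ble_eq_true_of_le h1, ?_⟩
    rw [h2]; exact Nat.beq_refl l

theorem pow19C_eq (c : ℕ) : pow19C c = mulC (mulC (mulC (mulC (mulC (mulC c c) (mulC c c))
    (mulC (mulC c c) (mulC c c))) (mulC (mulC (mulC c c) (mulC c c)) (mulC (mulC c c) (mulC c c))))
    (mulC c c)) c := by
  simp only [pow19C, natLetN_eq, mulF_eq]

theorem w135_spec : ∃ b c d j l, b < 23256 ∧ c < 23256 ∧ d < 23256 ∧ j < 6480 ∧ 3 ≤ l ∧ l < 28 ∧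
    labC b = 2 ∧ labC c = 2 ∧ labC d = l ∧ mulC (uC b) (uC c) = mulC (uC d) (sC j) := by
  obtain ⟨h1, h2, h3, h4⟩ := w135
  rw [mulF_eq, mulF_eq] at h4
  exact ⟨1976, 1976, 6849, 1501, 11, by norm_num, by norm_num, by norm_num, by norm_num, by norm_num,
    by norm_num, h1, h2, h3, h4⟩

theorem e19_x_spec : ∃ i1 j1 i2 j2, i1 < 23256 ∧ j1 < 6480 ∧ i2 < 23256 ∧ j2 < 6480 ∧
    pow19C (mulC (uC i1) (sC j1)) = idC ∧ pow19C (mulC (uC i2) (sC j2)) = idC ∧
    mulC (mulC (uC i1) (sC j1)) (mulC (uC i2) (sC j2)) = cX := by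
  obtain ⟨h1, h2, h3⟩ := e19_x
  simp only [usC, mulF_eq] at h1 h2 h3
  exact ⟨20801, 6073, 5442, 2616, by norm_num, by norm_num, by norm_num, by norm_num, h1, h2, h3⟩

theorem e19_y_spec : ∃ i1 j1 i2 j2, i1 < 23256 ∧ j1 < 6480 ∧ i2 < 23256 ∧ j2 < 6480 ∧
    pow19C (mulC (uC i1) (sC j1)) = idC ∧ pow19C (mulC (uC i2) (sC j2)) = idC ∧
    mulC (mulC (uC i1) (sC j1)) (mulC (uC i2) (sC j2)) = cY := by
  obtain ⟨h1, h2, h3⟩ := e19_y
  simp only [usC, mulF_eq] at h1 h2 h3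
  exact ⟨16234, 3902, 21048, 3911, by norm_num, by norm_num, by norm_num, by norm_num, h1, h2, h3⟩

theorem e19_z_spec : ∃ i1 j1 i2 j2 i3 j3, i1 < 23256 ∧ j1 < 6480 ∧ i2 < 23256 ∧ j2 < 6480 ∧ i3 < 23256 ∧
    j3 < 6480 ∧ pow19C (mulC (uC i1) (sC j1)) = idC ∧ pow19C (mulC (uC i2) (sC j2)) = idC ∧
    pow19C (mulC (uC i3) (sC j3)) = idC ∧
    mulC (mulC (mulC (uC i1) (sC j1)) (mulC (uC i2) (sC j2))) (mulC (uC i3) (sC j3)) =
      packSym (eScal 2) := by
  obtain ⟨h1, h2, h3, h4⟩ := e19_z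
  simp only [usC, mulF_eq] at h1 h2 h3 h4
  exact ⟨4467, 5506, 9442, 2363, 8607, 3049, by norm_num, by norm_num, by norm_num, by norm_num,
    by norm_num, by norm_num, h1, h2, h3, h4⟩

theorem xy_ne' : mulC cX cY ≠ mulC cY cX := by
  have h := xy_ne
  rwa [mulF_eq, mulF_eq] at h

theorem scal_cube' : mulC (packSym (eScal 2)) (packSym (eScal 3)) = idC := by
  have h := scal_cube
  rwa [mulF_eq] at h

end Cfsg.Agent.Helper7.J3
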