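/-
Helper7 library: a subgroup of the triple cover `3·J₃` normalised by it either lies in the
stabiliser of a line or meets every one of the 23256 cosets of that stabiliser (the action on the
cosets is primitive).
-/
import Cfsg.Agent.Helper7.J3Checks2

set_option autoImplicit false

namespace Cfsg.Agent.Helper7.J3

open Cfsg

section
variable {F : Type*} [Field F] {ω : F}

theorem Sg_inj (H : Ctx ω) {a b : ℕ} (ha : a < 6480) (hb : b < 6480) (h : Sg H a = Sg H b) :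
    a = b :=
  (U_inj H (i := 0) (i' := 0) (by norm_num) ha (by norm_num) hb (by rw [h])).2

/-- The stabiliser of the line, as a subgroup. -/
noncomputable def SS (H : Ctx ω) : Subgroup (GL Spor.F9 F) where
  carrier := {g | ∃ j, j < 6480 ∧ g = Sg H j}
  mul_mem' := by
    rintro _ _ ⟨a, ha, rfl⟩ ⟨b, hb, rfl⟩
    obtain ⟨c, hc, e⟩ := Sg_mul' H ha hb
    exact ⟨c, hc, e⟩
  one_mem' := ⟨jId, by decide, (Sg_one H).symm⟩
  inv_mem' := by
    rintro _ ⟨a, ha, rfl⟩
    let f : Fin 6480 → Fin 6480 := fun b =>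
      ⟨Classical.choose (Sg_mul' H ha b.2), (Classical.choose_spec (Sg_mul' H ha b.2)).1⟩
    have hf : ∀ b : Fin 6480, Sg H a * Sg H b = Sg H (f b) := fun b =>
      (Classical.choose_spec (Sg_mul' H ha b.2)).2
    have hinj : Function.Injective f := by
      intro b b' e
      have e' : Sg H a * Sg H b = Sg H a * Sg H b' := by rw [hf, hf, e]
      exact Fin.ext (Sg_inj H b.2 b'.2 (mul_left_cancel e'))
    obtain ⟨b, hb⟩ := (Finite.injective_iff_surjective.mp hinj) ⟨jId, by decide⟩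
    have e : Sg H a * Sg H b = 1 := by rw [hf b, hb]; exact Sg_one H
    exact ⟨b, b.2, inv_eq_of_mul_eq_one_right e⟩

theorem Sg_mem_SS (H : Ctx ω) {j : ℕ} (hj : j < 6480) : Sg H j ∈ SS H := ⟨j, hj, rfl⟩

theorem SS_le (H : Ctx ω) : SS H ≤ Spor.threeJ3 F ω := by
  rintro _ ⟨j, _, rfl⟩; exact Sg_mem3 H j

theorem hG_mem_SS (H : Ctx ω) (h : ℕ) : hG H h ∈ SS H := by
  by_cases hh : h = 0
  · subst hh
    exact ⟨jH1, by decide, IsCode.eq (hG_code H 0) (Sg_code H (by decide))⟩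
  · refine ⟨jH2, by decide, IsCode.eq ?_ (Sg_code H (by decide))⟩
    have : hC h = sC jH2 := by rw [hC, beq_false hh]; rfl
    rw [← this]; exact hG_code H h

theorem hG_mul_Ug (H : Ctx ω) {h i : ℕ} (hh : h < 2) (hi : i < 23256) :
    hG H h * Ug H i = Ug H (sgC h i) * Sg H (tgC h i) := by
  obtain ⟨h1, h2, h3⟩ := chk8_spec hh hi
  have a := IsCode.mul H.two H.om (hG_code H h) (Ug_code H hi)
  rw [h3] at a
  exact IsCode.eq a (IsCode.mul H.two H.om (Ug_code H h1) (Sg_code H h2))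

/-- A subgroup of the triple cover normalised by it. -/
structure NormSub (ω : F) (N : Subgroup (GL Spor.F9 F)) : Prop where
  le : N ≤ Spor.threeJ3 F ω
  conj : ∀ g ∈ Spor.threeJ3 F ω, ∀ n ∈ N, g * n * g⁻¹ ∈ N

/-- Coset `i` of the stabiliser meets `N`. -/
def inB (H : Ctx ω) (N : Subgroup (GL Spor.F9 F)) (i : ℕ) : Prop := ∃ s ∈ SS H, Ug H i * s ∈ N

theorem inB_zero (H : Ctx ω) (N : Subgroup (GL Spor.F9 F)) : inB H N 0 :=
  ⟨1, one_mem _, by rw [Ug_root, mul_one]; exact one_mem _⟩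

theorem inB_fwd (H : Ctx ω) {N : Subgroup (GL Spor.F9 F)} (hN : NormSub ω N)
    {g : GL Spor.F9 F} (hg : g ∈ SS H) {i i' : ℕ} {s' : GL Spor.F9 F} (hs' : s' ∈ SS H)
    (e : g * Ug H i = Ug H i' * s') (hi : inB H N i) : inB H N i' := by
  obtain ⟨s, hs, hn⟩ := hi
  refine ⟨s' * s * g⁻¹, mul_mem (mul_mem hs' hs) (inv_mem hg), ?_⟩
  have h1 := hN.conj g (SS_le H hg) _ hn
  have e2 : g * (Ug H i * s) * g⁻¹ = Ug H i' * (s' * s * g⁻¹) := by
    rw [← mul_assoc g, e]; simp only [mul_assoc]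
  rwa [e2] at h1

theorem inB_bwd (H : Ctx ω) {N : Subgroup (GL Spor.F9 F)} (hN : NormSub ω N)
    {g : GL Spor.F9 F} (hg : g ∈ SS H) {i i' : ℕ} {s' : GL Spor.F9 F} (hs' : s' ∈ SS H)
    (e : g * Ug H i = Ug H i' * s') (hi : inB H N i') : inB H N i := by
  obtain ⟨s, hs, hn⟩ := hi
  refine ⟨s'⁻¹ * s * g, mul_mem (mul_mem (inv_mem hs') hs) hg, ?_⟩
  have h1 := hN.conj g⁻¹ (inv_mem (SS_le H hg)) _ hn
  have e1 : Ug H i = g⁻¹ * Ug H i' * s' := by rw [mul_assoc, ← e, inv_mul_cancel_left]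
  have e2 : g⁻¹ * (Ug H i' * s) * g⁻¹⁻¹ = Ug H i * (s'⁻¹ * s * g) := by
    rw [e1, inv_inv]; simp only [mul_assoc, mul_inv_cancel_left]
  rwa [e2] at h1

theorem inB_block (H : Ctx ω) {N : Subgroup (GL Spor.F9 F)} (hN : NormSub ω N) {i k m : ℕ}
    {s'' : GL Spor.F9 F} (hs'' : s'' ∈ SS H) (e : Ug H i * Ug H k = Ug H m * s'')
    (hi : inB H N i) (hk : inB H N k) : inB H N m := by
  obtain ⟨s, hs, hn⟩ := hi
  obtain ⟨s', hs', hn'⟩ := hk
  refine ⟨s'' * s' * s, mul_mem (mul_mem hs'' hs') hs, ?_⟩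
  have h1 := hN.conj (Ug H i) (Ug_mem3 H i) _ hn'
  have h2 := mul_mem h1 hn
  have e2 : Ug H i * (Ug H k * s') * (Ug H i)⁻¹ * (Ug H i * s) = Ug H m * (s'' * s' * s) := by
    rw [← mul_assoc (Ug H i) (Ug H k), e]; simp only [mul_assoc, inv_mul_cancel_left]
  rwa [e2] at h2

/-- A coset meets `N` exactly when the representative of its orbit does. -/
theorem inB_rep (H : Ctx ω) {N : Subgroup (GL Spor.F9 F)} (hN : NormSub ω N) :
    ∀ d i, i < 23256 → e16 j3ODep i = d → (inB H N i ↔ inB H N (e16 j3ORep (labC i))) := by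
  intro d
  induction d using Nat.strong_induction_on with
  | _ d ih =>
    intro i hi hd
    obtain ⟨_, h | ⟨h1, h2, h3, h4, h5⟩⟩ := chk9_spec hi
    · rw [← h]
    · have e := hG_mul_Ug H h3 h2
      rw [h4] at e
      have t := (chk8_spec h3 h2).2.1
      have key : inB H N i ↔ inB H N (e16 j3OPar i) :=
        ⟨inB_bwd H hN (hG_mem_SS H _) (Sg_mem_SS H t) e,
          inB_fwd H hN (hG_mem_SS H _) (Sg_mem_SS H t) e⟩
      rw [key, ih _ (hd ▸ h1) _ h2 rfl, h5]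

open Classical in
/-- The set of cosets meeting `N`. -/
noncomputable def Bset (H : Ctx ω) (N : Subgroup (GL Spor.F9 F)) : Finset ℕ :=
  (Finset.range 23256).filter (inB H N)

theorem mem_Bset (H : Ctx ω) (N : Subgroup (GL Spor.F9 F)) {i : ℕ} :
    i ∈ Bset H N ↔ i < 23256 ∧ inB H N i := by
  classical
  rw [Bset, Finset.mem_filter, Finset.mem_range]

theorem Bset_fiber (H : Ctx ω) {N : Subgroup (GL Spor.F9 F)} (hN : NormSub ω N) {l : ℕ}
    (hl : l < 28) [Decidable (inB H N (e16 j3ORep l))] :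
    ((Bset H N).filter (fun i => labC i = l)).card =
      if inB H N (e16 j3ORep l) then e16 j3Sz l else 0 := by
  split_ifs with hc
  · have e : (Bset H N).filter (fun i => labC i = l) =
        (Finset.range 23256).filter (fun i => labC i = l) := by
      ext i
      simp only [Finset.mem_filter, mem_Bset, Finset.mem_range]
      constructor
      · rintro ⟨⟨h1, _⟩, h3⟩; exact ⟨h1, h3⟩
      · rintro ⟨h1, h3⟩
        refine ⟨⟨h1, ?_⟩, h3⟩
        rw [inB_rep H hN _ i h1 rfl, h3]; exact hc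
    rw [e, ← cntL_eq, chk10_spec (by omega)]
  · rw [Finset.card_eq_zero, Finset.filter_eq_empty_iff]
    intro i hi h3
    rw [mem_Bset] at hi
    apply hc
    rw [← h3, ← inB_rep H hN _ i hi.1 rfl]; exact hi.2

theorem card_Bset (H : Ctx ω) {N : Subgroup (GL Spor.F9 F)} (hN : NormSub ω N)
    [DecidablePred fun l => inB H N (e16 j3ORep l)] :
    (Bset H N).card = ∑ l ∈ Finset.range 28, if inB H N (e16 j3ORep l) then e16 j3Sz l else 0 := by
  rw [Finset.card_eq_sum_card_fiberwise (f := labC) (t := Finset.range 28)]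
  · refine Finset.sum_congr rfl (fun l hl => ?_)
    exact Bset_fiber H hN (Finset.mem_range.mp hl)
  · intro i hi
    have hi' := (mem_Bset H N).mp hi
    exact Finset.mem_coe.mpr (Finset.mem_range.mpr (chk9_spec hi'.1).1)

theorem fin_chk00 : ∀ k < 130, (1 + 80 * 0 + 135 * 0 + 180 * k) ∣ 23256 →
    k = 0 ∨ 1 + 80 * 0 + 135 * 0 + 180 * k = 23256 := by decide +kernel

theorem fin_chk01 : ∀ k < 130, (1 + 80 * 0 + 135 * 1 + 180 * k) ∣ 23256 →
    k = 0 ∨ 1 + 80 * 0 + 135 * 1 + 180 * k = 23256 := by decide +kernel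

theorem fin_chk10 : ∀ k < 130, (1 + 80 * 1 + 135 * 0 + 180 * k) ∣ 23256 →
    1 + 80 * 1 + 135 * 0 + 180 * k = 23256 := by decide +kernel

theorem fin_chk11 : ∀ k < 130, (1 + 80 * 1 + 135 * 1 + 180 * k) ∣ 23256 →
    1 + 80 * 1 + 135 * 1 + 180 * k = 23256 := by decide +kernel

theorem fin_chk : ∀ k < 130, ∀ a < 2, ∀ b < 2, (1 + 80 * a + 135 * b + 180 * k) ∣ 23256 →
    (a = 0 ∧ b = 0 ∧ k = 0) ∨ (a = 0 ∧ b = 1 ∧ k = 0) ∨
      1 + 80 * a + 135 * b + 180 * k = 23256 := by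
  intro k hk a ha b hb h
  have ha' : a = 0 ∨ a = 1 := by omega
  have hb' : b = 0 ∨ b = 1 := by omega
  rcases ha' with rfl | rfl <;> rcases hb' with rfl | rfl
  · rcases fin_chk00 k hk h with h1 | h1
    · exact Or.inl ⟨rfl, rfl, h1⟩
    · exact Or.inr (Or.inr h1)
  · rcases fin_chk01 k hk h with h1 | h1
    · exact Or.inr (Or.inl ⟨rfl, rfl, h1⟩)
    · exact Or.inr (Or.inr h1)
  · exact Or.inr (Or.inr (fin_chk10 k hk h))
  · exact Or.inr (Or.inr (fin_chk11 k hk h))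

theorem orbit_arith (c : ℕ → Prop) [DecidablePred c] (T : ℕ)
    (hT : T = ∑ l ∈ Finset.range 28, if c l then e16 j3Sz l else 0) (h0 : c 0)
    (hle : T ≤ 23256) (hdvd : T ∣ 23256) :
    T = 1 ∨ T = 23256 ∨ (c 2 ∧ ∀ l, 3 ≤ l → l < 28 → ¬ c l) := by
  set t : ℕ → ℕ := fun l => if c l then e16 j3Sz l else 0 with ht
  have hsplit : ∑ l ∈ Finset.range 28, t l = t 0 + t 1 + t 2 + ∑ l ∈ Finset.Ico 3 28, t l := by
    rw [← Finset.sum_range_add_sum_Ico t (show 3 ≤ 28 by norm_num)]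
    simp [Finset.sum_range_succ]
  obtain ⟨s0, s1, s2⟩ := sz_first
  have h180 : 180 ∣ ∑ l ∈ Finset.Ico 3 28, t l := by
    refine Finset.dvd_sum (fun l hl => ?_)
    rw [Finset.mem_Ico] at hl
    show 180 ∣ (if c l then e16 j3Sz l else 0)
    split_ifs
    · exact Nat.dvd_of_mod_eq_zero (chk10b_spec hl.1 hl.2).1
    · exact dvd_zero _
  obtain ⟨k, hk⟩ := h180
  have t0 : t 0 = 1 := by
    show (if c 0 then e16 j3Sz 0 else 0) = 1
    rw [if_pos h0, s0]
  obtain ⟨a, ha, ta⟩ : ∃ a, a < 2 ∧ t 1 = 80 * a := by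
    by_cases h : c 1
    · exact ⟨1, by norm_num, by show (if c 1 then e16 j3Sz 1 else 0) = _; rw [if_pos h, s1]⟩
    · exact ⟨0, by norm_num, by show (if c 1 then e16 j3Sz 1 else 0) = _; rw [if_neg h]⟩
  obtain ⟨b, hb, tb, hb2⟩ : ∃ b, b < 2 ∧ t 2 = 135 * b ∧ (b = 1 → c 2) := by
    by_cases h : c 2
    · exact ⟨1, by norm_num, by show (if c 2 then e16 j3Sz 2 else 0) = _; rw [if_pos h, s2],
        fun _ => h⟩
    · exact ⟨0, by norm_num, by show (if c 2 then e16 j3Sz 2 else 0) = _; rw [if_neg h],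
        fun h' => absurd h' (by norm_num)⟩
  have hT' : T = 1 + 80 * a + 135 * b + 180 * k := by
    rw [hT, hsplit, t0, ta, tb, hk]
  rw [hT'] at hle hdvd
  have hk130 : k < 130 := by omega
  rcases fin_chk k hk130 a ha b hb hdvd with ⟨rfl, rfl, rfl⟩ | ⟨rfl, rfl, rfl⟩ | h
  · left; rw [hT']
  · right; right
    refine ⟨hb2 rfl, fun l h3 hl hc => ?_⟩
    have hz : ∑ l ∈ Finset.Ico 3 28, t l = 0 := by rw [hk]
    have h1 := (Finset.sum_eq_zero_iff.mp hz) l (Finset.mem_Ico.mpr ⟨h3, hl⟩)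
    have h' : t l = e16 j3Sz l := if_pos hc
    have h2 := (chk10b_spec h3 hl).2
    omega
  · right; left; rw [hT']; exact h

/-- The product set `N * S`, as a subgroup. -/
def KS (H : Ctx ω) {N : Subgroup (GL Spor.F9 F)} (hN : NormSub ω N) :
    Subgroup (GL Spor.F9 F) where
  carrier := {g | ∃ n ∈ N, ∃ s ∈ SS H, g = n * s}
  mul_mem' := by
    rintro _ _ ⟨n, hn, s, hs, rfl⟩ ⟨n', hn', s', hs', rfl⟩
    refine ⟨n * (s * n' * s⁻¹), mul_mem hn (hN.conj s (SS_le H hs) n' hn'), s * s',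
      mul_mem hs hs', ?_⟩
    simp only [mul_assoc, inv_mul_cancel_left]
  one_mem' := ⟨1, one_mem _, 1, one_mem _, (mul_one 1).symm⟩
  inv_mem' := by
    rintro _ ⟨n, hn, s, hs, rfl⟩
    refine ⟨s⁻¹ * n⁻¹ * s⁻¹⁻¹, hN.conj s⁻¹ (inv_mem (SS_le H hs)) _ (inv_mem hn), s⁻¹,
      inv_mem hs, ?_⟩
    rw [mul_inv_rev]; simp only [mul_assoc, inv_inv, mul_inv_cancel, mul_one]

theorem KS_le (H : Ctx ω) {N : Subgroup (GL Spor.F9 F)} (hN : NormSub ω N) :
    KS H hN ≤ Spor.threeJ3 F ω := by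
  rintro _ ⟨n, hn, s, hs, rfl⟩
  exact mul_mem (hN.le hn) (SS_le H hs)

theorem card_KS (H : Ctx ω) {N : Subgroup (GL Spor.F9 F)} (hN : NormSub ω N) :
    Nat.card ↥(KS H hN) = (Bset H N).card * 6480 := by
  let f : ↥(Bset H N) × Fin 6480 → ↥(KS H hN) := fun p =>
    ⟨Ug H p.1 * Sg H p.2, by
      obtain ⟨s, hs, hn⟩ := ((mem_Bset H N).mp p.1.2).2
      exact ⟨_, hn, s⁻¹ * Sg H p.2, mul_mem (inv_mem hs) (Sg_mem_SS H p.2.2), by
        simp only [mul_assoc, mul_inv_cancel_left]⟩⟩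
  have hf : Function.Bijective f := by
    constructor
    · rintro ⟨a, c⟩ ⟨a', c'⟩ h
      have h' : Ug H a * Sg H c = Ug H a' * Sg H c' := congrArg Subtype.val h
      obtain ⟨h1, h2⟩ :=
        U_inj H ((mem_Bset H N).mp a.2).1 c.2 ((mem_Bset H N).mp a'.2).1 c'.2 h'
      exact Prod.ext (Subtype.ext h1) (Fin.ext h2)
    · rintro ⟨g, n, hn, s, hs, rfl⟩
      obtain ⟨i, j, hi, hj, e⟩ := coords H (mul_mem (hN.le hn) (SS_le H hs))
      have hiB : i ∈ Bset H N := (mem_Bset H N).mpr ⟨hi, Sg H j * s⁻¹,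
        mul_mem (Sg_mem_SS H hj) (inv_mem hs), by
          rw [← mul_assoc, ← e, mul_inv_cancel_right]; exact hn⟩
      exact ⟨(⟨i, hiB⟩, ⟨j, hj⟩), Subtype.ext e.symm⟩
  rw [← Nat.card_congr (Equiv.ofBijective f hf), Nat.card_prod, Nat.card_fin,
    Nat.card_eq_fintype_card, Fintype.card_coe]

theorem Bset_dvd (H : Ctx ω) {N : Subgroup (GL Spor.F9 F)} (hN : NormSub ω N) :
    (Bset H N).card ∣ 23256 := by
  have h1 : Nat.card ↥(KS H hN) ∣ Nat.card ↥(Spor.threeJ3 F ω) :=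
    Subgroup.card_dvd_of_le (KS_le H hN)
  rw [card_KS, card_threeJ3 H] at h1
  exact Nat.dvd_of_mul_dvd_mul_right (show 0 < 6480 by norm_num) h1

/-- Either `N` lies in the stabiliser, or it meets every coset. -/
theorem Bset_cases (H : Ctx ω) {N : Subgroup (GL Spor.F9 F)} (hN : NormSub ω N) :
    (∀ i, i < 23256 → inB H N i → i = 0) ∨ (∀ i, i < 23256 → inB H N i) := by
  classical
  have h0 : inB H N (e16 j3ORep 0) := by rw [rep_zero.1]; exact inB_zero H N
  have hle : (Bset H N).card ≤ 23256 := by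
    have h := Finset.card_le_card (Finset.filter_subset (inB H N) (Finset.range 23256))
    rwa [Finset.card_range] at h
  rcases orbit_arith (fun l => inB H N (e16 j3ORep l)) _ (card_Bset H hN) h0 hle
    (Bset_dvd H hN) with h | h | ⟨h2, h3⟩
  · left
    intro i hi hb
    obtain ⟨a, ha⟩ := Finset.card_eq_one.mp h
    have m0 : 0 ∈ Bset H N := (mem_Bset H N).mpr ⟨by norm_num, inB_zero H N⟩
    have mi : i ∈ Bset H N := (mem_Bset H N).mpr ⟨hi, hb⟩
    rw [ha, Finset.mem_singleton] at m0 mi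
    rw [mi, ← m0]
  · right
    intro i hi
    have e : Bset H N = Finset.range 23256 :=
      Finset.eq_of_subset_of_card_le (Finset.filter_subset _ _) (by rw [Finset.card_range, h])
    have mi : i ∈ Bset H N := by rw [e]; exact Finset.mem_range.mpr hi
    exact ((mem_Bset H N).mp mi).2
  · exfalso
    obtain ⟨b, c, d, j, l, hb, hc, hd, hj, l3, l28, lb, lc, ld, e⟩ := w135_spec
    have ib : inB H N b := by rw [inB_rep H hN _ b hb rfl, lb]; exact h2
    have ic : inB H N c := by rw [inB_rep H hN _ c hc rfl, lc]; exact h2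
    have e' : Ug H b * Ug H c = Ug H d * Sg H j := by
      have a := IsCode.mul H.two H.om (Ug_code H hb) (Ug_code H hc)
      rw [e] at a
      exact IsCode.eq a (IsCode.mul H.two H.om (Ug_code H hd) (Sg_code H hj))
    have hm := inB_block H hN (Sg_mem_SS H hj) e' ib ic
    rw [inB_rep H hN _ d hd rfl, ld] at hm
    exact h3 l l3 l28 hm

end

end Cfsg.Agent.Helper7.J3
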