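/-
Helper7 library: the centre of the triple cover `3·J₃` has order 3 and the quotient `J₃` is a
simple group of order 50232960. A normal subgroup of the triple cover consists of scalars or is
everything: it either lies in the stabiliser of a line, and then fixes all 23256 lines, or it is
transitive on them, has order divisible by 19 and contains all elements whose nineteenth power is
trivial, which generate.
-/
import Cfsg.Agent.Helper7.J3Prim

set_option autoImplicit false

namespace Cfsg.Agent.Helper7.J3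

open Cfsg

section
variable {F : Type*} [Field F] {ω : F}

theorem Sg_jW2 (H : Ctx ω) : Sg H jW2 = gz H * gz H :=
  IsCode.eq (Sg_code H (by decide)) (by
    rw [sC_jW2, ← scal_sq]
    exact IsCode.mul H.two H.om (gens_spec H).2.2.2.2.2.1 (gens_spec H).2.2.2.2.2.1)

/-- A normalised subgroup inside the stabiliser consists of scalars. -/
theorem sub_scal (H : Ctx ω) {N : Subgroup (GL Spor.F9 F)} (hN : NormSub ω N)
    (hB : ∀ i, i < 23256 → inB H N i → i = 0) {n : GL Spor.F9 F} (hn : n ∈ N) :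
    n = 1 ∨ n = gz H ∨ n = gz H * gz H := by
  obtain ⟨i, j, hi, hj, e⟩ := coords H (hN.le hn)
  have hi0 : i = 0 := hB i hi ⟨Sg H j, Sg_mem_SS H hj, e ▸ hn⟩
  subst hi0
  rw [Ug_root, one_mul] at e
  by_cases hs : isScalIdx j = true
  · simp only [isScalIdx, Bool.or_eq_true] at hs
    rcases hs with h | h | h
    · left; rw [e, Nat.eq_of_beq_eq_true h, Sg_one]
    · right; left; rw [e, Nat.eq_of_beq_eq_true h, Sg_jW]
    · right; right; rw [e, Nat.eq_of_beq_eq_true h, Sg_jW2]
  · exfalso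
    obtain ⟨h1, h2, h3, h4, h5⟩ := chk11_spec hj (by simpa using hs)
    have e1 : Sg H j * Ug H (e16 j3Wi j) = Ug H (e16 j3Wi2 j) * Sg H (e16 j3Wj j) := by
      have a := IsCode.mul H.two H.om (Sg_code H hj) (Ug_code H h1)
      rw [h5] at a
      exact IsCode.eq a (IsCode.mul H.two H.om (Ug_code H h2) (Sg_code H h3))
    have h6 := hN.conj (Ug H (e16 j3Wi j))⁻¹ (inv_mem (Ug_mem3 H _)) n hn
    rw [inv_inv] at h6
    obtain ⟨i2, j2, hi2, hj2, e2⟩ := coords H (hN.le h6)
    have hi20 : i2 = 0 := hB i2 hi2 ⟨Sg H j2, Sg_mem_SS H hj2, e2 ▸ h6⟩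
    subst hi20
    rw [Ug_root, one_mul] at e2
    have e3 : Ug H (e16 j3Wi2 j) * Sg H (e16 j3Wj j) = Ug H (e16 j3Wi j) * Sg H j2 := by
      rw [← e1, ← e2, ← e]; group
    exact h4 (U_inj H h2 h3 h1 hj2 e3).1.symm

theorem card_SS (H : Ctx ω) : Nat.card ↥(SS H) = 6480 := by
  let f : Fin 6480 → ↥(SS H) := fun j => ⟨Sg H j, Sg_mem_SS H j.2⟩
  have hf : Function.Bijective f := by
    constructor
    · intro a b h
      exact Fin.ext (Sg_inj H a.2 b.2 (congrArg Subtype.val h))
    · rintro ⟨g, j, hj, rfl⟩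
      exact ⟨⟨j, hj⟩, rfl⟩
  rw [← Nat.card_congr (Equiv.ofBijective f hf), Nat.card_fin]

theorem normSub_map (N : Subgroup ↥(Spor.threeJ3 F ω)) [hn : N.Normal] :
    NormSub ω (N.map (Subgroup.subtype _)) where
  le := by
    intro x hx
    obtain ⟨m, _, rfl⟩ := Subgroup.mem_map.mp hx
    exact m.2
  conj := by
    intro g hg x hx
    obtain ⟨m, hm, rfl⟩ := Subgroup.mem_map.mp hx
    have h1 := hn.conj_mem m hm ⟨g, hg⟩
    exact Subgroup.mem_map.mpr ⟨_, h1, by
      rw [Subgroup.subtype_apply, Subgroup.subtype_apply, Subgroup.coe_mul, Subgroup.coe_mul,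
        Subgroup.coe_inv]⟩

/-- The index of a normal subgroup meeting every coset divides the order of the stabiliser. -/
theorem index_dvd (H : Ctx ω) (N : Subgroup ↥(Spor.threeJ3 F ω)) [N.Normal]
    (hB : ∀ i, i < 23256 → inB H (N.map (Subgroup.subtype _)) i) : N.index ∣ 6480 := by
  let φ : ↥(SS H) →* ↥(Spor.threeJ3 F ω) ⧸ N :=
    (QuotientGroup.mk' N).comp (Subgroup.inclusion (SS_le H))
  have hφ : Function.Surjective φ := by
    intro q
    obtain ⟨g, rfl⟩ := QuotientGroup.mk_surjective q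
    obtain ⟨i, j, hi, hj, e⟩ := coords H g.2
    obtain ⟨s, hs, m, hm, em⟩ := hB i hi
    have em' : (m : GL Spor.F9 F) = Ug H i * s := em
    have ht : s⁻¹ * Sg H j ∈ SS H := mul_mem (inv_mem hs) (Sg_mem_SS H hj)
    refine ⟨⟨s⁻¹ * Sg H j, ht⟩, ?_⟩
    have eg : g = m * Subgroup.inclusion (SS_le H) ⟨s⁻¹ * Sg H j, ht⟩ := by
      apply Subtype.ext
      rw [Subgroup.coe_mul, e, em']
      show Ug H i * Sg H j = Ug H i * s * (s⁻¹ * Sg H j)
      simp only [mul_assoc, mul_inv_cancel_left]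
    show QuotientGroup.mk' N (Subgroup.inclusion (SS_le H) ⟨s⁻¹ * Sg H j, ht⟩) =
      QuotientGroup.mk g
    rw [eg, QuotientGroup.mk'_apply, QuotientGroup.mk_mul,
      (QuotientGroup.eq_one_iff m).mpr hm, one_mul]
  have h := Subgroup.card_dvd_of_surjective φ hφ
  rwa [card_SS, ← Subgroup.index_eq_card] at h

theorem mem_of_pow19 (N : Subgroup ↥(Spor.threeJ3 F ω)) [N.Normal]
    (hd : N.index ∣ 6480) {a : ↥(Spor.threeJ3 F ω)} (ha : a ^ 19 = 1) : a ∈ N := by
  obtain ⟨k, hk⟩ := hd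
  have h1 : a ^ 6480 ∈ N := by rw [hk, pow_mul]; exact pow_mem (Subgroup.pow_index_mem N a) k
  have h2 : a ^ 6480 = a := by
    rw [show 6480 = 19 * 341 + 1 by norm_num, pow_succ, pow_mul, ha, one_pow, one_mul]
  rwa [h2] at h1

theorem IsCode.pow19 (H : Ctx ω) {a : GL Spor.F9 F} {c : ℕ} (h : IsCode ω a c) :
    IsCode ω (a ^ 19) (pow19C c) := by
  have h2 := IsCode.mul H.two H.om h h
  have h4 := IsCode.mul H.two H.om h2 h2
  have h8 := IsCode.mul H.two H.om h4 h4
  have h16 := IsCode.mul H.two H.om h8 h8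
  have h19 := IsCode.mul H.two H.om (IsCode.mul H.two H.om h16 h2) h
  rw [pow19C_eq]
  have e2 : a * a = a ^ 2 := (pow_two a).symm
  have e4 : a ^ 2 * a ^ 2 = a ^ 4 := (pow_add a 2 2).symm
  have e8 : a ^ 4 * a ^ 4 = a ^ 8 := (pow_add a 4 4).symm
  have e16 : a ^ 8 * a ^ 8 = a ^ 16 := (pow_add a 8 8).symm
  have e18 : a ^ 16 * a ^ 2 = a ^ 18 := (pow_add a 16 2).symm
  have e19 : a ^ 18 * a = a ^ 19 := (pow_succ a 18).symm
  rw [e2, e4, e8, e16, e18, e19] at h19
  exact h19

/-- An element `u i * s j` with trivial nineteenth power lies in `N`. -/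
theorem us_mem (H : Ctx ω) (N : Subgroup ↥(Spor.threeJ3 F ω)) [N.Normal]
    (hd : N.index ∣ 6480) {i j : ℕ} (hi : i < 23256) (hj : j < 6480)
    (hp : pow19C (mulC (uC i) (sC j)) = idC) :
    Ug H i * Sg H j ∈ N.map (Subgroup.subtype _) := by
  have hc := IsCode.mul H.two H.om (Ug_code H hi) (Sg_code H hj)
  have h19 := IsCode.pow19 H hc
  rw [hp] at h19
  have e : (Ug H i * Sg H j) ^ 19 = 1 := IsCode.eq h19 isCode_one
  refine ⟨⟨Ug H i * Sg H j, mul_mem (Ug_mem3 H i) (Sg_mem3 H j)⟩,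
    mem_of_pow19 N hd (Subtype.ext ?_), rfl⟩
  rw [SubmonoidClass.coe_pow]
  exact e

/-- A normal subgroup meeting every coset is everything. -/
theorem top_of_all (H : Ctx ω) (N : Subgroup ↥(Spor.threeJ3 F ω)) [N.Normal]
    (hB : ∀ i, i < 23256 → inB H (N.map (Subgroup.subtype _)) i) : N = ⊤ := by
  have hd := index_dvd H N hB
  have hx : gx H ∈ N.map (Subgroup.subtype _) := by
    obtain ⟨i1, j1, i2, j2, a1, b1, a2, b2, p1, p2, e⟩ := e19_x_spec
    have c := IsCode.mul H.two H.om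
      (IsCode.mul H.two H.om (Ug_code H a1) (Sg_code H b1))
      (IsCode.mul H.two H.om (Ug_code H a2) (Sg_code H b2))
    rw [e] at c
    rw [IsCode.eq (gens_spec H).2.2.2.1 c]
    exact mul_mem (us_mem H N hd a1 b1 p1) (us_mem H N hd a2 b2 p2)
  have hy : gy H ∈ N.map (Subgroup.subtype _) := by
    obtain ⟨i1, j1, i2, j2, a1, b1, a2, b2, p1, p2, e⟩ := e19_y_spec
    have c := IsCode.mul H.two H.om
      (IsCode.mul H.two H.om (Ug_code H a1) (Sg_code H b1))
      (IsCode.mul H.two H.om (Ug_code H a2) (Sg_code H b2))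
    rw [e] at c
    rw [IsCode.eq (gens_spec H).2.2.2.2.1 c]
    exact mul_mem (us_mem H N hd a1 b1 p1) (us_mem H N hd a2 b2 p2)
  have hz : gz H ∈ N.map (Subgroup.subtype _) := by
    obtain ⟨i1, j1, i2, j2, i3, j3, a1, b1, a2, b2, a3, b3, p1, p2, p3, e⟩ := e19_z_spec
    have c := IsCode.mul H.two H.om (IsCode.mul H.two H.om
      (IsCode.mul H.two H.om (Ug_code H a1) (Sg_code H b1))
      (IsCode.mul H.two H.om (Ug_code H a2) (Sg_code H b2)))
      (IsCode.mul H.two H.om (Ug_code H a3) (Sg_code H b3))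
    rw [e] at c
    rw [IsCode.eq (gens_spec H).2.2.2.2.2.1 c]
    exact mul_mem (mul_mem (us_mem H N hd a1 b1 p1) (us_mem H N hd a2 b2 p2))
      (us_mem H N hd a3 b3 p3)
  have hle : H3 H ≤ N.map (Subgroup.subtype _) := by
    rw [H3, Subgroup.closure_le]
    rintro g (rfl | rfl | rfl)
    · exact hx
    · exact hy
    · exact hz
  rw [eq_top_iff]
  intro g _
  have hg : (g : GL Spor.F9 F) ∈ N.map (Subgroup.subtype _) :=
    hle (by rw [← threeJ3_eq H]; exact g.2)
  obtain ⟨m, hm, e⟩ := hg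
  have e' : m = g := Subtype.ext e
  rwa [e'] at hm

/-- A normal subgroup of the triple cover consists of scalars or is everything. -/
theorem normal_cases (H : Ctx ω) (N : Subgroup ↥(Spor.threeJ3 F ω)) [N.Normal] :
    (∀ n ∈ N, (n : GL Spor.F9 F) = 1 ∨ (n : GL Spor.F9 F) = gz H ∨
      (n : GL Spor.F9 F) = gz H * gz H) ∨ N = ⊤ := by
  rcases Bset_cases H (normSub_map N) with h | h
  · left
    intro n hn
    exact sub_scal H (normSub_map N) h ⟨n, hn, rfl⟩
  · right; exact top_of_all H N h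

/-- The scalar `ω` as an element of the triple cover. -/
noncomputable def zG (H : Ctx ω) : ↥(Spor.threeJ3 F ω) := ⟨gz H, (gens_spec H).2.2.1⟩

theorem zG_mem_center (H : Ctx ω) : zG H ∈ Subgroup.center ↥(Spor.threeJ3 F ω) := by
  rw [Subgroup.mem_center_iff]
  intro g
  exact Subtype.ext (gz_comm H g).symm

theorem gz_cube (H : Ctx ω) : gz H * (gz H * gz H) = 1 := by
  have c := IsCode.mul H.two H.om (gens_spec H).2.2.2.2.2.1
    (IsCode.mul H.two H.om (gens_spec H).2.2.2.2.2.1 (gens_spec H).2.2.2.2.2.1)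
  rw [scal_sq, scal_cube'] at c
  exact IsCode.eq c isCode_one

theorem gz_ne_one (H : Ctx ω) : gz H ≠ 1 := by
  intro h
  have c : IsCode ω (gz H) (packSym (eScal 2)) := (gens_spec H).2.2.2.2.2.1
  rw [h] at c
  exact scal_ne (IsCodeM.code_eq H.two H.om c isCode_one (packSym_lt _)
    (by rw [idC_eq]; exact packSym_lt _))

theorem scal_mem_zpowers (H : Ctx ω) {n : ↥(Spor.threeJ3 F ω)}
    (h : (n : GL Spor.F9 F) = 1 ∨ (n : GL Spor.F9 F) = gz H ∨
      (n : GL Spor.F9 F) = gz H * gz H) : n ∈ Subgroup.zpowers (zG H) := by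
  rcases h with h1 | h1 | h1
  · have e : n = 1 := Subtype.ext h1
    rw [e]; exact one_mem _
  · have e : n = zG H := Subtype.ext h1
    rw [e]; exact Subgroup.mem_zpowers _
  · have e : n = zG H * zG H := Subtype.ext h1
    rw [e]; exact mul_mem (Subgroup.mem_zpowers _) (Subgroup.mem_zpowers _)

/-- The centre of the triple cover is generated by the scalar `ω`. -/
theorem center_eq (H : Ctx ω) :
    Subgroup.center ↥(Spor.threeJ3 F ω) = Subgroup.zpowers (zG H) := by
  apply le_antisymm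
  · intro n hn
    rcases normal_cases H (Subgroup.center ↥(Spor.threeJ3 F ω)) with h | h
    · exact scal_mem_zpowers H (h n hn)
    · exfalso
      have hx : (⟨gx H, (gens_spec H).1⟩ : ↥(Spor.threeJ3 F ω)) ∈
          Subgroup.center ↥(Spor.threeJ3 F ω) := by rw [h]; trivial
      have hc := (Subgroup.mem_center_iff.mp hx) ⟨gy H, (gens_spec H).2.1⟩
      have hc' : gy H * gx H = gx H * gy H := congrArg Subtype.val hc
      have c1 := IsCode.mul H.two H.om (gens_spec H).2.2.2.2.1 (gens_spec H).2.2.2.1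
      have c2 := IsCode.mul H.two H.om (gens_spec H).2.2.2.1 (gens_spec H).2.2.2.2.1
      rw [hc'] at c1
      exact xy_ne' (IsCodeM.code_eq H.two H.om c2 c1 (mulC_lt _ _) (mulC_lt _ _))
  · rw [Subgroup.zpowers_le]; exact zG_mem_center H

theorem card_center (H : Ctx ω) : Nat.card ↥(Subgroup.center ↥(Spor.threeJ3 F ω)) = 3 := by
  rw [center_eq H, Nat.card_zpowers]
  have h3 : zG H ^ 3 = 1 := by
    apply Subtype.ext
    rw [SubmonoidClass.coe_pow]
    show gz H ^ 3 = 1
    rw [pow_succ, pow_two, mul_assoc]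
    exact gz_cube H
  exact orderOf_eq_prime h3 (fun h => gz_ne_one H (congrArg Subtype.val h))

theorem card_J3 (H : Ctx ω) : Nat.card (Spor.J3 F ω) = 50232960 := by
  have h := Subgroup.card_eq_card_quotient_mul_card_subgroup
    (Subgroup.center ↥(Spor.threeJ3 F ω))
  rw [card_threeJ3 H, card_center H] at h
  show Nat.card (↥(Spor.threeJ3 F ω) ⧸ Subgroup.center ↥(Spor.threeJ3 F ω)) = 50232960
  omega

/-- `J₃` is simple. -/
theorem simple_J3 (H : Ctx ω) : IsSimpleGroup (Spor.J3 F ω) := by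
  have hcard := card_J3 H
  have : Finite (Spor.J3 F ω) := Nat.finite_of_card_ne_zero (by rw [hcard]; norm_num)
  have : Nontrivial (Spor.J3 F ω) :=
    Finite.one_lt_card_iff_nontrivial.mp (by rw [hcard]; norm_num)
  refine ⟨fun M hM => ?_⟩
  have hn : (M.comap (QuotientGroup.mk' (Subgroup.center ↥(Spor.threeJ3 F ω)))).Normal :=
    hM.comap _
  rcases normal_cases H (M.comap (QuotientGroup.mk' (Subgroup.center ↥(Spor.threeJ3 F ω))))
    with h | h
  · left
    rw [eq_bot_iff]
    intro q hq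
    obtain ⟨g, rfl⟩ := QuotientGroup.mk_surjective q
    have hz : g ∈ Subgroup.center ↥(Spor.threeJ3 F ω) := by
      rw [center_eq H]; exact scal_mem_zpowers H (h g hq)
    exact (QuotientGroup.eq_one_iff g).mpr hz
  · right
    rw [eq_top_iff]
    intro q _
    obtain ⟨g, rfl⟩ := QuotientGroup.mk_surjective q
    have hg : g ∈ M.comap (QuotientGroup.mk' (Subgroup.center ↥(Spor.threeJ3 F ω))) := by
      rw [h]; trivial
    exact hg

/-- The hypotheses hold in a field with four elements. -/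
theorem ctx_of_card [Fintype F] (hF : Fintype.card F = 4) (hω : ω ^ 2 + ω + 1 = 0) : Ctx ω where
  two := by
    have h4 : ((Fintype.card F : ℕ) : F) = 0 := Nat.cast_card_eq_zero F
    rw [hF] at h4
    have h : (2 : F) ^ 2 = 0 := by
      have e : ((4 : ℕ) : F) = (2 : F) ^ 2 := by norm_num
      rw [← e]; exact h4
    exact pow_eq_zero_iff (by norm_num) |>.mp h
  om := hω

end

end Cfsg.Agent.Helper7.J3
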