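/-
Helper7 library: centralisers in the triple cover of the Janko group `J₃` of an element `a` of
order 19 and of an element `t` of order 9 normalising `⟨a⟩`, from the kernel-checked scans of the
cosets of the line stabiliser and of that stabiliser.
-/
import Cfsg.Agent.Helper7.J3Chk13a
import Cfsg.Agent.Helper7.J3Chk13b
import Cfsg.Agent.Helper7.J3Chk13c
import Cfsg.Agent.Helper7.J3Chk13d
import Cfsg.Agent.Helper7.J3Chk13e
import Cfsg.Agent.Helper7.J3Chk13f
import Cfsg.Agent.Helper7.J3Checks3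
import Cfsg.Agent.Helper7.J3Simple

set_option autoImplicit false

namespace Cfsg.Agent.Helper7.J3

open Cfsg
open scoped Matrix

/-! ### The checks on all indices -/

theorem chkU_all (i : ℕ) (hi : i < 23256) : chkU i = true := by
  refine rg_cover chkU 10 23 (fun k hk => ?_) i (by norm_num; omega)
  rw [← rgAllF_eq]
  interval_cases k
  · exact chkU_0
  · exact chkU_1
  · exact chkU_2
  · exact chkU_3
  · exact chkU_4
  · exact chkU_5
  · exact chkU_6
  · exact chkU_7
  · exact chkU_8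
  · exact chkU_9
  · exact chkU_10
  · exact chkU_11
  · exact chkU_12
  · exact chkU_13
  · exact chkU_14
  · exact chkU_15
  · exact chkU_16
  · exact chkU_17
  · exact chkU_18
  · exact chkU_19
  · exact chkU_20
  · exact chkU_21
  · exact chkU_22

theorem scA_all (i : ℕ) (hi : i < 23256) : scA i = true := by
  refine rg_cover scA 10 23 (fun k hk => ?_) i (by norm_num; omega)
  rw [← rgAllF_eq]
  interval_cases k
  · exact scA_0
  · exact scA_1
  · exact scA_2
  · exact scA_3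
  · exact scA_4
  · exact scA_5
  · exact scA_6
  · exact scA_7
  · exact scA_8
  · exact scA_9
  · exact scA_10
  · exact scA_11
  · exact scA_12
  · exact scA_13
  · exact scA_14
  · exact scA_15
  · exact scA_16
  · exact scA_17
  · exact scA_18
  · exact scA_19
  · exact scA_20
  · exact scA_21
  · exact scA_22

theorem scT_all (i : ℕ) (hi : i < 23256) : scT i = true := by
  refine rg_cover scT 10 23 (fun k hk => ?_) i (by norm_num; omega)
  rw [← rgAllF_eq]
  interval_cases k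
  · exact scT_0
  · exact scT_1
  · exact scT_2
  · exact scT_3
  · exact scT_4
  · exact scT_5
  · exact scT_6
  · exact scT_7
  · exact scT_8
  · exact scT_9
  · exact scT_10
  · exact scT_11
  · exact scT_12
  · exact scT_13
  · exact scT_14
  · exact scT_15
  · exact scT_16
  · exact scT_17
  · exact scT_18
  · exact scT_19
  · exact scT_20
  · exact scT_21
  · exact scT_22

theorem scJA_all (j : ℕ) (hj : j < 6480) : scJA j = true := by
  refine rg_cover scJA 10 7 (fun k hk => ?_) j (by norm_num; omega)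
  rw [← rgAllF_eq]
  interval_cases k
  · exact scJA_0
  · exact scJA_1
  · exact scJA_2
  · exact scJA_3
  · exact scJA_4
  · exact scJA_5
  · exact scJA_6

theorem scJT_all (j : ℕ) (hj : j < 6480) : scJT j = true := by
  refine rg_cover scJT 10 7 (fun k hk => ?_) j (by norm_num; omega)
  rw [← rgAllF_eq]
  interval_cases k
  · exact scJT_0
  · exact scJT_1
  · exact scJT_2
  · exact scJT_3
  · exact scJT_4
  · exact scJT_5
  · exact scJT_6

theorem anyB_spec (f : ℕ → Bool) : ∀ n, anyB f n = true → ∃ k, k < n ∧ f k = true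
  | 0, h => by simp [anyB] at h
  | n + 1, h => by
    rw [anyB, Bool.or_eq_true] at h
    rcases h with h | h
    · exact ⟨n, by omega, h⟩
    · obtain ⟨k, hk, hf⟩ := anyB_spec f n h
      exact ⟨k, by omega, hf⟩

section
variable {F : Type*} [Field F] {ω : F}

/-! ### The first row of the inverse of a transversal element -/

/-- The row vector with code `c`. -/
def rowOfC (ω : F) (c : ℕ) : Spor.F9 → F := fun z => el ω (bitN c (ix z)) (bitN c (9 + ix z))

theorem isRow_rowOfC (c : ℕ) : IsRow ω (rowOfC ω c) c := fun _ => rfl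

theorem row_mul (P Q : Matrix Spor.F9 Spor.F9 F) (w : Spor.F9) :
    (P * Q) w = Matrix.vecMul (P w) Q := by
  ext z; simp [Matrix.mul_apply, Matrix.vecMul, dotProduct]

theorem bits_one : ∀ z : Spor.F9,
    bitN 1 (ix z) = (if z = 0 then 1 else 0) ∧ bitN 1 (9 + ix z) = 0 := by decide

theorem ur_spec (H : Ctx ω) {i : ℕ} (hi : i < 23256) :
    Matrix.vecMul (rowOfC ω (urC i)) (Ug H i : Matrix Spor.F9 Spor.F9 F) = Pi.single 0 1 := by
  have h := chkU_all i hi
  rw [chkU, ble_false hi, Bool.false_or, crowF_eq] at h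
  have hc := Nat.eq_of_beq_eq_true h
  have hr := IsRow.vecMul H.two H.om (isRow_rowOfC (ω := ω) (urC i)) (Ug_code H hi)
  rw [hc] at hr
  funext z
  rw [hr z, (bits_one z).1, (bits_one z).2]
  by_cases hz : z = 0
  · subst hz; simp [el]
  · simp [el, hz]

theorem inv_row0 (H : Ctx ω) {i : ℕ} (hi : i < 23256) :
    (((Ug H i)⁻¹ : GL Spor.F9 F) : Matrix Spor.F9 Spor.F9 F) 0 = rowOfC ω (urC i) := by
  have h := ur_spec H hi
  have h2 : Matrix.vecMul (Matrix.vecMul (rowOfC ω (urC i)) (Ug H i : Matrix Spor.F9 Spor.F9 F))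
      (((Ug H i)⁻¹ : GL Spor.F9 F) : Matrix Spor.F9 Spor.F9 F) = rowOfC ω (urC i) := by
    rw [Matrix.vecMul_vecMul, ← Units.val_mul, mul_inv_cancel, Units.val_one, Matrix.vecMul_one]
  rw [h] at h2
  rw [← h2]
  funext z
  simp [Matrix.vecMul, dotProduct, Pi.single_apply]

/-- Conjugation by an element of the stabiliser does not change the corner entry. -/
theorem sg_conj_entry (H : Ctx ω) {j : ℕ} (hj : j < 6480) (M : Matrix Spor.F9 Spor.F9 F) :
    ((Sg H j : Matrix Spor.F9 Spor.F9 F) * M *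
      (((Sg H j)⁻¹ : GL Spor.F9 F) : Matrix Spor.F9 Spor.F9 F)) 0 0 = M 0 0 := by
  have hrow := Sg_row H hj
  obtain ⟨hne, hcol⟩ := Sg_col H hj
  have hSSi : (Sg H j : Matrix Spor.F9 Spor.F9 F) *
      (((Sg H j)⁻¹ : GL Spor.F9 F) : Matrix Spor.F9 Spor.F9 F) = 1 := by
    rw [← Units.val_mul, mul_inv_cancel, Units.val_one]
  have hSiS : (((Sg H j)⁻¹ : GL Spor.F9 F) : Matrix Spor.F9 Spor.F9 F) *
      (Sg H j : Matrix Spor.F9 Spor.F9 F) = 1 := by
    rw [← Units.val_mul, inv_mul_cancel, Units.val_one]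
  have h00 : (Sg H j : Matrix Spor.F9 Spor.F9 F) 0 0 *
      (((Sg H j)⁻¹ : GL Spor.F9 F) : Matrix Spor.F9 Spor.F9 F) 0 0 = 1 := by
    have := congrFun (congrFun hSSi 0) 0
    rw [Matrix.mul_apply, Matrix.one_apply_eq,
      Finset.sum_eq_single 0 (fun z _ hz => by rw [hrow z hz, zero_mul]) (by simp)] at this
    exact this
  have hSi0 : ∀ z, z ≠ 0 →
      (((Sg H j)⁻¹ : GL Spor.F9 F) : Matrix Spor.F9 Spor.F9 F) z 0 = 0 := by
    intro z hz
    have := congrFun (congrFun hSiS z) 0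
    rw [Matrix.mul_apply, Matrix.one_apply_ne hz,
      Finset.sum_eq_single 0 (fun w _ hw => by rw [hcol w hw, mul_zero]) (by simp)] at this
    exact (mul_eq_zero.mp this).resolve_right hne
  rw [Matrix.mul_apply,
    Finset.sum_eq_single 0 (fun z _ hz => by rw [hSi0 z hz, mul_zero]) (by simp),
    Matrix.mul_apply,
    Finset.sum_eq_single 0 (fun w _ hw => by rw [hrow w hw, zero_mul]) (by simp),
    mul_comm ((Sg H j : Matrix Spor.F9 Spor.F9 F) 0 0), mul_assoc, h00, mul_one]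

/-- The necessary condition on the coset of an element `c` with `c A = A' c`. -/
theorem t1_spec (H : Ctx ω) {A A' c : GL Spor.F9 F} {i j pa pap m : ℕ}
    (hA : IsCode ω (A ^ m) pa) (hA' : IsCode ω (A' ^ m) pap) (hc : c * A = A' * c)
    (hi : i < 23256) (hj : j < 6480) (e : c = Ug H i * Sg H j) : t1m pa pap i = true := by
  have h1 : c * A ^ m = A' ^ m * c := SemiconjBy.pow_right (show SemiconjBy c A A' from hc) m
  have h2 : (Ug H i)⁻¹ * A' ^ m * Ug H i = Sg H j * A ^ m * (Sg H j)⁻¹ := by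
    rw [e] at h1
    calc (Ug H i)⁻¹ * A' ^ m * Ug H i
        = (Ug H i)⁻¹ * (A' ^ m * (Ug H i * Sg H j)) * (Sg H j)⁻¹ := by group
      _ = (Ug H i)⁻¹ * (Ug H i * Sg H j * A ^ m) * (Sg H j)⁻¹ := by rw [h1]
      _ = Sg H j * A ^ m * (Sg H j)⁻¹ := by group
  have h3 : (((Ug H i)⁻¹ * A' ^ m * Ug H i : GL Spor.F9 F) : Matrix Spor.F9 Spor.F9 F) 0 0 =
      ((A ^ m : GL Spor.F9 F) : Matrix Spor.F9 Spor.F9 F) 0 0 := by
    rw [h2, Units.val_mul, Units.val_mul]; exact sg_conj_entry H hj _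
  have h4 : (((Ug H i)⁻¹ * A' ^ m * Ug H i : GL Spor.F9 F) : Matrix Spor.F9 Spor.F9 F) 0 =
      Matrix.vecMul (Matrix.vecMul (rowOfC ω (urC i))
        ((A' ^ m : GL Spor.F9 F) : Matrix Spor.F9 Spor.F9 F))
        (Ug H i : Matrix Spor.F9 Spor.F9 F) := by
    rw [Units.val_mul, Units.val_mul, row_mul, row_mul, inv_row0 H hi]
  have hrow := IsRow.vecMul H.two H.om
    (IsRow.vecMul H.two H.om (isRow_rowOfC (ω := ω) (urC i)) hA') (Ug_code H hi)
  have h5 := hrow 0
  have h6 := hA 0 0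
  rw [← h4, h3, h6] at h5
  simp only [ix_zero, mul_zero, zero_add, add_zero] at h5
  obtain ⟨b0, b9⟩ := el_inj H.two H.om (bitN_lt _ _) (bitN_lt _ _) (bitN_lt _ _) (bitN_lt _ _) h5
  rw [t1m, natLetB_eq, crowF_eq, crowF_eq, Bool.and_eq_true, ← b0, ← b9]
  exact ⟨Nat.beq_refl _, Nat.beq_refl _⟩

/-- The rows of `s j * A` and of `A' * s j`. -/
theorem rowsEq_spec (H : Ctx ω) {A A' : GL Spor.F9 F} {a ap j : ℕ} (hA : IsCode ω A a)
    (hA' : IsCode ω A' ap) (hj : j < 6480) (h : Sg H j * A = A' * Sg H j) :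
    rowsEq a ap j = true := by
  have e : mulC (sC j) a = mulC ap (sC j) :=
    IsCodeM.code_eq H.two H.om (IsCode.mul H.two H.om (Sg_code H hj) hA)
      (by rw [h]; exact IsCode.mul H.two H.om hA' (Sg_code H hj)) (mulC_lt _ _) (mulC_lt _ _)
  have r : ∀ k, k < 9 → Nat.beq (crowF (rowN (sC j) k) a) (crowF (rowN ap k) (sC j)) = true := by
    intro k hk
    rw [crowF_eq, crowF_eq, ← rowN_mulC _ _ hk, ← rowN_mulC _ _ hk, e]
    exact Nat.beq_refl _
  rw [rowsEq, natLetB_eq]
  simp only [Bool.and_eq_true]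
  exact ⟨r 0 (by norm_num), r 1 (by norm_num), r 2 (by norm_num), r 3 (by norm_num),
    r 4 (by norm_num), r 5 (by norm_num), r 6 (by norm_num), r 7 (by norm_num),
    r 8 (by norm_num)⟩

/-- Reduction of a centraliser to the centraliser in the line stabiliser. -/
theorem cent_reduce (H : Ctx ω) {A : GL Spor.F9 F} {n : ℕ} {g h : ℕ → ℕ}
    {R : GL Spor.F9 F → Prop}
    (hscan : ∀ c i j, i < 23256 → j < 6480 → c = Ug H i * Sg H j → c * A = A * c →
      ∃ k, k < n ∧ i = g k)
    (hpow : ∀ k, k < n → h k < 6480 ∧ A ^ k = Ug H (g k) * Sg H (h k))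
    (hstab : ∀ j, j < 6480 → Sg H j * A = A * Sg H j → R (Sg H j))
    {c : GL Spor.F9 F} (hc : c ∈ Spor.threeJ3 F ω) (hcA : c * A = A * c) :
    ∃ k, k < n ∧ ∃ r, R r ∧ c = A ^ k * r := by
  obtain ⟨i, j, hi, hj, e⟩ := coords H hc
  obtain ⟨k, hk, rfl⟩ := hscan c i j hi hj e hcA
  obtain ⟨hh, hp⟩ := hpow k hk
  have hd : (Sg H (h k))⁻¹ * Sg H j ∈ SS H :=
    mul_mem (inv_mem (Sg_mem_SS H hh)) (Sg_mem_SS H hj)
  obtain ⟨j', hj', ej'⟩ := hd
  have hcd : c = A ^ k * Sg H j' := by rw [← ej', hp, e]; group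
  have e1 : Sg H j' = (A ^ k)⁻¹ * c := by rw [hcd]; group
  have hk1 : (A ^ k)⁻¹ * A = A * (A ^ k)⁻¹ := ((Commute.pow_self A k).inv_left).eq
  have hcomm : Sg H j' * A = A * Sg H j' := by
    rw [e1]
    calc (A ^ k)⁻¹ * c * A = (A ^ k)⁻¹ * (c * A) := by group
      _ = ((A ^ k)⁻¹ * A) * c := by rw [hcA]; group
      _ = A * ((A ^ k)⁻¹ * c) := by rw [hk1]; group
  exact ⟨k, hk, Sg H j', hstab j' hj' hcomm, hcd⟩

/-! ### The elements -/

/-- An element of order 19. -/
noncomputable def oa (H : Ctx ω) : GL Spor.F9 F := Ug H oaI * Sg H oaJ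

/-- An element of order 9 normalising `⟨a⟩`. -/
noncomputable def ot (H : Ctx ω) : GL Spor.F9 F := Ug H otI * Sg H otJ

/-- An element inverting `t`. -/
noncomputable def ox (H : Ctx ω) : GL Spor.F9 F := Ug H oxI * Sg H oxJ

/-- An element with `d t = ω t d`. -/
noncomputable def od (H : Ctx ω) : GL Spor.F9 F := Sg H odJ

theorem oa_mem (H : Ctx ω) : oa H ∈ Spor.threeJ3 F ω := mul_mem (Ug_mem3 H _) (Sg_mem3 H _)
theorem ot_mem (H : Ctx ω) : ot H ∈ Spor.threeJ3 F ω := mul_mem (Ug_mem3 H _) (Sg_mem3 H _)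
theorem ox_mem (H : Ctx ω) : ox H ∈ Spor.threeJ3 F ω := mul_mem (Ug_mem3 H _) (Sg_mem3 H _)
theorem od_mem (H : Ctx ω) : od H ∈ Spor.threeJ3 F ω := Sg_mem3 H _

theorem oa_code (H : Ctx ω) : IsCode ω (oa H) oaC := by
  have h := IsCode.mul H.two H.om (Ug_code H (show oaI < 23256 by decide))
    (Sg_code H (show oaJ < 6480 by decide))
  rwa [oa_coords] at h

theorem ot_code (H : Ctx ω) : IsCode ω (ot H) otC := by
  have h := IsCode.mul H.two H.om (Ug_code H (show otI < 23256 by decide))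
    (Sg_code H (show otJ < 6480 by decide))
  rwa [ot_coords] at h

theorem ox_code (H : Ctx ω) : IsCode ω (ox H) oxC := by
  have h := IsCode.mul H.two H.om (Ug_code H (show oxI < 23256 by decide))
    (Sg_code H (show oxJ < 6480 by decide))
  rwa [ox_coords] at h

theorem od_code (H : Ctx ω) : IsCode ω (od H) odC := by
  have h := Sg_code H (show odJ < 6480 by decide)
  rwa [od_eq.1] at h

theorem gz_code (H : Ctx ω) : IsCode ω (gz H) ozC := by
  rw [oz_eq.1, sC_jW]; exact (gens_spec H).2.2.2.2.2.1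

theorem oaP_code (H : Ctx ω) : ∀ k, k ≤ 18 → IsCode ω (oa H ^ k) (oaP k)
  | 0, _ => by rw [pow_zero]; exact isCode_one
  | k + 1, h => by
    have ih := oaP_code H k (by omega)
    have hm := IsCode.mul H.two H.om ih (oa_code H)
    have hc : chnA k = true := rgAll_spec chnA 5 0 chnA_all k (Nat.zero_le _) (by norm_num; omega)
    rw [chnA, ble_false (by omega), Bool.false_or, mulF_eq] at hc
    rw [pow_succ]
    have e : oaP (k + 1) = mulC (oaP k) oaC := (Nat.eq_of_beq_eq_true hc).symm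
    rw [e]; exact hm

theorem otP_code (H : Ctx ω) : ∀ k, k ≤ 8 → IsCode ω (ot H ^ k) (otP k)
  | 0, _ => by rw [pow_zero]; exact isCode_one
  | k + 1, h => by
    have ih := otP_code H k (by omega)
    have hm := IsCode.mul H.two H.om ih (ot_code H)
    have hc : chnT k = true := rgAll_spec chnT 4 0 chnT_all k (Nat.zero_le _) (by norm_num; omega)
    rw [chnT, ble_false (by omega), Bool.false_or, mulF_eq] at hc
    rw [pow_succ]
    have e : otP (k + 1) = mulC (otP k) otC := (Nat.eq_of_beq_eq_true hc).symm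
    rw [e]; exact hm

theorem zP_code (H : Ctx ω) : ∀ l, l < 3 → IsCode ω (gz H ^ l) (zP l) := by
  intro l hl
  interval_cases l
  · rw [pow_zero]; exact isCode_one
  · rw [pow_one]; exact gz_code H
  · rw [pow_two]
    have h := IsCode.mul H.two H.om (gens_spec H).2.2.2.2.2.1 (gens_spec H).2.2.2.2.2.1
    rw [scal_sq, ← sC_jW2, ← oz_eq.2] at h
    exact h

theorem oa_pow19' (H : Ctx ω) : oa H ^ 19 = 1 := by
  have h := IsCode.mul H.two H.om (oaP_code H 18 (by norm_num)) (oa_code H)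
  rw [show oaP 18 = oa18 from rfl, oa_pow19, ← pow_succ] at h
  exact IsCode.eq h isCode_one

theorem ot_pow9' (H : Ctx ω) : ot H ^ 9 = 1 := by
  have h := IsCode.mul H.two H.om (otP_code H 8 (by norm_num)) (ot_code H)
  rw [show otP 8 = ot8 from rfl, ot_pow9, ← pow_succ] at h
  exact IsCode.eq h isCode_one

theorem ot_norm' (H : Ctx ω) : ot H * oa H = oa H ^ 4 * ot H := by
  have h := IsCode.mul H.two H.om (ot_code H) (oa_code H)
  rw [ot_norm] at h
  exact IsCode.eq h (IsCode.mul H.two H.om (oaP_code H 4 (by norm_num)) (ot_code H))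

theorem ox_inv' (H : Ctx ω) : ox H * ot H = ot H ^ 8 * ox H := by
  have h := IsCode.mul H.two H.om (ox_code H) (ot_code H)
  rw [ox_inv] at h
  exact IsCode.eq h (IsCode.mul H.two H.om (otP_code H 8 (by norm_num)) (ox_code H))

theorem od_twist' (H : Ctx ω) : od H * ot H = gz H * ot H * od H := by
  have h := IsCode.mul H.two H.om (od_code H) (ot_code H)
  rw [od_twist] at h
  exact IsCode.eq h (IsCode.mul H.two H.om (IsCode.mul H.two H.om (gz_code H) (ot_code H))
    (od_code H))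

/-! ### The centralisers -/

/-- The centraliser of `a` is `⟨a⟩` times the scalars. -/
theorem cent_a (H : Ctx ω) {c : GL Spor.F9 F} (hc : c ∈ Spor.threeJ3 F ω)
    (h : c * oa H = oa H * c) : ∃ k l : ℕ, k < 19 ∧ l < 3 ∧ c = oa H ^ k * gz H ^ l := by
  have hscan : ∀ c i j, i < 23256 → j < 6480 → c = Ug H i * Sg H j → c * oa H = oa H * c →
      ∃ k, k < 19 ∧ i = gA k := by
    intro c i j hi hj e hcA
    have s := scA_all i hi
    have t4 : t1m oa4 oa4 i = true :=
      t1_spec H (m := 4) (oaP_code H 4 (by norm_num)) (oaP_code H 4 (by norm_num)) hcA hi hj e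
    have t6 : t1m oa6 oa6 i = true :=
      t1_spec H (m := 6) (oaP_code H 6 (by norm_num)) (oaP_code H 6 (by norm_num)) hcA hi hj e
    have t1 : t1m oaC oaC i = true :=
      t1_spec H (m := 1) (oaP_code H 1 (by norm_num)) (oaP_code H 1 (by norm_num)) hcA hi hj e
    have t2 : t1m oa2 oa2 i = true :=
      t1_spec H (m := 2) (oaP_code H 2 (by norm_num)) (oaP_code H 2 (by norm_num)) hcA hi hj e
    rw [scA, ble_false hi, Bool.false_or, t4, t6, t1, t2] at s
    simp only [Bool.and_self, Bool.not_true, Bool.false_or] at s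
    obtain ⟨k, hk, hb⟩ := anyB_spec _ 19 s
    exact ⟨k, hk, Nat.eq_of_beq_eq_true hb⟩
  have hpow : ∀ k, k < 19 → hA k < 6480 ∧ oa H ^ k = Ug H (gA k) * Sg H (hA k) := by
    intro k hk
    have hc := rgAll_spec cndA 5 0 cndA_all k (Nat.zero_le _) (by norm_num; omega)
    rw [cndA, ble_false hk, Bool.false_or, Bool.and_eq_true, Bool.and_eq_true, mulF_eq] at hc
    obtain ⟨h1, h2, h3⟩ := hc
    have hg : gA k < 23256 := Nat.le_of_ble_eq_true h1
    have hh : hA k < 6480 := Nat.le_of_ble_eq_true h2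
    refine ⟨hh, IsCode.eq (oaP_code H k (by omega)) ?_⟩
    rw [← Nat.eq_of_beq_eq_true h3]
    exact IsCode.mul H.two H.om (Ug_code H hg) (Sg_code H hh)
  have hstab : ∀ j, j < 6480 → Sg H j * oa H = oa H * Sg H j →
      ∃ l, l < 3 ∧ Sg H j = gz H ^ l := by
    intro j hj hcomm
    have s := scJA_all j hj
    have r := rowsEq_spec H (oa_code H) (oa_code H) hj hcomm
    rw [scJA, ble_false hj, Bool.false_or, r] at s
    simp only [Bool.not_true, Bool.false_or, isScalIdx, Bool.or_eq_true] at s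
    rcases s with s | s | s
    · exact ⟨0, by norm_num, by rw [Nat.eq_of_beq_eq_true s, Sg_one, pow_zero]⟩
    · exact ⟨1, by norm_num, by rw [Nat.eq_of_beq_eq_true s, Sg_jW, pow_one]⟩
    · exact ⟨2, by norm_num, by rw [Nat.eq_of_beq_eq_true s, Sg_jW2, pow_two]⟩
  obtain ⟨k, hk, r, hr, e⟩ := cent_reduce H (R := fun r => ∃ l, l < 3 ∧ r = gz H ^ l)
    hscan hpow hstab hc h
  obtain ⟨l, hl, rfl⟩ := hr
  exact ⟨k, l, hk, hl, e⟩

/-- The centraliser of `t` is `⟨t⟩` times the scalars. -/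
theorem cent_t (H : Ctx ω) {c : GL Spor.F9 F} (hc : c ∈ Spor.threeJ3 F ω)
    (h : c * ot H = ot H * c) : ∃ k l : ℕ, k < 9 ∧ l < 3 ∧ c = ot H ^ k * gz H ^ l := by
  have hscan : ∀ c i j, i < 23256 → j < 6480 → c = Ug H i * Sg H j → c * ot H = ot H * c →
      ∃ k, k < 3 ∧ i = gT k := by
    intro c i j hi hj e hcA
    have s := scT_all i hi
    have t3 : t1m ot3 ot3 i = true :=
      t1_spec H (m := 3) (otP_code H 3 (by norm_num)) (otP_code H 3 (by norm_num)) hcA hi hj e
    have t4 : t1m ot4 ot4 i = true :=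
      t1_spec H (m := 4) (otP_code H 4 (by norm_num)) (otP_code H 4 (by norm_num)) hcA hi hj e
    have t1 : t1m otC otC i = true :=
      t1_spec H (m := 1) (otP_code H 1 (by norm_num)) (otP_code H 1 (by norm_num)) hcA hi hj e
    have t2 : t1m ot2 ot2 i = true :=
      t1_spec H (m := 2) (otP_code H 2 (by norm_num)) (otP_code H 2 (by norm_num)) hcA hi hj e
    rw [scT, ble_false hi, Bool.false_or, t3, t4, t1, t2] at s
    simp only [Bool.and_self, Bool.not_true, Bool.false_or] at s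
    obtain ⟨k, hk, hb⟩ := anyB_spec _ 3 s
    exact ⟨k, hk, Nat.eq_of_beq_eq_true hb⟩
  have hpow : ∀ k, k < 3 → hT k < 6480 ∧ ot H ^ k = Ug H (gT k) * Sg H (hT k) := by
    intro k hk
    have hc := rgAll_spec cndT 2 0 cndT_all k (Nat.zero_le _) (by norm_num; omega)
    rw [cndT, ble_false hk, Bool.false_or, Bool.and_eq_true, Bool.and_eq_true, mulF_eq] at hc
    obtain ⟨h1, h2, h3⟩ := hc
    have hg : gT k < 23256 := Nat.le_of_ble_eq_true h1
    have hh : hT k < 6480 := Nat.le_of_ble_eq_true h2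
    refine ⟨hh, IsCode.eq (otP_code H k (by omega)) ?_⟩
    rw [← Nat.eq_of_beq_eq_true h3]
    exact IsCode.mul H.two H.om (Ug_code H hg) (Sg_code H hh)
  have hstab : ∀ j, j < 6480 → Sg H j * ot H = ot H * Sg H j →
      ∃ k' l, k' < 3 ∧ l < 3 ∧ Sg H j = ot H ^ (3 * k') * gz H ^ l := by
    intro j hj hcomm
    have s := scJT_all j hj
    have r := rowsEq_spec H (ot_code H) (ot_code H) hj hcomm
    rw [scJT, ble_false hj, Bool.false_or, r] at s
    simp only [Bool.not_true, Bool.false_or] at s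
    obtain ⟨n, hn, hb⟩ := anyB_spec _ 9 s
    have ej : j = sT n := Nat.eq_of_beq_eq_true hb
    have hc := rgAll_spec slT 4 0 slT_all n (Nat.zero_le _) (by norm_num; omega)
    rw [slT, ble_false hn, Bool.false_or, Bool.and_eq_true, mulF_eq] at hc
    have hlt : sT n < 6480 := Nat.le_of_ble_eq_true hc.1
    have h3 : sC (sT n) = mulC (otP (3 * (n / 3))) (zP (n % 3)) := Nat.eq_of_beq_eq_true hc.2
    refine ⟨n / 3, n % 3, by omega, by omega, ?_⟩
    rw [ej]
    refine IsCode.eq (Sg_code H hlt) ?_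
    rw [h3]
    exact IsCode.mul H.two H.om (otP_code H _ (by omega)) (zP_code H _ (by omega))
  obtain ⟨k, hk, r, hr, e⟩ := cent_reduce H
    (R := fun r => ∃ k' l, k' < 3 ∧ l < 3 ∧ r = ot H ^ (3 * k') * gz H ^ l)
    hscan hpow hstab hc h
  obtain ⟨k', l, hk', hl, rfl⟩ := hr
  refine ⟨k + 3 * k', l, by omega, hl, ?_⟩
  rw [e, pow_add, mul_assoc]

theorem gz_pow_comm (H : Ctx ω) (e : ℕ) (g : GL Spor.F9 F) : gz H ^ e * g = g * gz H ^ e :=
  ((show Commute (gz H) g from gz_comm H g).pow_left e).eq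

theorem od_pow_twist (H : Ctx ω) (e : ℕ) :
    od H ^ e * ot H = gz H ^ e * ot H * od H ^ e := by
  induction e with
  | zero => simp
  | succ e ih =>
    calc od H ^ (e + 1) * ot H = od H ^ e * (od H * ot H) := by rw [pow_succ, mul_assoc]
      _ = od H ^ e * (gz H * ot H * od H) := by rw [od_twist']
      _ = (od H ^ e * gz H) * ot H * od H := by simp only [mul_assoc]
      _ = (gz H * od H ^ e) * ot H * od H := by rw [gz_comm H (od H ^ e)]
      _ = gz H * (od H ^ e * ot H) * od H := by simp only [mul_assoc]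
      _ = gz H * (gz H ^ e * ot H * od H ^ e) * od H := by rw [ih]
      _ = gz H ^ (e + 1) * ot H * od H ^ (e + 1) := by
          rw [pow_succ' (gz H), pow_succ (od H)]; simp only [mul_assoc]

/-- The elements commuting with `t` up to a scalar. -/
theorem cent_t_twist (H : Ctx ω) {c : GL Spor.F9 F} (hc : c ∈ Spor.threeJ3 F ω) (e : ℕ)
    (h : c * ot H = gz H ^ e * ot H * c) :
    ∃ k l : ℕ, k < 9 ∧ l < 3 ∧ c = ot H ^ k * gz H ^ l * od H ^ e := by
  have hD := od_pow_twist H e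
  have h1 : ot H * (od H ^ e)⁻¹ = gz H ^ e * ((od H ^ e)⁻¹ * ot H) := by
    have e0 : od H ^ e * ot H * (od H ^ e)⁻¹ = gz H ^ e * ot H := by rw [hD]; group
    calc ot H * (od H ^ e)⁻¹ = (od H ^ e)⁻¹ * (od H ^ e * ot H * (od H ^ e)⁻¹) := by group
      _ = ((od H ^ e)⁻¹ * gz H ^ e) * ot H := by rw [e0]; group
      _ = gz H ^ e * ((od H ^ e)⁻¹ * ot H) := by rw [← gz_pow_comm H e]; group
  have h2 : c * (od H ^ e)⁻¹ * ot H = ot H * (c * (od H ^ e)⁻¹) := by
    apply mul_left_cancel (a := gz H ^ e)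
    calc gz H ^ e * (c * (od H ^ e)⁻¹ * ot H)
        = c * (gz H ^ e * ((od H ^ e)⁻¹ * ot H)) := by
          rw [← mul_assoc, ← mul_assoc, gz_pow_comm H e c]; group
      _ = (c * ot H) * (od H ^ e)⁻¹ := by rw [← h1]; group
      _ = gz H ^ e * (ot H * (c * (od H ^ e)⁻¹)) := by rw [h]; group
  obtain ⟨k, l, hk, hl, e3⟩ :=
    cent_t H (mul_mem hc (inv_mem (pow_mem (od_mem H) e))) h2
  refine ⟨k, l, hk, hl, ?_⟩
  rw [← e3]; group

end

end Cfsg.Agent.Helper7.J3
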