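/-
Helper7 library: kernel-checked certificates for the action of the triple cover of `J₃` on the isotropic lines: the list of the 43605 normalised isotropic vectors with its tree.
-/
import Cfsg.Agent.Helper7.J3Data4

set_option autoImplicit false

namespace Cfsg.Agent.Helper7.J3

open Cfsg

theorem chkV_0 : rgAllF chkV 11 (2048 * 0) = true := by decide +kernel
theorem chkV_1 : rgAllF chkV 11 (2048 * 1) = true := by decide +kernel
theorem chkV_2 : rgAllF chkV 11 (2048 * 2) = true := by decide +kernel
theorem chkV_3 : rgAllF chkV 11 (2048 * 3) = true := by decide +kernel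
theorem chkV_4 : rgAllF chkV 11 (2048 * 4) = true := by decide +kernel
theorem chkV_5 : rgAllF chkV 11 (2048 * 5) = true := by decide +kernel
theorem chkV_6 : rgAllF chkV 11 (2048 * 6) = true := by decide +kernel
theorem chkV_7 : rgAllF chkV 11 (2048 * 7) = true := by decide +kernel
theorem chkV_8 : rgAllF chkV 11 (2048 * 8) = true := by decide +kernel
theorem chkV_9 : rgAllF chkV 11 (2048 * 9) = true := by decide +kernel
theorem chkV_10 : rgAllF chkV 11 (2048 * 10) = true := by decide +kernel
theorem chkV_11 : rgAllF chkV 11 (2048 * 11) = true := by decide +kernel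
theorem chkV_12 : rgAllF chkV 11 (2048 * 12) = true := by decide +kernel
theorem chkV_13 : rgAllF chkV 11 (2048 * 13) = true := by decide +kernel
theorem chkV_14 : rgAllF chkV 11 (2048 * 14) = true := by decide +kernel
theorem chkV_15 : rgAllF chkV 11 (2048 * 15) = true := by decide +kernel
theorem chkV_16 : rgAllF chkV 11 (2048 * 16) = true := by decide +kernel
theorem chkV_17 : rgAllF chkV 11 (2048 * 17) = true := by decide +kernel
theorem chkV_18 : rgAllF chkV 11 (2048 * 18) = true := by decide +kernel
theorem chkV_19 : rgAllF chkV 11 (2048 * 19) = true := by decide +kernel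
theorem chkV_20 : rgAllF chkV 11 (2048 * 20) = true := by decide +kernel
theorem chkV_21 : rgAllF chkV 11 (2048 * 21) = true := by decide +kernel
theorem parChk_all : rgAllF parChk 9 0 = true := by decide +kernel
theorem tr_x : isTr cX cXt = true := by decide +kernel
theorem tr_y : isTr cY cYt = true := by decide +kernel
theorem w1C_eq : w1C = packSym (eScal 2) := by decide +kernel
theorem w2C_eq : w2C = packSym (eScal 3) := by decide +kernel
theorem cntT_sum : (Finset.range 32).sum (fun k => e16 cntT k) = 43605 := by decide +kernel

end Cfsg.Agent.Helper7.J3
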