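/-
Helper7 library: kernel-checked certificates for the action of the triple cover of `J₃` on the isotropic lines: the number of codes of normalised vectors of even weight.
-/
import Cfsg.Agent.Helper7.J3Data4

set_option autoImplicit false

namespace Cfsg.Agent.Helper7.J3

open Cfsg

theorem chkCnt_0 : chkCnt 0 = true := by decide +kernel
theorem chkCnt_1 : chkCnt 1 = true := by decide +kernel
theorem chkCnt_2 : chkCnt 2 = true := by decide +kernel
theorem chkCnt_3 : chkCnt 3 = true := by decide +kernel
theorem chkCnt_4 : chkCnt 4 = true := by decide +kernel
theorem chkCnt_5 : chkCnt 5 = true := by decide +kernel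
theorem chkCnt_6 : chkCnt 6 = true := by decide +kernel
theorem chkCnt_7 : chkCnt 7 = true := by decide +kernel
theorem chkCnt_8 : chkCnt 8 = true := by decide +kernel
theorem chkCnt_9 : chkCnt 9 = true := by decide +kernel
theorem chkCnt_10 : chkCnt 10 = true := by decide +kernel
theorem chkCnt_11 : chkCnt 11 = true := by decide +kernel
theorem chkCnt_12 : chkCnt 12 = true := by decide +kernel
theorem chkCnt_13 : chkCnt 13 = true := by decide +kernel
theorem chkCnt_14 : chkCnt 14 = true := by decide +kernel
theorem chkCnt_15 : chkCnt 15 = true := by decide +kernel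
theorem chkCnt_16 : chkCnt 16 = true := by decide +kernel
theorem chkCnt_17 : chkCnt 17 = true := by decide +kernel
theorem chkCnt_18 : chkCnt 18 = true := by decide +kernel
theorem chkCnt_19 : chkCnt 19 = true := by decide +kernel
theorem chkCnt_20 : chkCnt 20 = true := by decide +kernel
theorem chkCnt_21 : chkCnt 21 = true := by decide +kernel
theorem chkCnt_22 : chkCnt 22 = true := by decide +kernel
theorem chkCnt_23 : chkCnt 23 = true := by decide +kernel
theorem chkCnt_24 : chkCnt 24 = true := by decide +kernel
theorem chkCnt_25 : chkCnt 25 = true := by decide +kernel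
theorem chkCnt_26 : chkCnt 26 = true := by decide +kernel
theorem chkCnt_27 : chkCnt 27 = true := by decide +kernel
theorem chkCnt_28 : chkCnt 28 = true := by decide +kernel
theorem chkCnt_29 : chkCnt 29 = true := by decide +kernel
theorem chkCnt_30 : chkCnt 30 = true := by decide +kernel
theorem chkCnt_31 : chkCnt 31 = true := by decide +kernel

end Cfsg.Agent.Helper7.J3
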