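/-
Helper7 library: the kernel-checked certificates for the action of the triple cover of `J₃` on the
isotropic lines, put together: the list of the normalised isotropic vectors contains every code
of a normalised vector of even weight.
-/
import Cfsg.Agent.Helper7.J3Chk11
import Cfsg.Agent.Helper7.J3Chk12
import Cfsg.Agent.Helper7.J3Checks2

set_option autoImplicit false

namespace Cfsg.Agent.Helper7.J3

open Cfsg

theorem natLetB_eq (x : ℕ) (f : ℕ → Bool) : natLetB x f = f x := by
  cases x <;> rfl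

theorem rgAllF_eq (p : ℕ → Bool) (d s : ℕ) : rgAllF p d s = rgAll p d s := by
  induction d generalizing s with
  | zero => exact natLetB_eq s p
  | succ d ih =>
    show natLetB s (fun s' => rgAllF p d s' && rgAllF p d (Nat.add s' (Nat.pow 2 d))) = _
    rw [natLetB_eq, ih, ih]; rfl

theorem chkV_all (k : ℕ) (hk : k < 43605) : chkV k = true := by
  refine rg_cover chkV 11 22 (fun j hj => ?_) k (by norm_num; omega)
  rw [← rgAllF_eq]
  interval_cases j
  · exact chkV_0
  · exact chkV_1
  · exact chkV_2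
  · exact chkV_3
  · exact chkV_4
  · exact chkV_5
  · exact chkV_6
  · exact chkV_7
  · exact chkV_8
  · exact chkV_9
  · exact chkV_10
  · exact chkV_11
  · exact chkV_12
  · exact chkV_13
  · exact chkV_14
  · exact chkV_15
  · exact chkV_16
  · exact chkV_17
  · exact chkV_18
  · exact chkV_19
  · exact chkV_20
  · exact chkV_21

theorem chkV_spec {k : ℕ} (hk : k < 43605) : isNE (vC k) = true ∧
    (k < 43604 → vC k < vC (k + 1)) ∧
    (k ≠ vRoot → e16 j3VDep (e16 j3VPar k) < e16 j3VDep k ∧ e16 j3VPar k < 43605 ∧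
      e16 j3VGen k < 2 ∧ 0 < e16 j3VSc k ∧ e16 j3VSc k < 4 ∧
      crow (vC (e16 j3VPar k)) (gtC (e16 j3VGen k)) = crow (vC k) (scC (e16 j3VSc k))) := by
  have h := chkV_all k hk
  rw [chkV, ble_false hk, Bool.false_or, Bool.and_eq_true, Bool.and_eq_true] at h
  refine ⟨h.1, fun hk' => ?_, fun hr => ?_⟩
  · have h3 := h.2.1
    rw [ble_false hk', Bool.false_or] at h3
    exact Nat.le_of_ble_eq_true h3
  · have h4 := h.2.2
    rw [beq_false hr, Bool.false_or] at h4
    simp only [natLetB_eq, Bool.and_eq_true, crowF_eq] at h4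
    exact ⟨Nat.le_of_ble_eq_true h4.1, Nat.le_of_ble_eq_true h4.2.1,
      Nat.le_of_ble_eq_true h4.2.2.1, Nat.le_of_ble_eq_true h4.2.2.2.1,
      Nat.le_of_ble_eq_true h4.2.2.2.2.1, Nat.eq_of_beq_eq_true h4.2.2.2.2.2⟩

theorem chkCnt_all (k : ℕ) (hk : k < 32) : chkCnt k = true := by
  interval_cases k
  · exact chkCnt_0
  · exact chkCnt_1
  · exact chkCnt_2
  · exact chkCnt_3
  · exact chkCnt_4
  · exact chkCnt_5
  · exact chkCnt_6
  · exact chkCnt_7
  · exact chkCnt_8
  · exact chkCnt_9
  · exact chkCnt_10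
  · exact chkCnt_11
  · exact chkCnt_12
  · exact chkCnt_13
  · exact chkCnt_14
  · exact chkCnt_15
  · exact chkCnt_16
  · exact chkCnt_17
  · exact chkCnt_18
  · exact chkCnt_19
  · exact chkCnt_20
  · exact chkCnt_21
  · exact chkCnt_22
  · exact chkCnt_23
  · exact chkCnt_24
  · exact chkCnt_25
  · exact chkCnt_26
  · exact chkCnt_27
  · exact chkCnt_28
  · exact chkCnt_29
  · exact chkCnt_30
  · exact chkCnt_31

theorem rgCnt_split (p : ℕ → Bool) (d : ℕ) : ∀ e s,
    rgCnt p (d + e) s = ∑ k ∈ Finset.range (2 ^ e), rgCnt p d (s + 2 ^ d * k) := by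
  intro e
  induction e with
  | zero => intro s; simp
  | succ e ih =>
    intro s
    have h1 : rgCnt p (d + (e + 1)) s =
        rgCnt p (d + e) s + rgCnt p (d + e) (s + 2 ^ (d + e)) := rfl
    rw [h1, ih, ih, pow_succ, mul_two, Finset.sum_range_add]
    congr 1
    refine Finset.sum_congr rfl (fun k _ => ?_)
    rw [pow_add, mul_add, add_assoc]

theorem cntNE_total : rgCnt isNE 18 0 = 43605 := by
  have h := rgCnt_split isNE 13 5 0
  have e : rgCnt isNE 18 0 = rgCnt isNE (13 + 5) 0 := rfl
  rw [e, h, ← cntT_sum]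
  refine Finset.sum_congr rfl (fun k hk => ?_)
  have hk' : k < 32 := by simpa using hk
  have h3 : rgCnt isNE 13 (8192 * k) = e16 cntT k := Nat.eq_of_beq_eq_true (chkCnt_all k hk')
  rw [← h3, show 0 + 2 ^ 13 * k = 8192 * k by norm_num]

theorem card_NE : ((Finset.range (2 ^ 18)).filter (fun c => isNE c = true)).card = 43605 := by
  have h := rgCnt_spec isNE 18 0
  rw [cntNE_total] at h
  have e : Finset.Ico 0 (0 + 2 ^ 18) = Finset.range (2 ^ 18) := by
    rw [zero_add, Finset.range_eq_Ico]
  rw [e] at h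
  exact h.symm

theorem vC_lt (k : ℕ) : vC k < 2 ^ 18 := Nat.mod_lt _ (by norm_num)

theorem vC_strict : ∀ j i, i < j → j < 43605 → vC i < vC j := by
  intro j
  induction j with
  | zero => intro i h; omega
  | succ j ih =>
    intro i hi hj
    have h1 := (chkV_spec (k := j) (by omega)).2.1 (by omega)
    rcases Nat.lt_succ_iff_lt_or_eq.mp hi with h | h
    · exact lt_trans (ih i h (by omega)) h1
    · subst h; exact h1

/-- Every code of a normalised vector of even weight is in the list. -/
theorem cover_NE {c : ℕ} (hc : c < 2 ^ 18) (h : isNE c = true) : ∃ k, k < 43605 ∧ vC k = c := by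
  classical
  have hsub : (Finset.range 43605).image vC ⊆
      (Finset.range (2 ^ 18)).filter (fun c => isNE c = true) := by
    intro x hx
    obtain ⟨k, hk, rfl⟩ := Finset.mem_image.mp hx
    rw [Finset.mem_range] at hk
    exact Finset.mem_filter.mpr ⟨Finset.mem_range.mpr (vC_lt k), (chkV_spec hk).1⟩
  have hcard : ((Finset.range 43605).image vC).card = 43605 := by
    rw [Finset.card_image_of_injOn, Finset.card_range]
    intro a ha b hb hab
    have ha' : a < 43605 := by simpa using ha
    have hb' : b < 43605 := by simpa using hb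
    rcases lt_trichotomy a b with h1 | h1 | h1
    · exact absurd hab (ne_of_lt (vC_strict b a h1 hb'))
    · exact h1
    · exact absurd hab.symm (ne_of_lt (vC_strict a b h1 ha'))
  have heq := Finset.eq_of_subset_of_card_le hsub (by rw [card_NE, hcard])
  have hm : c ∈ (Finset.range 43605).image vC := by
    rw [heq]; exact Finset.mem_filter.mpr ⟨Finset.mem_range.mpr hc, h⟩
  obtain ⟨k, hk, rfl⟩ := Finset.mem_image.mp hm
  exact ⟨k, Finset.mem_range.mp hk, rfl⟩

theorem isTr_spec {c d : ℕ} (h : isTr c d = true) {w z : ℕ} (hw : w < 9) (hz : z < 9) :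
    bitN d (18 * w + z) = bitN c (18 * z + w) ∧
      bitN d (18 * w + 9 + z) = bitN c (18 * z + 9 + w) := by
  have h1 : (Nat.ble 81 (9 * w + z) || trAt c d ((9 * w + z) / 9) ((9 * w + z) % 9)) = true :=
    rgAll_spec _ _ _ h (9 * w + z) (Nat.zero_le _) (by norm_num; omega)
  rw [ble_false (by omega), Bool.false_or, show (9 * w + z) / 9 = w by omega,
    show (9 * w + z) % 9 = z by omega, trAt, Bool.and_eq_true] at h1
  exact ⟨Nat.eq_of_beq_eq_true h1.1, Nat.eq_of_beq_eq_true h1.2⟩

theorem parChk_spec {m : ℕ} (hm : m < 512) :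
    bitN parTab m = (∑ k ∈ Finset.range 9, bitN m k) % 2 := by
  have h0 : rgAll parChk 9 0 = true := by rw [← rgAllF_eq]; exact parChk_all
  have h := rgAll_spec _ _ _ h0 m (Nat.zero_le _) (by norm_num; omega)
  have h' : bitN parTab m = (bitN m 0 + (bitN m 1 + (bitN m 2 + (bitN m 3 + (bitN m 4 +
      (bitN m 5 + (bitN m 6 + (bitN m 7 + bitN m 8)))))))) % 2 := Nat.eq_of_beq_eq_true h
  rw [h']
  simp only [Finset.sum_range_succ, Finset.sum_range_zero]
  omega

end Cfsg.Agent.Helper7.J3
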