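/-
Helper7 library: kernel-checked certificates for the unitary form of the triple cover of `J₃`: the
conjugate transposes of the generators are their inverses, and the commutator of the two
generators is not a scalar.
-/
import Cfsg.Agent.Helper7.J3Data

set_option autoImplicit false

namespace Cfsg.Agent.Helper7.J3

open Cfsg

/-- Entry `(w, z)` of `d` is the square of entry `(z, w)` of `c`. -/
def ctAt (c d w z : ℕ) : Bool :=
  Nat.beq (bitN d (18 * w + z)) ((bitN c (18 * z + w) + bitN c (18 * z + 9 + w)) % 2) &&
    Nat.beq (bitN d (18 * w + 9 + z)) (bitN c (18 * z + 9 + w))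

/-- `d` is the code of the conjugate transpose of the matrix with code `c`. -/
def isCT (c d : ℕ) : Bool := rgAll (fun t => Nat.ble 81 t || ctAt c d (t / 9) (t % 9)) 7 0

/-- The codes of the conjugate transposes of the two generators. -/
def cXh : ℕ := 0x19000680000e002c0013000118004c001280001
def cYh : ℕ := 0x400008040004402000040804002000000204000

theorem ct_x : isCT cX cXh = true ∧ mulC cXh cX = idC := by decide +kernel
theorem ct_y : isCT cY cYh = true ∧ mulC cYh cY = idC := by decide +kernel
theorem ct_z : isCT (packSym (eScal 2)) (packSym (eScal 3)) = true ∧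
    mulC (packSym (eScal 3)) (packSym (eScal 2)) = idC := by decide +kernel
theorem comm_ne0 : mulC cX cY ≠ mulC idC (mulC cY cX) := by decide +kernel
theorem comm_ne1 : mulC cX cY ≠ mulC (packSym (eScal 2)) (mulC cY cX) := by decide +kernel
theorem comm_ne2 : mulC cX cY ≠ mulC (packSym (eScal 3)) (mulC cY cX) := by decide +kernel

end Cfsg.Agent.Helper7.J3
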