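/-
Helper7 library: the hypotheses of the abstract criterion for the outer automorphism group, for
the Janko group `J₃` as the central quotient of its triple cover: an element of order 19 that is
its own centraliser, an element of order 9 normalising it, and an element inverting the latter.
-/
import Cfsg.Agent.Helper7.J3Cent
import Cfsg.Agent.Helper7.J3OutAbs

set_option autoImplicit false

namespace Cfsg.Agent.Helper7.J3

open Cfsg

section
variable {F : Type*} [Field F] {ω : F}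

theorem center_cases (H : Ctx ω) {n : ↥(Spor.threeJ3 F ω)}
    (hn : n ∈ Subgroup.center ↥(Spor.threeJ3 F ω)) :
    ∃ e, e < 3 ∧ (n : GL Spor.F9 F) = gz H ^ e := by
  rcases normal_cases H (Subgroup.center ↥(Spor.threeJ3 F ω)) with h | h
  · rcases h n hn with h1 | h1 | h1
    · exact ⟨0, by norm_num, by rw [h1, pow_zero]⟩
    · exact ⟨1, by norm_num, by rw [h1, pow_one]⟩
    · exact ⟨2, by norm_num, by rw [h1, pow_two]⟩
  · exfalso
    have hx : (⟨gx H, (gens_spec H).1⟩ : ↥(Spor.threeJ3 F ω)) ∈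
        Subgroup.center ↥(Spor.threeJ3 F ω) := by rw [h]; trivial
    have hc := (Subgroup.mem_center_iff.mp hx) ⟨gy H, (gens_spec H).2.1⟩
    have hc' : gy H * gx H = gx H * gy H := congrArg Subtype.val hc
    have c1 := IsCode.mul H.two H.om (gens_spec H).2.2.2.2.1 (gens_spec H).2.2.2.1
    have c2 := IsCode.mul H.two H.om (gens_spec H).2.2.2.1 (gens_spec H).2.2.2.2.1
    rw [hc'] at c1
    exact xy_ne' (IsCodeM.code_eq H.two H.om c2 c1 (mulC_lt _ _) (mulC_lt _ _))

theorem gz_pow3 (H : Ctx ω) : gz H ^ 3 = 1 := by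
  rw [pow_succ, pow_two, mul_assoc]; exact gz_cube H

/-- The elements as elements of the triple cover. -/
noncomputable def oaS (H : Ctx ω) : ↥(Spor.threeJ3 F ω) := ⟨oa H, oa_mem H⟩
noncomputable def otS (H : Ctx ω) : ↥(Spor.threeJ3 F ω) := ⟨ot H, ot_mem H⟩
noncomputable def oxS (H : Ctx ω) : ↥(Spor.threeJ3 F ω) := ⟨ox H, ox_mem H⟩
noncomputable def odS (H : Ctx ω) : ↥(Spor.threeJ3 F ω) := ⟨od H, od_mem H⟩

/-- Their classes in `J₃`. -/
noncomputable def qa (H : Ctx ω) : Spor.J3 F ω := QuotientGroup.mk (oaS H)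
noncomputable def qt (H : Ctx ω) : Spor.J3 F ω := QuotientGroup.mk (otS H)
noncomputable def qx (H : Ctx ω) : Spor.J3 F ω := QuotientGroup.mk (oxS H)
noncomputable def qd (H : Ctx ω) : Spor.J3 F ω := QuotientGroup.mk (odS H)

theorem zq_one (H : Ctx ω) : (QuotientGroup.mk (zG H) : Spor.J3 F ω) = 1 :=
  (QuotientGroup.eq_one_iff _).mpr (zG_mem_center H)

theorem zP_lt : ∀ e, e < 3 → zP e < 2 ^ 162 := by decide

theorem qa_order (H : Ctx ω) : orderOf (qa H) = 19 := by
  have : Fact (Nat.Prime 19) := ⟨by norm_num⟩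
  refine orderOf_eq_prime ?_ ?_
  · have e : oaS H ^ 19 = 1 :=
      Subtype.ext (by rw [Subgroup.coe_pow]; exact oa_pow19' H)
    show (QuotientGroup.mk (oaS H) : Spor.J3 F ω) ^ 19 = 1
    rw [← QuotientGroup.mk_pow, e]; rfl
  · intro h
    have h1 : oaS H ∈ Subgroup.center ↥(Spor.threeJ3 F ω) := (QuotientGroup.eq_one_iff _).mp h
    obtain ⟨e, he, h2⟩ := center_cases H h1
    have h2' : oa H = gz H ^ e := h2
    have c1 := oa_code H
    rw [h2'] at c1
    have hcode := IsCodeM.code_eq H.two H.om c1 (zP_code H e he) (by decide) (zP_lt e he)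
    have hne : ∀ e, e < 3 → oaC ≠ zP e := by decide
    exact hne e he hcode

theorem qt_norm (H : Ctx ω) : qt H * qa H * (qt H)⁻¹ = qa H ^ 4 := by
  rw [mul_inv_eq_iff_eq_mul]
  have e : otS H * oaS H = oaS H ^ 4 * otS H :=
    Subtype.ext (by rw [Subgroup.coe_mul, Subgroup.coe_mul, Subgroup.coe_pow]; exact ot_norm' H)
  show (QuotientGroup.mk (otS H) : Spor.J3 F ω) * QuotientGroup.mk (oaS H) =
    QuotientGroup.mk (oaS H) ^ 4 * QuotientGroup.mk (otS H)
  rw [← QuotientGroup.mk_mul, e, QuotientGroup.mk_mul, QuotientGroup.mk_pow]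

theorem qt_pow9 (H : Ctx ω) : qt H ^ 9 = 1 := by
  have e : otS H ^ 9 = 1 := Subtype.ext (by rw [Subgroup.coe_pow]; exact ot_pow9' H)
  show (QuotientGroup.mk (otS H) : Spor.J3 F ω) ^ 9 = 1
  rw [← QuotientGroup.mk_pow, e]; rfl

theorem qx_inv (H : Ctx ω) : qx H * qt H * (qx H)⁻¹ = (qt H)⁻¹ := by
  rw [mul_inv_eq_iff_eq_mul]
  have e : oxS H * otS H = otS H ^ 8 * oxS H :=
    Subtype.ext (by rw [Subgroup.coe_mul, Subgroup.coe_mul, Subgroup.coe_pow]; exact ox_inv' H)
  have e8 : (qt H)⁻¹ = qt H ^ 8 := by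
    rw [inv_eq_iff_mul_eq_one, ← pow_succ']; exact qt_pow9 H
  rw [e8]
  show (QuotientGroup.mk (oxS H) : Spor.J3 F ω) * QuotientGroup.mk (otS H) =
    QuotientGroup.mk (otS H) ^ 8 * QuotientGroup.mk (oxS H)
  rw [← QuotientGroup.mk_mul, e, QuotientGroup.mk_mul, QuotientGroup.mk_pow]

/-- Commuting classes: the representatives commute up to a scalar. -/
theorem comm_lift (H : Ctx ω) {c g : GL Spor.F9 F} (hc : c ∈ Spor.threeJ3 F ω)
    (hg : g ∈ Spor.threeJ3 F ω)
    (h : (QuotientGroup.mk (⟨c, hc⟩ : ↥(Spor.threeJ3 F ω)) : Spor.J3 F ω) *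
      QuotientGroup.mk (⟨g, hg⟩ : ↥(Spor.threeJ3 F ω)) =
      QuotientGroup.mk (⟨g, hg⟩ : ↥(Spor.threeJ3 F ω)) *
        QuotientGroup.mk (⟨c, hc⟩ : ↥(Spor.threeJ3 F ω))) :
    ∃ e, e < 3 ∧ c * g = gz H ^ e * g * c := by
  have h' : (QuotientGroup.mk ((⟨g, hg⟩ : ↥(Spor.threeJ3 F ω)) * ⟨c, hc⟩) : Spor.J3 F ω) =
      QuotientGroup.mk ((⟨c, hc⟩ : ↥(Spor.threeJ3 F ω)) * ⟨g, hg⟩) := h.symm
  obtain ⟨e, he, h2⟩ := center_cases H (QuotientGroup.eq.mp h')
  rw [Subgroup.coe_mul, Subgroup.coe_inv, Subgroup.coe_mul, Subgroup.coe_mul] at h2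
  refine ⟨e, he, ?_⟩
  have h3 : c * g = g * c * gz H ^ e := by rw [← h2]; group
  rw [h3, gz_pow_comm H e g, mul_assoc, mul_assoc, gz_pow_comm H e c]

theorem qa_cent (H : Ctx ω) (q : Spor.J3 F ω) (h : q * qa H = qa H * q) :
    q ∈ Subgroup.zpowers (qa H) := by
  obtain ⟨⟨c, hc⟩, rfl⟩ := QuotientGroup.mk_surjective q
  obtain ⟨e, he, h3⟩ := comm_lift H hc (oa_mem H) h
  have hz : (gz H ^ e) ^ 19 = 1 := by
    have e1 : c * oa H * c⁻¹ = oa H * gz H ^ e := by
      rw [h3, gz_pow_comm H e (oa H)]; group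
    have e2 : (oa H * gz H ^ e) ^ 19 = 1 := by rw [← e1, conj_pow, oa_pow19']; group
    have e3 : Commute (oa H) (gz H ^ e) := (gz_pow_comm H e (oa H)).symm
    rw [e3.mul_pow, oa_pow19', one_mul] at e2
    exact e2
  have he0 : e = 0 := by
    by_contra hne
    have hd1 : orderOf (gz H) ∣ e * 19 := orderOf_dvd_of_pow_eq_one (by rw [pow_mul]; exact hz)
    have hd2 : orderOf (gz H) ∣ 3 := orderOf_dvd_of_pow_eq_one (gz_pow3 H)
    have hd : orderOf (gz H) ∣ Nat.gcd (e * 19) 3 := Nat.dvd_gcd hd1 hd2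
    have hg : Nat.gcd (e * 19) 3 = 1 := by
      have : e = 1 ∨ e = 2 := by omega
      rcases this with rfl | rfl <;> decide
    rw [hg, Nat.dvd_one, orderOf_eq_one_iff] at hd
    exact gz_ne_one H hd
  subst he0
  rw [pow_zero, one_mul] at h3
  obtain ⟨k, l, hk, hl, e4⟩ := cent_a H hc h3
  rw [Subgroup.mem_zpowers_iff]
  refine ⟨(k : ℤ), ?_⟩
  rw [zpow_natCast]
  have e5 : (⟨c, hc⟩ : ↥(Spor.threeJ3 F ω)) = oaS H ^ k * zG H ^ l :=
    Subtype.ext (by rw [Subgroup.coe_mul, Subgroup.coe_pow, Subgroup.coe_pow]; exact e4)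
  rw [e5, QuotientGroup.mk_mul, QuotientGroup.mk_pow, QuotientGroup.mk_pow, zq_one, one_pow,
    mul_one]
  rfl

theorem qt_cent (H : Ctx ω) (q : Spor.J3 F ω) (h : q * qt H = qt H * q) :
    ∃ k l : ℕ, k < 9 ∧ l < 3 ∧ q = qt H ^ k * qd H ^ l := by
  obtain ⟨⟨c, hc⟩, rfl⟩ := QuotientGroup.mk_surjective q
  obtain ⟨e, he, h3⟩ := comm_lift H hc (ot_mem H) h
  obtain ⟨k, l, hk, hl, e4⟩ := cent_t_twist H hc e h3
  refine ⟨k, e, hk, he, ?_⟩
  have e5 : (⟨c, hc⟩ : ↥(Spor.threeJ3 F ω)) = otS H ^ k * zG H ^ l * odS H ^ e :=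
    Subtype.ext (by
      rw [Subgroup.coe_mul, Subgroup.coe_mul, Subgroup.coe_pow, Subgroup.coe_pow,
        Subgroup.coe_pow]; exact e4)
  rw [e5, QuotientGroup.mk_mul, QuotientGroup.mk_mul, QuotientGroup.mk_pow, QuotientGroup.mk_pow,
    QuotientGroup.mk_pow, zq_one, one_pow, mul_one]
  rfl

theorem pow8C_eq (c : ℕ) : pow8C c =
    mulC (mulC (mulC c c) (mulC c c)) (mulC (mulC c c) (mulC c c)) := by
  simp only [pow8C, natLetN_eq, mulF_eq]

theorem pow8C_code (H : Ctx ω) {g : GL Spor.F9 F} {c : ℕ} (h : IsCode ω g c) :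
    IsCode ω (g ^ 8) (pow8C c) := by
  have h2 := IsCode.mul H.two H.om h h
  have h4 := IsCode.mul H.two H.om h2 h2
  have h8 := IsCode.mul H.two H.om h4 h4
  rw [pow8C_eq]
  have e : g ^ 8 = g * g * (g * g) * (g * g * (g * g)) := by
    simp only [pow_succ, pow_zero, one_mul, mul_assoc]
  rw [e]; exact h8

theorem odP_code (H : Ctx ω) : ∀ l, l < 3 → IsCode ω (od H ^ l) (odP l) := by
  intro l hl
  interval_cases l
  · rw [pow_zero]; exact isCode_one
  · rw [pow_one]; exact od_code H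
  · rw [pow_two]
    have h := IsCode.mul H.two H.om (od_code H) (od_code H)
    rw [od_eq.2] at h
    exact h

theorem q_excl (H : Ctx ω) (k l : ℕ) (hk : k < 9) (hl : l < 3)
    (h : (qa H * (qx H * (qt H ^ k * qd H ^ l))) ^ 8 = 1) : qt H ^ k * qd H ^ l = 1 := by
  have h1 : (oaS H * (oxS H * (otS H ^ k * odS H ^ l))) ^ 8 ∈
      Subgroup.center ↥(Spor.threeJ3 F ω) := (QuotientGroup.eq_one_iff _).mp h
  obtain ⟨e, he, h2⟩ := center_cases H h1
  rw [Subgroup.coe_pow, Subgroup.coe_mul, Subgroup.coe_mul, Subgroup.coe_mul, Subgroup.coe_pow,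
    Subgroup.coe_pow] at h2
  have h2' : (oa H * (ox H * (ot H ^ k * od H ^ l))) ^ 8 = gz H ^ e := h2
  have c1 := pow8C_code H (IsCode.mul H.two H.om (oa_code H) (IsCode.mul H.two H.om (ox_code H)
    (IsCode.mul H.two H.om (otP_code H k (by omega)) (odP_code H l hl))))
  rw [h2'] at c1
  have hcode := IsCodeM.code_eq H.two H.om c1 (zP_code H e he)
    (by rw [pow8C_eq]; exact mulC_lt _ _) (zP_lt e he)
  have hx := rgAll_spec exC 5 0 exC_all (3 * k + l) (Nat.zero_le _) (by norm_num; omega)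
  rw [exC, ble_false (by omega)] at hx
  simp only [Bool.false_or, Bool.or_eq_true] at hx
  have hkl : 3 * k + l = 0 := by
    rcases hx with hx | hx
    · exact Nat.eq_of_beq_eq_true hx
    · exfalso
      have d1 : Nat.div (3 * k + l) 3 = k := by show (3 * k + l) / 3 = k; omega
      have d2 : Nat.mod (3 * k + l) 3 = l := by show (3 * k + l) % 3 = l; omega
      rw [d1, d2, mulF_eq, mulF_eq, mulF_eq, hcode] at hx
      have hs : ∀ e, e < 3 → (!isScalC (zP e)) = false := by decide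
      rw [hs e he] at hx
      exact Bool.false_ne_true hx
  have hk0 : k = 0 := by omega
  have hl0 : l = 0 := by omega
  subst hk0; subst hl0
  simp

theorem q_ax8 (H : Ctx ω) : (qa H * qx H) ^ 8 = 1 := by
  have c1 := pow8C_code H (IsCode.mul H.two H.om (oa_code H) (ox_code H))
  rw [ox_pow8] at c1
  have e : (oa H * ox H) ^ 8 = gz H ^ 2 := IsCode.eq c1 (zP_code H 2 (by norm_num))
  have e' : (oaS H * oxS H) ^ 8 = zG H ^ 2 :=
    Subtype.ext (by rw [Subgroup.coe_pow, Subgroup.coe_mul, Subgroup.coe_pow]; exact e)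
  show (QuotientGroup.mk (oaS H) * QuotientGroup.mk (oxS H) : Spor.J3 F ω) ^ 8 = 1
  rw [← QuotientGroup.mk_mul, ← QuotientGroup.mk_pow, e', QuotientGroup.mk_pow, zq_one, one_pow]

/-! ### Generation -/

/-- Letter `n`: `a`, `a⁻¹`, `t`, `t⁻¹`, `x`. -/
noncomputable def letG (H : Ctx ω) (n : ℕ) : GL Spor.F9 F :=
  match n with
  | 0 => oa H
  | 1 => (oa H)⁻¹
  | 2 => ot H
  | 3 => (ot H)⁻¹
  | _ => ox H

/-- The value of a word. -/
noncomputable def wordG (H : Ctx ω) : List ℕ → GL Spor.F9 F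
  | [] => 1
  | n :: l => letG H n * wordG H l

theorem letG_code (H : Ctx ω) (n : ℕ) : IsCode ω (letG H n) (letC n) := by
  have ha : (oa H)⁻¹ = oa H ^ 18 := by
    rw [inv_eq_iff_mul_eq_one, ← pow_succ']; exact oa_pow19' H
  have ht : (ot H)⁻¹ = ot H ^ 8 := by
    rw [inv_eq_iff_mul_eq_one, ← pow_succ']; exact ot_pow9' H
  match n with
  | 0 => exact oa_code H
  | 1 => show IsCode ω (oa H)⁻¹ oa18; rw [ha]; exact oaP_code H 18 (by norm_num)
  | 2 => exact ot_code H
  | 3 => show IsCode ω (ot H)⁻¹ ot8; rw [ht]; exact otP_code H 8 (by norm_num)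
  | _ + 4 => exact ox_code H

theorem wordG_code (H : Ctx ω) : ∀ l, IsCode ω (wordG H l) (wordC l)
  | [] => isCode_one
  | n :: l => IsCode.mul H.two H.om (letG_code H n) (wordG_code H l)

theorem letG_mem (H : Ctx ω) (n : ℕ) :
    letG H n ∈ Subgroup.closure ({oa H, ot H, ox H} : Set (GL Spor.F9 F)) := by
  have ha : oa H ∈ Subgroup.closure ({oa H, ot H, ox H} : Set (GL Spor.F9 F)) :=
    Subgroup.subset_closure (by simp)
  have ht : ot H ∈ Subgroup.closure ({oa H, ot H, ox H} : Set (GL Spor.F9 F)) :=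
    Subgroup.subset_closure (by simp)
  have hx : ox H ∈ Subgroup.closure ({oa H, ot H, ox H} : Set (GL Spor.F9 F)) :=
    Subgroup.subset_closure (by simp)
  match n with
  | 0 => exact ha
  | 1 => exact inv_mem ha
  | 2 => exact ht
  | 3 => exact inv_mem ht
  | _ + 4 => exact hx

theorem wordG_mem (H : Ctx ω) : ∀ l,
    wordG H l ∈ Subgroup.closure ({oa H, ot H, ox H} : Set (GL Spor.F9 F))
  | [] => one_mem _
  | n :: l => mul_mem (letG_mem H n) (wordG_mem H l)

theorem q_gen (H : Ctx ω) :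
    Subgroup.closure ({qa H, qt H, qx H} : Set (Spor.J3 F ω)) = ⊤ := by
  rw [eq_top_iff]
  -- the elements of the triple cover whose class lies in the closure
  let K : Subgroup ↥(Spor.threeJ3 F ω) :=
    (Subgroup.closure ({qa H, qt H, qx H} : Set (Spor.J3 F ω))).comap
      (QuotientGroup.mk' (Subgroup.center ↥(Spor.threeJ3 F ω)))
  let M : Subgroup (GL Spor.F9 F) := K.map (Subgroup.subtype (Spor.threeJ3 F ω))
  have hMa : oa H ∈ M := ⟨oaS H, Subgroup.subset_closure (by simp [qa]), rfl⟩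
  have hMt : ot H ∈ M := ⟨otS H, Subgroup.subset_closure (by simp [qt]), rfl⟩
  have hMx : ox H ∈ M := ⟨oxS H, Subgroup.subset_closure (by simp [qx]), rfl⟩
  have hMz : gz H ∈ M := by
    refine ⟨zG H, ?_, rfl⟩
    show (QuotientGroup.mk (zG H) : Spor.J3 F ω) ∈
      Subgroup.closure ({qa H, qt H, qx H} : Set (Spor.J3 F ω))
    rw [zq_one]; exact one_mem _
  have hcl : Subgroup.closure ({oa H, ot H, ox H} : Set (GL Spor.F9 F)) ≤ M := by
    rw [Subgroup.closure_le]
    rintro g (rfl | rfl | rfl)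
    · exact hMa
    · exact hMt
    · exact hMx
  have hgx : gx H ∈ M := by
    have e : gx H = wordG H owX :=
      IsCode.eq (gens_spec H).2.2.2.1 (by rw [← owX_eq]; exact wordG_code H owX)
    rw [e]; exact hcl (wordG_mem H owX)
  have hgy : gy H ∈ M := by
    have e : gy H = wordG H owY :=
      IsCode.eq (gens_spec H).2.2.2.2.1 (by rw [← owY_eq]; exact wordG_code H owY)
    rw [e]; exact hcl (wordG_mem H owY)
  have hle : Spor.threeJ3 F ω ≤ M := by
    rw [threeJ3_eq H, H3, Subgroup.closure_le]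
    rintro g (rfl | rfl | rfl)
    · exact hgx
    · exact hgy
    · exact hMz
  intro q _
  obtain ⟨⟨c, hc⟩, rfl⟩ := QuotientGroup.mk_surjective q
  obtain ⟨y, hy, ey⟩ := hle hc
  have : y = ⟨c, hc⟩ := Subtype.ext ey
  rw [← this]
  exact hy

theorem card_J3_fact (H : Ctx ω) : (Nat.card (Spor.J3 F ω)).factorization 19 = 1 := by
  rw [card_J3 H, show (50232960 : ℕ) = 19 * 2643840 by norm_num,
    Nat.factorization_mul (by norm_num) (by norm_num)]
  have h1 : (19 : ℕ).factorization 19 = 1 :=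
    Nat.Prime.factorization_self (by norm_num)
  have h2 : (2643840 : ℕ).factorization 19 = 0 :=
    Nat.factorization_eq_zero_of_not_dvd (by norm_num)
  rw [Finsupp.add_apply, h1, h2]

/-- The outer automorphism group has order 2 as soon as there is an automorphism that is not
inner. -/
theorem card_out_of_outer (H : Ctx ω) (φ : MulAut (Spor.J3 F ω))
    (hφ : φ ∉ Inn (Spor.J3 F ω)) : Nat.card (Out (Spor.J3 F ω)) = 2 := by
  have hfin : Finite (Spor.J3 F ω) :=
    Nat.finite_of_card_ne_zero (by rw [card_J3 H]; norm_num)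
  exact card_out_abs (card_J3_fact H) (qa_order H) (qt_norm H) (qa_cent H) (qt_cent H)
    (qx_inv H) (q_excl H) (q_ax8 H) (q_gen H) φ hφ

end

end Cfsg.Agent.Helper7.J3
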