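/-
Helper7 library: the triple cover `3·J₃` preserves the hermitian form `Σ u_z v_z²` and consists of
matrices of determinant 1, so that it embeds in the special unitary group `SU₉(2)`.
-/
import Cfsg.Agent.Helper7.J3Chk10
import Cfsg.Agent.Helper7.J3Simple
import Cfsg.Prelude.Def_Classical
import Cfsg.Prelude.Def_Sporadic

set_option autoImplicit false

namespace Cfsg.Agent.Helper7.J3

open Cfsg
open scoped Matrix

section
variable {F : Type*} [Field F] {ω : F}

theorem isCT_spec {c d : ℕ} (h : isCT c d = true) {w z : ℕ} (hw : w < 9) (hz : z < 9) :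
    bitN d (18 * w + z) = (bitN c (18 * z + w) + bitN c (18 * z + 9 + w)) % 2 ∧
      bitN d (18 * w + 9 + z) = bitN c (18 * z + 9 + w) := by
  have h1 : (Nat.ble 81 (9 * w + z) || ctAt c d ((9 * w + z) / 9) ((9 * w + z) % 9)) = true :=
    rgAll_spec _ _ _ h (9 * w + z) (Nat.zero_le _) (by norm_num; omega)
  rw [ble_false (by omega), Bool.false_or, show (9 * w + z) / 9 = w by omega,
    show (9 * w + z) % 9 = z by omega, ctAt, Bool.and_eq_true] at h1
  exact ⟨Nat.eq_of_beq_eq_true h1.1, Nat.eq_of_beq_eq_true h1.2⟩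

theorem el_sq (h2 : (2 : F) = 0) (hω : ω ^ 2 + ω + 1 = 0) {a0 a1 : ℕ} (ha0 : a0 < 2)
    (ha1 : a1 < 2) : (el ω a0 a1) ^ 2 = el ω ((a0 + a1) % 2) a1 := by
  have hs := omega_sq h2 hω
  interval_cases a0 <;> interval_cases a1
  · simp [el]
  · simp only [el]; norm_num; exact hs
  · simp [el]
  · simp only [el]; norm_num; linear_combination hs + (1 + ω) * h2

/-- The code of the conjugate transpose. -/
theorem isCodeM_ct (h2 : (2 : F) = 0) (hω : ω ^ 2 + ω + 1 = 0) {M : Matrix Spor.F9 Spor.F9 F}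
    {c d : ℕ} (hM : IsCodeM ω M c) (h : isCT c d = true) :
    IsCodeM ω (Matrix.of fun w z => (M z w) ^ 2) d := by
  intro w z
  obtain ⟨e1, e2⟩ := isCT_spec h (ix_lt w) (ix_lt z)
  rw [Matrix.of_apply, hM z w, el_sq h2 hω (bitN_lt _ _) (bitN_lt _ _), e1, e2]

/-- The hermitian form on the 9-space. -/
def herm9 (u v : Spor.F9 → F) : F := ∑ z, u z * (v z) ^ 2

/-- The matrices preserving the hermitian form. -/
def UU (F : Type*) [Field F] : Subgroup (GL Spor.F9 F) :=
  Cfsg.preserving (Units.coeHom (Matrix Spor.F9 Spor.F9 F)) herm9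

theorem mem_UU_of_code (H : Ctx ω) {g : GL Spor.F9 F} {c d : ℕ} (hc : IsCode ω g c)
    (hct : isCT c d = true) (hm : mulC d c = idC) : g ∈ UU F := by
  have : CharP F 2 := CharTwo.of_one_ne_zero_of_two_eq_zero one_ne_zero H.two
  have hN := isCodeM_ct H.two H.om hc hct
  have e1 : (Matrix.of fun w z => ((g : Matrix Spor.F9 Spor.F9 F) z w) ^ 2) *
      (g : Matrix Spor.F9 Spor.F9 F) = 1 := by
    refine IsCodeM.eq (IsCodeM.mul H.two H.om hN hc) ?_
    rw [hm]; exact isCodeM_idC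
  have e2 : (g : Matrix Spor.F9 Spor.F9 F)ᵀ *
      (g : Matrix Spor.F9 Spor.F9 F).map (fun x => x ^ 2) = 1 := by
    have h1 : ((Matrix.of fun w z => ((g : Matrix Spor.F9 Spor.F9 F) z w) ^ 2) *
        (g : Matrix Spor.F9 Spor.F9 F))ᵀ = 1 := by rw [e1, Matrix.transpose_one]
    rw [Matrix.transpose_mul] at h1
    exact h1
  intro u v
  show herm9 ((g : Matrix Spor.F9 Spor.F9 F) *ᵥ u) ((g : Matrix Spor.F9 Spor.F9 F) *ᵥ v) =
    herm9 u v
  have e3 : (fun z => ((g : Matrix Spor.F9 Spor.F9 F) *ᵥ v) z ^ 2) =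
      (g : Matrix Spor.F9 Spor.F9 F).map (fun x => x ^ 2) *ᵥ (fun z => v z ^ 2) := by
    funext z
    simp only [Matrix.mulVec, dotProduct, Matrix.map_apply]
    rw [CharTwo.sum_sq]
    exact Finset.sum_congr rfl (fun l _ => mul_pow _ _ _)
  have e4 : herm9 ((g : Matrix Spor.F9 Spor.F9 F) *ᵥ u) ((g : Matrix Spor.F9 Spor.F9 F) *ᵥ v) =
      ((g : Matrix Spor.F9 Spor.F9 F) *ᵥ u) ⬝ᵥ
        (fun z => ((g : Matrix Spor.F9 Spor.F9 F) *ᵥ v) z ^ 2) := rfl
  rw [e4, e3, Matrix.dotProduct_mulVec, ← Matrix.vecMul_transpose, Matrix.vecMul_vecMul, e2,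
    Matrix.vecMul_one]
  rfl

theorem threeJ3_le_UU (H : Ctx ω) : Spor.threeJ3 F ω ≤ UU F := by
  rw [threeJ3_eq H, H3, Subgroup.closure_le]
  rintro g (rfl | rfl | rfl)
  · exact mem_UU_of_code H (gens_spec H).2.2.2.1 ct_x.1 ct_x.2
  · exact mem_UU_of_code H (gens_spec H).2.2.2.2.1 ct_y.1 ct_y.2
  · exact mem_UU_of_code H (gens_spec H).2.2.2.2.2.1 ct_z.1 ct_z.2

/-- The elements of the triple cover have determinant 1. -/
theorem det_eq_one (H : Ctx ω) {g : GL Spor.F9 F} (hg : g ∈ Spor.threeJ3 F ω) :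
    (g : Matrix Spor.F9 Spor.F9 F).det = 1 := by
  let φ : ↥(Spor.threeJ3 F ω) →* Fˣ :=
    Matrix.GeneralLinearGroup.det.comp (Subgroup.subtype _)
  have hker : φ.ker = ⊤ := by
    rcases normal_cases H φ.ker with h | h
    · exfalso
      let a : ↥(Spor.threeJ3 F ω) := ⟨gx H, (gens_spec H).1⟩
      let b : ↥(Spor.threeJ3 F ω) := ⟨gy H, (gens_spec H).2.1⟩
      have hc : a * b * a⁻¹ * b⁻¹ ∈ φ.ker := by
        rw [MonoidHom.mem_ker, map_mul, map_mul, map_mul, map_inv, map_inv,
          mul_comm (φ a) (φ b), mul_inv_cancel_right, mul_inv_cancel]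
      have key : ∀ (s : GL Spor.F9 F) (cs : ℕ), IsCode ω s cs →
          mulC cX cY ≠ mulC cs (mulC cY cX) →
          gx H * gy H * (gx H)⁻¹ * (gy H)⁻¹ ≠ s := by
        intro s cs hs hne e
        have e' : gx H * gy H = s * (gy H * gx H) := by rw [← e]; group
        have c1 := IsCode.mul H.two H.om (gens_spec H).2.2.2.1 (gens_spec H).2.2.2.2.1
        have c2 := IsCode.mul H.two H.om hs
          (IsCode.mul H.two H.om (gens_spec H).2.2.2.2.1 (gens_spec H).2.2.2.1)
        rw [e'] at c1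
        exact hne (IsCodeM.code_eq H.two H.om c1 c2 (mulC_lt _ _) (mulC_lt _ _))
      have hval : ((a * b * a⁻¹ * b⁻¹ : ↥(Spor.threeJ3 F ω)) : GL Spor.F9 F) =
          gx H * gy H * (gx H)⁻¹ * (gy H)⁻¹ := by
        rw [Subgroup.coe_mul, Subgroup.coe_mul, Subgroup.coe_mul, Subgroup.coe_inv,
          Subgroup.coe_inv]
      have cz := (gens_spec H).2.2.2.2.2.1
      rcases h _ hc with h1 | h1 | h1
      · rw [hval] at h1; exact key 1 idC isCode_one comm_ne0 h1
      · rw [hval] at h1; exact key _ _ cz comm_ne1 h1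
      · rw [hval] at h1
        refine key _ _ (IsCode.mul H.two H.om cz cz) ?_ h1
        rw [scal_sq]; exact comm_ne2
    · exact h
  have h1 : (⟨g, hg⟩ : ↥(Spor.threeJ3 F ω)) ∈ φ.ker := by rw [hker]; trivial
  rw [MonoidHom.mem_ker] at h1
  have h2 : Matrix.GeneralLinearGroup.det g = 1 := h1
  have h3 := congrArg Units.val h2
  rwa [Matrix.GeneralLinearGroup.val_det_apply, Units.val_one] at h3

/-- An identification of the index set with `Fin 9`. -/
noncomputable def e9 : Spor.F9 ≃ Fin 9 :=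
  Fintype.equivFinOfCardEq (by rw [Fintype.card_prod, ZMod.card])

/-- The triple cover as a group of matrices of determinant 1 indexed by `Fin 9`. -/
noncomputable def toSL (H : Ctx ω) :
    ↥(Spor.threeJ3 F ω) →* Matrix.SpecialLinearGroup (Fin 9) F where
  toFun g := ⟨((g : GL Spor.F9 F) : Matrix Spor.F9 Spor.F9 F).submatrix e9.symm e9.symm, by
    rw [Matrix.det_submatrix_equiv_self]; exact det_eq_one H g.2⟩
  map_one' := by
    apply Subtype.ext
    show ((1 : GL Spor.F9 F) : Matrix Spor.F9 Spor.F9 F).submatrix e9.symm e9.symm = 1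
    rw [Units.val_one, Matrix.submatrix_one_equiv]
  map_mul' a b := by
    apply Subtype.ext
    show ((a * b : GL Spor.F9 F) : Matrix Spor.F9 Spor.F9 F).submatrix e9.symm e9.symm =
      ((a : GL Spor.F9 F) : Matrix Spor.F9 Spor.F9 F).submatrix e9.symm e9.symm *
        ((b : GL Spor.F9 F) : Matrix Spor.F9 Spor.F9 F).submatrix e9.symm e9.symm
    rw [Units.val_mul, Matrix.submatrix_mul_equiv]

theorem toSL_val (H : Ctx ω) (g : ↥(Spor.threeJ3 F ω)) :
    (toSL H g : Matrix (Fin 9) (Fin 9) F) =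
      ((g : GL Spor.F9 F) : Matrix Spor.F9 Spor.F9 F).submatrix e9.symm e9.symm := rfl

theorem toSL_injective (H : Ctx ω) : Function.Injective (toSL H) := by
  intro a b h
  have h1 : ((a : GL Spor.F9 F) : Matrix Spor.F9 Spor.F9 F).submatrix e9.symm e9.symm =
      ((b : GL Spor.F9 F) : Matrix Spor.F9 Spor.F9 F).submatrix e9.symm e9.symm := by
    rw [← toSL_val H a, ← toSL_val H b, h]
  apply Subtype.ext
  apply Units.ext
  ext w z
  have h2 := congrFun (congrFun h1 (e9 w)) (e9 z)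
  simpa using h2

theorem hermForm_eq (u v : Fin 9 → F) :
    Cfsg.hermForm 9 F 2 u v = herm9 (u ∘ e9) (v ∘ e9) := by
  unfold Cfsg.hermForm herm9
  exact (Equiv.sum_comp e9 (fun i => u i * v i ^ 2)).symm

theorem toSL_mem (H : Ctx ω) (g : ↥(Spor.threeJ3 F ω)) : toSL H g ∈ Cfsg.SU 9 F 2 := by
  intro u v
  have hg := threeJ3_le_UU H g.2 (u ∘ e9) (v ∘ e9)
  have key : ∀ w : Fin 9 → F, ((Cfsg.slToMat 9 F (toSL H g)) *ᵥ w) ∘ e9 =
      ((g : GL Spor.F9 F) : Matrix Spor.F9 Spor.F9 F) *ᵥ (w ∘ e9) := by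
    intro w
    have e : Cfsg.slToMat 9 F (toSL H g) =
        ((g : GL Spor.F9 F) : Matrix Spor.F9 Spor.F9 F).submatrix e9.symm e9.symm := rfl
    rw [e, Matrix.submatrix_mulVec_equiv]
    funext z
    simp
  rw [hermForm_eq, hermForm_eq, key, key]
  exact hg

/-- The triple cover inside the special unitary group. -/
noncomputable def toSU (H : Ctx ω) : ↥(Spor.threeJ3 F ω) →* ↥(Cfsg.SU 9 F 2) :=
  (toSL H).codRestrict (Cfsg.SU 9 F 2) (toSL_mem H)

theorem toSU_injective (H : Ctx ω) : Function.Injective (toSU H) := by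
  intro a b h
  exact toSL_injective H (congrArg Subtype.val h)

/-- A subgroup of the special unitary group with centre of order 3 and simple central quotient of
the order of `J₃`. -/
theorem exists_SU (H : Ctx ω) : ∃ K : Subgroup ↥(Cfsg.SU 9 F 2),
    Nat.card (Subgroup.center K) = 3 ∧ Cfsg.IsJ3 (K ⧸ Subgroup.center K) := by
  let φ : ↥(Spor.threeJ3 F ω) ≃* ↥(toSU H).range := MonoidHom.ofInjective (toSU_injective H)
  have hmap : (Subgroup.center ↥(Spor.threeJ3 F ω)).map
      (φ : ↥(Spor.threeJ3 F ω) →* ↥(toSU H).range) = Subgroup.center ↥(toSU H).range := by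
    ext x
    rw [Subgroup.mem_map, Subgroup.mem_center_iff]
    constructor
    · rintro ⟨y, hy, rfl⟩ h
      obtain ⟨g, rfl⟩ := φ.surjective h
      rw [Subgroup.mem_center_iff] at hy
      show φ g * φ y = φ y * φ g
      rw [← map_mul, ← map_mul, hy g]
    · intro hx
      refine ⟨φ.symm x, ?_, φ.apply_symm_apply x⟩
      rw [Subgroup.mem_center_iff]
      intro g
      apply φ.injective
      rw [map_mul, map_mul, φ.apply_symm_apply]; exact hx (φ g)
  let ψ := QuotientGroup.congr (Subgroup.center ↥(Spor.threeJ3 F ω))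
    (Subgroup.center ↥(toSU H).range) φ hmap
  refine ⟨(toSU H).range, ?_, ?_, ?_⟩
  · rw [← Nat.card_congr (Subgroup.centerCongr φ).toEquiv]; exact card_center H
  · have : IsSimpleGroup (↥(Spor.threeJ3 F ω) ⧸ Subgroup.center ↥(Spor.threeJ3 F ω)) :=
      simple_J3 H
    exact ψ.symm.isSimpleGroup
  · rw [← Nat.card_congr ψ.toEquiv]; exact card_J3 H

/-- A field with four elements has a primitive cube root of unity. -/
theorem exists_omega [Fintype F] (hF : Fintype.card F = 4) : ∃ ω : F, ω ^ 2 + ω + 1 = 0 := by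
  classical
  have hx : ∃ x : F, x ≠ 0 ∧ x ≠ 1 := by
    by_contra hcon
    push Not at hcon
    have hsub : (Finset.univ : Finset F) ⊆ {0, 1} := by
      intro x _
      by_cases h0 : x = 0
      · simp [h0]
      · simp [hcon x h0]
    have h1 := Finset.card_le_card hsub
    rw [Finset.card_univ, hF] at h1
    have h2 : ({0, 1} : Finset F).card ≤ 2 := Finset.card_le_two
    omega
  obtain ⟨x, h0, h1⟩ := hx
  have h3 : x ^ 3 = 1 := by
    have := FiniteField.pow_card_sub_one_eq_one x h0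
    rwa [hF] at this
  refine ⟨x, ?_⟩
  have h4 : (x - 1) * (x ^ 2 + x + 1) = 0 := by linear_combination h3
  rcases mul_eq_zero.mp h4 with h5 | h5
  · exact absurd (sub_eq_zero.mp h5) h1
  · exact h5

end

end Cfsg.Agent.Helper7.J3
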