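/-
Helper7 library: an automorphism of the Janko group `J₃` that is not inner, induced by the
semilinear map of the 9-space that conjugates both the coordinates and the index set (the field
with nine elements), and the order of the outer automorphism group.
-/
import Cfsg.Agent.Helper7.J3OutQ
import Cfsg.Agent.Helper7.J3Unit

set_option autoImplicit false

namespace Cfsg.Agent.Helper7.J3

open Cfsg

/-- The conjugate of an element of the field with nine elements. -/
def cj9 (z : Spor.F9) : Spor.F9 := (z.1, -z.2)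

theorem cj9_cj9 : ∀ z : Spor.F9, cj9 (cj9 z) = z := by decide

theorem ix_cj9 : ∀ z : Spor.F9, ix (cj9 z) = sgN (ix z) := by decide

theorem isTC_spec {c d : ℕ} (h : isTC c d = true) {w z : ℕ} (hw : w < 9) (hz : z < 9) :
    bitN d (18 * w + z) =
        (bitN c (18 * sgN w + sgN z) + bitN c (18 * sgN w + 9 + sgN z)) % 2 ∧
      bitN d (18 * w + 9 + z) = bitN c (18 * sgN w + 9 + sgN z) := by
  have h1 : (Nat.ble 81 (9 * w + z) || tcAt c d ((9 * w + z) / 9) ((9 * w + z) % 9)) = true :=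
    rgAll_spec _ _ _ h (9 * w + z) (Nat.zero_le _) (by norm_num; omega)
  rw [ble_false (by omega), Bool.false_or, show (9 * w + z) / 9 = w by omega,
    show (9 * w + z) % 9 = z by omega, tcAt, Bool.and_eq_true] at h1
  exact ⟨Nat.eq_of_beq_eq_true h1.1, Nat.eq_of_beq_eq_true h1.2⟩

section
variable {F : Type*} [Field F] {ω : F}

/-- The semilinear map on matrices. -/
def frM (M : Matrix Spor.F9 Spor.F9 F) : Matrix Spor.F9 Spor.F9 F :=
  Matrix.of fun w z => (M (cj9 w) (cj9 z)) ^ 2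

theorem frM_mul (h2 : (2 : F) = 0) (M N : Matrix Spor.F9 Spor.F9 F) :
    frM (M * N) = frM M * frM N := by
  have : CharP F 2 := CharTwo.of_one_ne_zero_of_two_eq_zero one_ne_zero h2
  ext w z
  simp only [frM, Matrix.of_apply, Matrix.mul_apply]
  rw [CharTwo.sum_sq, ← Equiv.sum_comp (Function.Involutive.toPerm cj9 cj9_cj9)]
  exact Finset.sum_congr rfl (fun k _ => mul_pow _ _ _)

theorem frM_one : frM (1 : Matrix Spor.F9 Spor.F9 F) = 1 := by
  ext w z
  simp only [frM, Matrix.of_apply, Matrix.one_apply]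
  by_cases h : w = z
  · subst h; simp
  · have h' : cj9 w ≠ cj9 z := fun e => h (by rw [← cj9_cj9 w, e, cj9_cj9])
    simp [h, h']

theorem isCodeM_fr (h2 : (2 : F) = 0) (hω : ω ^ 2 + ω + 1 = 0)
    {M : Matrix Spor.F9 Spor.F9 F} {c d : ℕ} (hM : IsCodeM ω M c) (h : isTC c d = true) :
    IsCodeM ω (frM M) d := by
  intro w z
  obtain ⟨e1, e2⟩ := isTC_spec h (ix_lt w) (ix_lt z)
  rw [frM, Matrix.of_apply, hM (cj9 w) (cj9 z), el_sq h2 hω (bitN_lt _ _) (bitN_lt _ _),
    ix_cj9, ix_cj9, e1, e2]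

/-- The semilinear map as a homomorphism of the multiplicative monoid of matrices. -/
noncomputable def frH (h2 : (2 : F) = 0) :
    Matrix Spor.F9 Spor.F9 F →* Matrix Spor.F9 Spor.F9 F where
  toFun := frM
  map_one' := frM_one
  map_mul' := frM_mul h2

/-- The semilinear map on invertible matrices. -/
noncomputable def frG (h2 : (2 : F) = 0) : GL Spor.F9 F →* GL Spor.F9 F := Units.map (frH h2)

theorem frG_val (h2 : (2 : F) = 0) (g : GL Spor.F9 F) :
    ((frG h2 g : GL Spor.F9 F) : Matrix Spor.F9 Spor.F9 F) =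
      frM (g : Matrix Spor.F9 Spor.F9 F) := rfl

theorem frG_code (H : Ctx ω) {g : GL Spor.F9 F} {c d : ℕ} (hg : IsCode ω g c)
    (h : isTC c d = true) : IsCode ω (frG H.two g) d := by
  show IsCodeM ω ((frG H.two g : GL Spor.F9 F) : Matrix Spor.F9 Spor.F9 F) d
  rw [frG_val]; exact isCodeM_fr H.two H.om hg h

theorem frG_gz (H : Ctx ω) : frG H.two (gz H) = gz H ^ 2 :=
  IsCode.eq (frG_code H (gz_code H) tc_z) (zP_code H 2 (by norm_num))

theorem frG_mem (H : Ctx ω) {g : GL Spor.F9 F} (hg : g ∈ Spor.threeJ3 F ω) :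
    frG H.two g ∈ Spor.threeJ3 F ω := by
  have hle : H3 H ≤ (Spor.threeJ3 F ω).comap (frG H.two) := by
    rw [H3, Subgroup.closure_le]
    rintro g (rfl | rfl | rfl)
    · have e : frG H.two (gx H) = Ug H fxI * Sg H fxJ :=
        IsCode.eq (frG_code H (gens_spec H).2.2.2.1 tc_x.1) (by
          rw [← tc_x.2]
          exact IsCode.mul H.two H.om (Ug_code H (show fxI < 23256 by decide))
            (Sg_code H (show fxJ < 6480 by decide)))
      show frG H.two (gx H) ∈ Spor.threeJ3 F ω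
      rw [e]; exact mul_mem (Ug_mem3 H _) (Sg_mem3 H _)
    · have e : frG H.two (gy H) = Ug H fyI * Sg H fyJ :=
        IsCode.eq (frG_code H (gens_spec H).2.2.2.2.1 tc_y.1) (by
          rw [← tc_y.2]
          exact IsCode.mul H.two H.om (Ug_code H (show fyI < 23256 by decide))
            (Sg_code H (show fyJ < 6480 by decide)))
      show frG H.two (gy H) ∈ Spor.threeJ3 F ω
      rw [e]; exact mul_mem (Ug_mem3 H _) (Sg_mem3 H _)
    · show frG H.two (gz H) ∈ Spor.threeJ3 F ω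
      rw [frG_gz]; exact pow_mem (gens_spec H).2.2.1 2
  rw [threeJ3_eq H] at hg
  exact hle hg

/-- The semilinear map on the triple cover. -/
noncomputable def frS (H : Ctx ω) : ↥(Spor.threeJ3 F ω) →* ↥(Spor.threeJ3 F ω) :=
  ((frG H.two).comp (Subgroup.subtype _)).codRestrict (Spor.threeJ3 F ω)
    (fun g => frG_mem H g.2)

theorem frS_val (H : Ctx ω) (g : ↥(Spor.threeJ3 F ω)) :
    ((frS H g : ↥(Spor.threeJ3 F ω)) : GL Spor.F9 F) = frG H.two (g : GL Spor.F9 F) := rfl

theorem frS_inj (H : Ctx ω) : Function.Injective (frS H) := by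
  have : CharP F 2 := CharTwo.of_one_ne_zero_of_two_eq_zero one_ne_zero H.two
  intro a b h
  have h1 : frM ((a : GL Spor.F9 F) : Matrix Spor.F9 Spor.F9 F) =
      frM ((b : GL Spor.F9 F) : Matrix Spor.F9 Spor.F9 F) := by
    rw [← frG_val H.two, ← frG_val H.two, ← frS_val H a, ← frS_val H b, h]
  apply Subtype.ext
  apply Units.ext
  ext w z
  have h2 := congrFun (congrFun h1 (cj9 w)) (cj9 z)
  simp only [frM, Matrix.of_apply, cj9_cj9] at h2
  exact frobenius_inj F 2 h2

/-- The semilinear map as an automorphism of the triple cover. -/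
noncomputable def frE (H : Ctx ω) : ↥(Spor.threeJ3 F ω) ≃* ↥(Spor.threeJ3 F ω) :=
  have : Finite ↥(Spor.threeJ3 F ω) :=
    Nat.finite_of_card_ne_zero (by rw [card_threeJ3 H]; norm_num)
  MulEquiv.ofBijective (frS H) ⟨frS_inj H, Finite.injective_iff_surjective.mp (frS_inj H)⟩

theorem frE_val (H : Ctx ω) (g : ↥(Spor.threeJ3 F ω)) :
    ((frE H g : ↥(Spor.threeJ3 F ω)) : GL Spor.F9 F) = frG H.two (g : GL Spor.F9 F) := rfl

/-- The induced automorphism of `J₃`. -/
noncomputable def frQ (H : Ctx ω) : MulAut (Spor.J3 F ω) :=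
  QuotientGroup.congr (Subgroup.center ↥(Spor.threeJ3 F ω))
    (Subgroup.center ↥(Spor.threeJ3 F ω)) (frE H)
    ((Subgroup.characteristic_iff_map_eq.mp inferInstance) (frE H))

theorem gz_pow19 (H : Ctx ω) {e : ℕ} (he : e < 3) (hz : (gz H ^ e) ^ 19 = 1) : e = 0 := by
  by_contra hne
  have hd1 : orderOf (gz H) ∣ e * 19 := orderOf_dvd_of_pow_eq_one (by rw [pow_mul]; exact hz)
  have hd2 : orderOf (gz H) ∣ 3 := orderOf_dvd_of_pow_eq_one (gz_pow3 H)
  have hd : orderOf (gz H) ∣ Nat.gcd (e * 19) 3 := Nat.dvd_gcd hd1 hd2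
  have hg : Nat.gcd (e * 19) 3 = 1 := by
    have : e = 1 ∨ e = 2 := by omega
    rcases this with rfl | rfl <;> decide
  rw [hg, Nat.dvd_one, orderOf_eq_one_iff] at hd
  exact gz_ne_one H hd

theorem oa_not_scal (H : Ctx ω) {e : ℕ} (he : e < 3) : oa H ≠ gz H ^ e := by
  intro h
  have c1 := oa_code H
  rw [h] at c1
  have hcode := IsCodeM.code_eq H.two H.om c1 (zP_code H e he) (by decide) (zP_lt e he)
  have hne : ∀ e, e < 3 → oaC ≠ zP e := by decide
  exact hne e he hcode

theorem frQ_not_inner (H : Ctx ω) : frQ H ∉ Inn (Spor.J3 F ω) := by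
  rintro ⟨q, hq⟩
  obtain ⟨g0, rfl⟩ := QuotientGroup.mk_surjective q
  have key : ∀ h : ↥(Spor.threeJ3 F ω),
      (g0 * h * g0⁻¹)⁻¹ * frE H h ∈ Subgroup.center ↥(Spor.threeJ3 F ω) := by
    intro h
    have e := congrArg (fun f : MulAut (Spor.J3 F ω) => f (QuotientGroup.mk h)) hq
    have e' : (QuotientGroup.mk (g0 * h * g0⁻¹) : Spor.J3 F ω) = QuotientGroup.mk (frE H h) := e
    exact QuotientGroup.eq.mp e'
  -- the elements on which the two automorphisms agree
  let K : Subgroup ↥(Spor.threeJ3 F ω) :=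
    MonoidHom.eqLocus (frE H : ↥(Spor.threeJ3 F ω) →* ↥(Spor.threeJ3 F ω))
      (MulAut.conj g0 : ↥(Spor.threeJ3 F ω) →* ↥(Spor.threeJ3 F ω))
  have hK : ∀ h, h ∈ K ↔ frE H h = g0 * h * g0⁻¹ := fun h => Iff.rfl
  have hnorm : K.Normal := by
    refine ⟨fun h hh n => ?_⟩
    rw [hK] at hh ⊢
    have hz : ∀ y, (g0 * n * g0⁻¹)⁻¹ * frE H n * y = y * ((g0 * n * g0⁻¹)⁻¹ * frE H n) :=
      fun y => ((Subgroup.mem_center_iff.mp (key n)) y).symm
    have en : frE H n = g0 * n * g0⁻¹ * ((g0 * n * g0⁻¹)⁻¹ * frE H n) := by group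
    calc frE H (n * h * n⁻¹) = frE H n * (g0 * h * g0⁻¹) * (frE H n)⁻¹ := by
          rw [map_mul, map_mul, map_inv, hh]
      _ = g0 * n * g0⁻¹ * ((g0 * n * g0⁻¹)⁻¹ * frE H n * (g0 * h * g0⁻¹) *
            ((g0 * n * g0⁻¹)⁻¹ * frE H n)⁻¹) * (g0 * n * g0⁻¹)⁻¹ := by group
      _ = g0 * n * g0⁻¹ * (g0 * h * g0⁻¹) * (g0 * n * g0⁻¹)⁻¹ := by
          rw [hz, mul_inv_cancel_right]
      _ = g0 * (n * h * n⁻¹) * g0⁻¹ := by group
  rcases normal_cases H K with h | h
  · -- the element of order 19 lies in `K`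
    have ha : oaS H ∈ K := by
      rw [hK]
      obtain ⟨e, he, h2⟩ := center_cases H (key (oaS H))
      have e1 : frE H (oaS H) = g0 * oaS H * g0⁻¹ * ((g0 * oaS H * g0⁻¹)⁻¹ * frE H (oaS H)) := by
        group
      have hc : Commute (g0 * oaS H * g0⁻¹) ((g0 * oaS H * g0⁻¹)⁻¹ * frE H (oaS H)) :=
        ((Subgroup.mem_center_iff.mp (key (oaS H))) _)
      have e19 : oaS H ^ 19 = 1 := Subtype.ext (by rw [Subgroup.coe_pow]; exact oa_pow19' H)
      have e2 : ((g0 * oaS H * g0⁻¹)⁻¹ * frE H (oaS H)) ^ 19 = 1 := by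
        have e3 : (frE H (oaS H)) ^ 19 = 1 := by rw [← map_pow, e19, map_one]
        rw [e1, hc.mul_pow, conj_pow, e19] at e3
        simpa using e3
      have e4 : (gz H ^ e) ^ 19 = 1 := by
        rw [← h2, ← Subgroup.coe_pow, e2]; rfl
      have he0 := gz_pow19 H he e4
      subst he0
      have e5 : (g0 * oaS H * g0⁻¹)⁻¹ * frE H (oaS H) = 1 :=
        Subtype.ext (by rw [h2, pow_zero]; rfl)
      exact (inv_mul_eq_one.mp e5).symm
    rcases h (oaS H) ha with h1 | h1 | h1
    · exact oa_not_scal H (e := 0) (by norm_num) (by rw [pow_zero]; exact h1)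
    · exact oa_not_scal H (e := 1) (by norm_num) (by rw [pow_one]; exact h1)
    · exact oa_not_scal H (e := 2) (by norm_num) (by rw [pow_two]; exact h1)
  · have hz : zG H ∈ K := by rw [h]; trivial
    rw [hK] at hz
    have e1 : g0 * zG H * g0⁻¹ = zG H := by
      rw [(Subgroup.mem_center_iff.mp (zG_mem_center H)) g0, mul_inv_cancel_right]
    rw [e1] at hz
    have e2 : gz H ^ 2 = gz H := by
      have := congrArg (fun x : ↥(Spor.threeJ3 F ω) => (x : GL Spor.F9 F)) hz
      simp only [frE_val] at this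
      rw [← frG_gz H]; exact this
    apply gz_ne_one H
    have e3 : gz H ^ 2 = gz H * 1 := by rw [mul_one]; exact e2
    rw [pow_two] at e3
    exact mul_left_cancel e3

/-- The outer automorphism group of `J₃` has order 2. -/
theorem card_out_J3 (H : Ctx ω) : Nat.card (Out (Spor.J3 F ω)) = 2 :=
  card_out_of_outer H (frQ H) (frQ_not_inner H)

end

end Cfsg.Agent.Helper7.J3
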