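/-
Helper7 library: data for the maximal subgroups of the table model of `PSL(2,7)` (generated).
-/
import Cfsg.Agent.Helper7.L168Klein

set_option autoImplicit false

namespace Cfsg.Agent.Helper7

open Cfsg

/-- Mask of a subgroup `S₄` of the first kind (it contains the Sylow 2-subgroup). -/
def mN1 : ℕ := 0x8400210042010488000002a901000a00016801001

/-- Mask of a subgroup `S₄` of the second kind (it contains the Sylow 2-subgroup). -/
def mN2 : ℕ := 0x111088004004004020110052804001040026801001

/-- Mask of the normaliser of the Sylow 7-subgroup. -/
def mN7 : ℕ := 0xc7980098800011000000000000000000004008084b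

/-- Mask of the `S₄` of the first kind containing the representative of order 3. -/
def mNA : ℕ := 0x11004014400844049005000520420000020408011

/-- Mask of the `S₄` of the second kind containing the representative of order 3. -/
def mNB : ℕ := 0x580000844042001080021402148208000010208011

/-- Mask of an `S₄` of the first kind containing the centraliser of the representative
involution. -/
def mNC : ℕ := 0x200084102033044100448600001100010802005

/-- Conjugating elements: `mNA`, `mNB`, `mNC` are the conjugates of `mN1`, `mN2`, `mN1`. -/
def gNA : ℕ := 9
def gNB : ℕ := 5
def gNC : ℕ := 1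

theorem mN1_ok : subOK mN1 = true := by decide +kernel
theorem mN2_ok : subOK mN2 = true := by decide +kernel
theorem mN7_ok : subOK mN7 = true := by decide +kernel
theorem mNA_ok : subOK mNA = true := by decide +kernel
theorem mNB_ok : subOK mNB = true := by decide +kernel
theorem mNC_ok : subOK mNC = true := by decide +kernel

theorem mN1_card : (List.range 168).countP (bitA mN1) = 24 := by decide +kernel
theorem mN2_card : (List.range 168).countP (bitA mN2) = 24 := by decide +kernel
theorem mN7_card : (List.range 168).countP (bitA mN7) = 21 := by decide +kernel

theorem gN_lt : (Nat.blt gNA 168 && Nat.blt gNB 168 && Nat.blt gNC 168) = true := by decide +kernel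

theorem mNA_conj : all168 (fun i => eqB (bitA mN1 i) (bitA mNA (conjT gNA i))) = true := by
  decide +kernel

theorem mNB_conj : all168 (fun i => eqB (bitA mN2 i) (bitA mNB (conjT gNB i))) = true := by
  decide +kernel

theorem mNC_conj : all168 (fun i => eqB (bitA mN1 i) (bitA mNC (conjT gNC i))) = true := by
  decide +kernel

theorem mN12_conj : all168 (fun u =>
    !all168 (fun i => !bitA mN1 i || bitA mN2 (conjT u i))) = true := by
  decide +kernel

/-- Two elements of the normaliser of the Sylow 7-subgroup that do not commute. -/
def nc7a : ℕ := 1
def nc7b : ℕ := 112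

theorem mN7_nc : (bitA mN7 nc7a && bitA mN7 nc7b && Nat.blt nc7a 168 && Nat.blt nc7b 168 &&
    !Nat.beq (mulT nc7a nc7b) (mulT nc7b nc7a)) = true := by decide +kernel

/-- Entry `i` of an array of 16-bit numbers. -/
def w16A (T i : ℕ) : ℕ := Nat.mod (Nat.shiftRight T (Nat.mul 16 i)) 65536

/-- Evaluation of a word in two elements: letters are read from the lowest bit (`0` for `x`,
`1` for `y`), the top bit is a marker. -/
def wordE (x y : ℕ) : ℕ → ℕ → ℕ → ℕ
  | 0, acc, _ => acc
  | f + 1, acc, w => cond (Nat.ble w 1) acc
      (wordE x y f (mulT acc (cond (Nat.beq (Nat.mod w 2) 1) y x)) (Nat.div w 2))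

/-- Words expressing the second generator by the first and an element outside the normaliser
of the Sylow 7-subgroup. -/
def l168W7 : ℕ := 0x760052005b000000000000000000ec012c0000000000510007011c00620138009b013400c9011b001900860000001a02c20000000000e700330045000001210015009b01d8014200b000070039018400ec0068004400f302860048002400e00013000000990064010900000441004900b2018a011200fc030d001c001501a80361001a01480608008400a60190008800cc0090004f00ad0028004a010e00b20170042200da02c200540049007c04440073005204880286010400640510010800a6011000220120021800500124003302300133008c00d901660098006c00cd01cc010c0039011800420130004d0012004b0014002701360016000c002e016c0310003c01e1007401870232000900000025012a00be0018015400dc0034006d00b8001100000005005e00300006004e005c00210000000a0060017e00410000000b000e0000000300000000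

theorem max7_ok : all168 (fun j => bitA mN7 j ||
    Nat.beq (wordE 1 j 16 0 (w16A l168W7 j)) 2) = true := by
  decide +kernel

/-- Every element is a generator times an earlier element. -/
theorem par_ok : all168 (fun i => Nat.beq i 0 || (Nat.blt (byteA l168Par i) i &&
    Nat.beq (mulT (Nat.add 1 (byteA l168Gen i)) (byteA l168Par i)) i &&
    Nat.blt (byteA l168Gen i) 2)) = true := by
  decide +kernel

/-- An element of order 4 and an element outside the two `S₄` containing it give an element of
order 7. -/
theorem max4_ok : all168 (fun j => bitA mN1 j || bitA mN2 j || Nat.beq (ordT j) 7 ||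
    Nat.beq (ordT (mulT (mulT (mulT (mulT (mulT 12 12) j) 12) j) j)) 7 ||
    Nat.beq (ordT (mulT (mulT 12 12) j)) 7) = true := by
  decide +kernel

/-- Order 4 or 7. -/
def o47 (k : ℕ) : Bool := Nat.beq (ordT k) 4 || Nat.beq (ordT k) 7

/-- An element of order 3 and an element outside the two `S₄` containing it give an element of
order 4 or 7. -/
theorem max3_ok : all168 (fun j => bitA mNA j || bitA mNB j || o47 j ||
    o47 (mulT (mulT (mulT (mulT (mulT 4 j) 4) j) j) j) ||
    o47 (mulT (mulT (mulT (mulT (mulT 4 4) j) 4) j) j)) = true := by
  decide +kernel

/-- An involution and an element of order at most 2 with product of order at most 2. -/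
theorem max2_ok : all168 (fun j => !(Nat.ble (ordT j) 2 && Nat.ble (ordT (mulT 2 j)) 2) ||
    bitA mNC j) = true := by
  decide +kernel

theorem rep_vals : (Nat.beq (repT 1) 1 && Nat.beq (repT 2) 2 && Nat.beq (repT 3) 4 &&
    Nat.beq (repT 5) 12) = true := by decide +kernel

end Cfsg.Agent.Helper7
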