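import Mathlib

set_option autoImplicit false

/-! CALL LM (helper21, row S4067), piece CENT: a commutator subgroup whose order is the least prime
divisor of `|G|` is central. -/

namespace Cfsg.Agent.Helper7.LM

/-- CENT: a commutator subgroup of order the least prime divisor is central. -/
theorem lm_cent {G : Type*} [Group G] [Finite G]
    (hc : Nat.card (commutator G) = (Nat.card G).minFac) :
    commutator G ≤ Subgroup.center G := by
  classical
  by_cases h1 : Nat.card G = 1
  · have hsub : Subsingleton G := (Nat.card_eq_one_iff_unique.mp h1).1
    intro x _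
    rw [Subgroup.mem_center_iff]
    intro g
    exact Subsingleton.elim _ _
  · have hpp : (Nat.card G).minFac.Prime := Nat.minFac_prime h1
    have : Fact (Nat.card G).minFac.Prime := ⟨hpp⟩
    have hcyc : IsCyclic (commutator G) := isCyclic_of_prime_card hc
    have hcard : Nat.card (MulAut (commutator G)) = (Nat.card G).minFac - 1 := by
      rw [IsCyclic.card_mulAut, hc, Nat.totient_prime hpp]
    have hcop : Nat.Coprime (Nat.card G) ((Nat.card G).minFac - 1) := by
      apply Nat.coprime_of_lt_minFac
      · have := hpp.two_le
        omega
      · have := hpp.two_le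
        omega
    have hφ : ∀ g : G, (MulAut.conjNormal g : MulAut (commutator G)) = 1 := by
      intro g
      have h1' : orderOf (MulAut.conjNormal g : MulAut (commutator G)) ∣ Nat.card G :=
        (orderOf_map_dvd (MulAut.conjNormal : G →* MulAut (commutator G)) g).trans
          (orderOf_dvd_natCard g)
      have h2' : orderOf (MulAut.conjNormal g : MulAut (commutator G)) ∣
          (Nat.card G).minFac - 1 := by
        rw [← hcard]
        exact orderOf_dvd_natCard _
      have h3 : orderOf (MulAut.conjNormal g : MulAut (commutator G)) = 1 :=
        Nat.eq_one_of_dvd_coprimes hcop h1' h2'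
      exact orderOf_eq_one_iff.mp h3
    intro x hx
    rw [Subgroup.mem_center_iff]
    intro g
    have h4 : ((MulAut.conjNormal g : MulAut (commutator G)) ⟨x, hx⟩ : G) = g * x * g⁻¹ :=
      MulAut.conjNormal_apply g ⟨x, hx⟩
    rw [hφ g] at h4
    have h5 : x = g * x * g⁻¹ := by simpa using h4
    calc g * x = g * x * g⁻¹ * g := by group
      _ = x * g := by rw [← h5]

end Cfsg.Agent.Helper7.LM

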