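import Mathlib

set_option autoImplicit false

/-! CALL LM (helper21, row S4067), piece X2: `|G'| = 2` central.  Either there is a central involution
outside `G'`, or a non-central `x` whose square is the non-trivial element of `G'`. -/

namespace Cfsg.Agent.Helper7.LM

open scoped commutatorElement

/-- Squares commute with everything when the commutator `w` of `g`, `h` is central with `w * w = 1`. -/
theorem lmx2_sq_comm {G : Type*} [Group G] (g h w : G) (hw : g * h = w * h * g)
    (hcw : ∀ y : G, y * w = w * y) (hww : w * w = 1) : g ^ 2 * h = h * g ^ 2 := by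
  calc g ^ 2 * h = g * (g * h) := by rw [pow_two, mul_assoc]
    _ = g * (w * h * g) := by rw [hw]
    _ = (g * w) * h * g := by simp only [mul_assoc]
    _ = w * (g * h) * g := by rw [hcw g]; simp only [mul_assoc]
    _ = w * (w * h * g) * g := by rw [hw]
    _ = (w * w) * h * (g * g) := by simp only [mul_assoc]
    _ = h * g ^ 2 := by rw [hww, one_mul, pow_two]

/-- X2: `p = 2`: a central involution outside `G'`, or a non-central `x` with `x² ≠ 1`, `x² ∈ G'`. -/
theorem lm_x2 {G : Type*} [Group G] [Finite G] (hZ : commutator G ≤ Subgroup.center G)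
    (hc : Nat.card (commutator G) = 2) :
    (∃ c : G, c ∈ Subgroup.center G ∧ orderOf c = 2 ∧ c ∉ commutator G) ∨
      (∃ x : G, x ∉ Subgroup.center G ∧ x ^ 2 ∈ commutator G ∧ x ^ 2 ≠ 1) := by
  classical
  by_cases h1 : ∃ c : G, c ∈ Subgroup.center G ∧ orderOf c = 2 ∧ c ∉ commutator G
  · exact Or.inl h1
  right
  push Not at h1
  -- a non-trivial commutator
  have hex : ∃ a b : G, ⁅a, b⁆ ≠ 1 := by
    by_contra hcon
    push Not at hcon
    have hbot : commutator G = ⊥ := by
      rw [commutator_def]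
      exact le_bot_iff.mp (Subgroup.commutator_le.mpr fun a _ b _ => by
        rw [hcon a b]; exact Subgroup.mem_bot.mpr rfl)
    rw [hbot, Subgroup.card_bot] at hc
    exact absurd hc (by norm_num)
  obtain ⟨a, b, hab⟩ := hex
  have hzG : ⁅a, b⁆ ∈ commutator G := by
    rw [commutator_def]
    exact Subgroup.commutator_mem_commutator (Subgroup.mem_top a) (Subgroup.mem_top b)
  -- `G'` has exactly the two elements `1` and `z = ⁅a, b⁆`
  have hall : ∀ w : G, w ∈ commutator G → w = 1 ∨ w = ⁅a, b⁆ := by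
    intro w hw
    by_cases hw1 : w = 1
    · exact Or.inl hw1
    right
    obtain ⟨y, -, hy⟩ := (Nat.card_eq_two_iff' (1 : ↥(commutator G))).mp hc
    have e1 : (⟨w, hw⟩ : ↥(commutator G)) = y :=
      hy _ (fun h => hw1 (congrArg Subtype.val h))
    have e2 : (⟨⁅a, b⁆, hzG⟩ : ↥(commutator G)) = y :=
      hy _ (fun h => hab (congrArg Subtype.val h))
    exact congrArg Subtype.val (e1.trans e2.symm)
  have hzz : ⁅a, b⁆ * ⁅a, b⁆ = 1 := by
    rcases hall _ (mul_mem hzG hzG) with h | h
    · exact h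
    · exact absurd (mul_eq_right.mp h) hab
  have hzZ : ⁅a, b⁆ ∈ Subgroup.center G := hZ hzG
  -- squares are central
  have hsq : ∀ g : G, g ^ 2 ∈ Subgroup.center G := by
    intro g
    rw [Subgroup.mem_center_iff]
    intro h
    have hwG : ⁅g, h⁆ ∈ commutator G := by
      rw [commutator_def]
      exact Subgroup.commutator_mem_commutator (Subgroup.mem_top g) (Subgroup.mem_top h)
    have hcw : ∀ y : G, y * ⁅g, h⁆ = ⁅g, h⁆ * y := Subgroup.mem_center_iff.mp (hZ hwG)
    have hww : ⁅g, h⁆ * ⁅g, h⁆ = 1 := by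
      rcases hall _ hwG with h' | h'
      · rw [h', one_mul]
      · rw [h']; exact hzz
    have hw : g * h = ⁅g, h⁆ * h * g := by
      rw [commutatorElement_def]; group
    exact (lmx2_sq_comm g h ⁅g, h⁆ hw hcw hww).symm
  have hcz : ∀ y : G, y * ⁅a, b⁆ = ⁅a, b⁆ * y := Subgroup.mem_center_iff.mp hzZ
  have hsqa : ∀ y : G, y * a ^ 2 = a ^ 2 * y := Subgroup.mem_center_iff.mp (hsq a)
  -- `(a b)² = z a² b²`
  have habsq : (a * b) ^ 2 = ⁅a, b⁆ * a ^ 2 * b ^ 2 := by
    have hw : a * b = ⁅a, b⁆ * b * a := by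
      rw [commutatorElement_def]; group
    calc (a * b) ^ 2 = (a * b) * (a * b) := pow_two _
      _ = (⁅a, b⁆ * b * a) * (a * b) := congrArg (· * (a * b)) hw
      _ = ⁅a, b⁆ * (b * a ^ 2) * b := by simp only [mul_assoc, pow_two]
      _ = ⁅a, b⁆ * (a ^ 2 * b) * b := by rw [hsqa b]
      _ = ⁅a, b⁆ * a ^ 2 * b ^ 2 := by simp only [mul_assoc, pow_two]
  -- non-centrality
  have hna : a ∉ Subgroup.center G := by
    intro h
    have h2 : b * a = a * b := Subgroup.mem_center_iff.mp h b
    exact hab (commutatorElement_eq_one_iff_commute.mpr h2.symm)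
  have hnb : b ∉ Subgroup.center G := by
    intro h
    have h2 : a * b = b * a := Subgroup.mem_center_iff.mp h a
    exact hab (commutatorElement_eq_one_iff_commute.mpr h2)
  have hnab : a * b ∉ Subgroup.center G := by
    intro h
    have h2 : a * (a * b) = a * b * a := Subgroup.mem_center_iff.mp h a
    have h3 : a * b = b * a := by
      apply mul_left_cancel (a := a)
      rw [h2, mul_assoc]
    exact hab (commutatorElement_eq_one_iff_commute.mpr h3)
  -- the squaring map of the centre
  let f : ↥(Subgroup.center G) →* ↥(Subgroup.center G) :=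
    { toFun := fun c => c ^ 2
      map_one' := one_pow 2
      map_mul' := fun x y => by
        have hxy : Commute x y := Subtype.ext (Subgroup.mem_center_iff.mp y.2 (x : G))
        exact hxy.mul_pow 2 }
  have hf : ∀ c : ↥(Subgroup.center G), f c = c ^ 2 := fun c => rfl
  let ζ : ↥(Subgroup.center G) := ⟨⁅a, b⁆, hzZ⟩
  have hζ1 : ζ ≠ 1 := fun h => hab (congrArg Subtype.val h)
  have hζζ : ζ * ζ = 1 := Subtype.ext hzz
  have hζker : ζ ∈ f.ker := by
    rw [MonoidHom.mem_ker, hf, pow_two]; exact hζζ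
  have hker : ∀ c : ↥(Subgroup.center G), c ∈ f.ker → c = 1 ∨ c = ζ := by
    intro c hcker
    rw [MonoidHom.mem_ker, hf] at hcker
    have hc2 : (c : G) ^ 2 = 1 := by
      have := congrArg Subtype.val hcker
      simpa using this
    by_cases hc1 : (c : G) = 1
    · left; exact Subtype.ext hc1
    right
    have : Fact (Nat.Prime 2) := ⟨Nat.prime_two⟩
    have ho : orderOf (c : G) = 2 := orderOf_eq_prime hc2 hc1
    rcases hall _ (h1 (c : G) c.2 ho) with h | h
    · exact absurd h hc1
    · exact Subtype.ext h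
  have hkercard : Nat.card f.ker = 2 := by
    rw [Nat.card_eq_two_iff]
    refine ⟨1, ⟨ζ, hζker⟩, ?_, ?_⟩
    · intro h
      exact hζ1 (congrArg Subtype.val h).symm
    · ext c
      simp only [Set.mem_insert_iff, Set.mem_singleton_iff, Set.mem_univ, iff_true]
      rcases hker c.1 c.2 with h | h
      · left; exact Subtype.ext h
      · right; exact Subtype.ext h
  have hidx : f.range.index = 2 := by
    rw [Subgroup.index_range, hkercard]
  have key : ∀ u v : ↥(Subgroup.center G), u * v ∈ f.range ↔ (u ∈ f.range ↔ v ∈ f.range) :=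
    fun u v => Subgroup.mul_mem_iff_of_index_two hidx
  -- a non-central element whose square times `z` is a central square suffices
  have fin : ∀ g : G, g ∉ Subgroup.center G → ζ * ⟨g ^ 2, hsq g⟩ ∈ f.range →
      ∃ x : G, x ∉ Subgroup.center G ∧ x ^ 2 ∈ commutator G ∧ x ^ 2 ≠ 1 := by
    intro g hg hmem
    obtain ⟨c, hcg⟩ := hmem
    rw [hf] at hcg
    have hcg' : (c : G) ^ 2 = ⁅a, b⁆ * g ^ 2 := by
      have := congrArg Subtype.val hcg
      simpa using this
    have hcc : ∀ y : G, y * (c : G) = (c : G) * y := Subgroup.mem_center_iff.mp c.2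
    have hx2 : (g * (c : G)⁻¹) ^ 2 = ⁅a, b⁆ := by
      have hcomm0 : Commute g (c : G) := hcc g
      have hcomm : Commute g (c : G)⁻¹ := hcomm0.inv_right
      rw [hcomm.mul_pow, inv_pow, hcg', mul_inv_rev, ← mul_assoc, mul_inv_cancel, one_mul]
      exact inv_eq_of_mul_eq_one_right hzz
    refine ⟨g * (c : G)⁻¹, ?_, ?_, ?_⟩
    · intro hx
      apply hg
      have : g = g * (c : G)⁻¹ * (c : G) := by group
      rw [this]
      exact mul_mem hx c.2
    · rw [hx2]; exact hzG
    · rw [hx2]; exact hab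
  by_cases hA : ζ * ⟨a ^ 2, hsq a⟩ ∈ f.range
  · exact fin a hna hA
  by_cases hB : ζ * ⟨b ^ 2, hsq b⟩ ∈ f.range
  · exact fin b hnb hB
  apply fin (a * b) hnab
  have e : ζ * ⟨(a * b) ^ 2, hsq (a * b)⟩ =
      (⟨a ^ 2, hsq a⟩ : ↥(Subgroup.center G)) * ⟨b ^ 2, hsq b⟩ := by
    apply Subtype.ext
    show ⁅a, b⁆ * (a * b) ^ 2 = a ^ 2 * b ^ 2
    rw [habsq, ← mul_assoc, ← mul_assoc, hzz, one_mul]
  rw [e, key]
  rw [key] at hA hB
  tauto

end Cfsg.Agent.Helper7.LM
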