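/-
Helper7 library: the stabiliser `G12` of the dodecad of squares in `M24` (this is `Spor.M12`):
its order, the triviality of its five-point stabiliser, and explicit generators for it and for
the stabiliser of the point 0 (this is `Spor.M11`).
-/
import Cfsg.Agent.Helper7.M12Closure
import Cfsg.Agent.Helper7.M11Closure
import Cfsg.Agent.Helper7.OutTools
import Cfsg.Agent.Helper7.M12

set_option autoImplicit false
open scoped Pointwise

namespace Cfsg.Agent.Helper7

open Cfsg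

/-- The stabiliser of the dodecad of squares in `M24`. -/
def G12 : Subgroup (Equiv.Perm GolayPt) :=
  M24 ⊓ MulAction.stabilizer (Equiv.Perm GolayPt) (setOf dMask)

theorem M12_eq_G12 : Spor.M12 = G12 := by
  rw [Spor.M12, squareDodecad_eq, G12]

theorem mem_G12 {g : Equiv.Perm GolayPt} : g ∈ G12 ↔ g ∈ M24 ∧ g • setOf dMask = setOf dMask :=
  Iff.rfl

theorem setOf_dMask_mem : setOf dMask ∈ dodecads := by
  have h := setOf_mem_wordsOfWeight (show inCode dMask = true by decide +kernel)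
  rw [show wt dMask = 12 by decide +kernel] at h
  exact h

theorem card_G12 : Nat.card ↥G12 = 95040 := by
  have h := card_orbit_mul_card_stabilizer (X := Finset GolayPt) (setOf dMask)
  have horb : MulAction.orbit (↥M24) (setOf dMask) = dodecads := by
    ext d
    constructor
    · rintro ⟨g, rfl⟩
      exact smul_mem_wordsOfWeight g.2 setOf_dMask_mem
    · intro hd
      obtain ⟨g, hg, rfl⟩ := dodecad_eq_smul_D1 hd
      obtain ⟨k, hk, hk'⟩ := dodecad_eq_smul_D1 setOf_dMask_mem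
      refine ⟨⟨g * k⁻¹, M24.mul_mem hg (M24.inv_mem hk)⟩, ?_⟩
      show (g * k⁻¹) • setOf dMask = g • setOf D1
      rw [← hk', mul_smul, inv_smul_smul]
  have hc : Nat.card (MulAction.orbit (↥M24) (setOf dMask)) = 2576 := by
    rw [horb, Nat.card_coe_set_eq, ncard_dodecads]
  rw [hc, card_stabilizer_M24] at h
  show Nat.card ↥(M24 ⊓ MulAction.stabilizer (Equiv.Perm GolayPt) (setOf dMask)) = 95040
  omega

/-- A permutation given by a table whose code fixes the mask `dMask` stabilises the dodecad. -/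
theorem smul_dMask_of_tbl {g : Equiv.Perm GolayPt} {c : ℕ} (hg : IsTbl g c)
    (h : pm c dMask = dMask) : g • setOf dMask = setOf dMask := by
  rw [← setOf_pm hg, h]

theorem gDbl_mem_G12 : gDbl ∈ G12 :=
  ⟨gDbl_mem, smul_dMask_of_tbl isTbl_gDbl (by decide +kernel)⟩

theorem cubeTwist_mem_G12 : cubeTwist ∈ G12 :=
  ⟨cubeTwist_mem, smul_dMask_of_tbl isTbl_cubeTwist (by decide +kernel)⟩

theorem gU11_mem_G12 : gU11 ∈ G12 :=
  ⟨gU11_mem, smul_dMask_of_tbl isTbl_gU11 (by decide +kernel)⟩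

theorem gZ12_mem_G12 : gZ12 ∈ G12 :=
  ⟨gZ12_mem, smul_dMask_of_tbl isTbl_gZ12 (by decide +kernel)⟩

theorem m12c_code_gen {c : ℕ} (hc : c ∈ m12ccodes) :
    ∃ g ∈ Subgroup.closure ({gDbl, cubeTwist, gU11, gZ12} : Set (Equiv.Perm GolayPt)),
      IsTbl g c := by
  rw [← m12ccodes_eq] at hc
  refine closure_codes _ m12cprog [gZ12, gU11, cubeTwist, gDbl] m12cgens
    (.cons isTbl_gZ12 (.cons isTbl_gU11 (.cons isTbl_cubeTwist (.cons isTbl_gDbl .nil)))) ?_ c hc
  intro g hg
  simp only [List.mem_cons, List.not_mem_nil, or_false] at hg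
  rcases hg with rfl | rfl | rfl | rfl <;> simp

theorem m11c_code_gen {c : ℕ} (hc : c ∈ m11ccodes) :
    ∃ g ∈ Subgroup.closure ({gDbl, cubeTwist, gU11} : Set (Equiv.Perm GolayPt)), IsTbl g c := by
  rw [← m11ccodes_eq] at hc
  refine closure_codes _ m11cprog [gU11, cubeTwist, gDbl] m11cgens
    (.cons isTbl_gU11 (.cons isTbl_cubeTwist (.cons isTbl_gDbl .nil))) ?_ c hc
  intro g hg
  simp only [List.mem_cons, List.not_mem_nil, or_false] at hg
  rcases hg with rfl | rfl | rfl <;> simp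

theorem G12_h1 {g : Equiv.Perm GolayPt} {pre : List ℕ} {c : ℕ} (hg : g ∈ G12 ⊓ fixL pre)
    (hc : c < 24) (hcX : dMask.testBit c = true) (hpre : ∀ j ∈ pre, j < 24) (hcp : c ∉ pre) :
    g (pt c) ∈ lvD dMask pre :=
  lvIn_h1 hg.2 hg.1.2 hc hcX hpre hcp

theorem lvG12_card0 : (lvD dMask []).card = 12 := by decide +kernel
theorem lvG12_card1 : (lvD dMask [0]).card = 11 := by decide +kernel
theorem lvG12_card2 : (lvD dMask [0, 1]).card = 10 := by decide +kernel
theorem lvG12_card3 : (lvD dMask [0, 1, 2]).card = 9 := by decide +kernel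
theorem lvG12_card4 : (lvD dMask [0, 1, 2, 3]).card = 8 := by decide +kernel

theorem K12_le_G12 :
    Subgroup.closure ({gDbl, cubeTwist, gU11, gZ12} : Set (Equiv.Perm GolayPt)) ≤ G12 :=
  (Subgroup.closure_le _).mpr (by
    rintro g (rfl | rfl | rfl | rfl)
    exacts [gDbl_mem_G12, cubeTwist_mem_G12, gU11_mem_G12, gZ12_mem_G12])

theorem K11_le_G12 :
    Subgroup.closure ({gDbl, cubeTwist, gU11} : Set (Equiv.Perm GolayPt)) ≤ G12 :=
  (Subgroup.closure_le _).mpr (by
    rintro g (rfl | rfl | rfl)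
    exacts [gDbl_mem_G12, cubeTwist_mem_G12, gU11_mem_G12])

/-- The levels of the chain of `G12`, from the generators. -/
theorem G12_levels :
    (∀ x ∈ lvD dMask [], ∃ g ∈ G12 ⊓ fixL [], g (pt 0) = x) ∧
    (∀ x ∈ lvD dMask [0], ∃ g ∈ G12 ⊓ fixL [0], g (pt 1) = x) ∧
    (∀ x ∈ lvD dMask [0, 1], ∃ g ∈ G12 ⊓ fixL [0, 1], g (pt 2) = x) ∧
    (∀ x ∈ lvD dMask [0, 1, 2], ∃ g ∈ G12 ⊓ fixL [0, 1, 2], g (pt 3) = x) ∧
    (∀ x ∈ lvD dMask [0, 1, 2, 3], ∃ g ∈ G12 ⊓ fixL [0, 1, 2, 3], g (pt 4) = x) := by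
  set K := Subgroup.closure ({gDbl, cubeTwist, gU11, gZ12} : Set (Equiv.Perm GolayPt)) with hK
  have l0 := level_of_check K [] 0 0x5335f m12clev0 4
    (fun c hc => m12c_code_gen (m12clev0_sub c hc)) m12clev0_ok
  have l1 := level_of_check K [0] 1 0x5335f m12clev1 5
    (fun c hc => m12c_code_gen (m12clev1_sub c hc)) m12clev1_ok
  have l2 := level_of_check K [0, 1] 2 0x5335f m12clev2 6
    (fun c hc => m12c_code_gen (m12clev2_sub c hc)) m12clev2_ok
  have l3 := level_of_check K [0, 1, 2] 3 0x5335f m12clev3 4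
    (fun c hc => m12c_code_gen (m12clev3_sub c hc)) m12clev3_ok
  have l4 := level_of_check K [0, 1, 2, 3] 4 0x5335f m12clev4 2
    (fun c hc => m12c_code_gen (m12clev4_sub c hc)) m12clev4_ok
  exact ⟨lv_h2' l0 K12_le_G12, lv_h2' l1 K12_le_G12, lv_h2' l2 K12_le_G12, lv_h2' l3 K12_le_G12,
    lv_h2' l4 K12_le_G12⟩

/-- The five-point stabiliser in `G12` is trivial. -/
theorem G12_fix5 : G12 ⊓ fixL [0, 1, 2, 3, 4] = ⊥ := by
  obtain ⟨h0, h1, h2, h3, h4⟩ := G12_levels
  have c0 := card_level G12 [] 0 (lvD dMask [])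
    (fun g hg => G12_h1 hg (by norm_num) (by decide +kernel) (by decide) (by decide)) h0
  have c1 := card_level G12 [0] 1 (lvD dMask [0])
    (fun g hg => G12_h1 hg (by norm_num) (by decide +kernel) (by decide) (by decide)) h1
  have c2 := card_level G12 [0, 1] 2 (lvD dMask [0, 1])
    (fun g hg => G12_h1 hg (by norm_num) (by decide +kernel) (by decide) (by decide)) h2
  have c3 := card_level G12 [0, 1, 2] 3 (lvD dMask [0, 1, 2])
    (fun g hg => G12_h1 hg (by norm_num) (by decide +kernel) (by decide) (by decide)) h3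
  have c4 := card_level G12 [0, 1, 2, 3] 4 (lvD dMask [0, 1, 2, 3])
    (fun g hg => G12_h1 hg (by norm_num) (by decide +kernel) (by decide) (by decide)) h4
  simp only [List.nil_append, List.cons_append] at c0 c1 c2 c3 c4
  rw [lvG12_card0] at c0
  rw [lvG12_card1] at c1
  rw [lvG12_card2] at c2
  rw [lvG12_card3] at c3
  rw [lvG12_card4] at c4
  have e0 : Nat.card ↥G12 = Nat.card ↥(G12 ⊓ fixL []) := by
    rw [fixL_nil, inf_top_eq]
  rw [card_G12] at e0
  have h5 : Nat.card ↥(G12 ⊓ fixL [0, 1, 2, 3, 4]) = 1 := by omega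
  exact Subgroup.card_eq_one.mp h5

/-- `G12` is generated by `gDbl`, `cubeTwist`, `gU11` and `gZ12`. -/
theorem G12_le_closure :
    G12 ≤ Subgroup.closure ({gDbl, cubeTwist, gU11, gZ12} : Set (Equiv.Perm GolayPt)) := by
  set K := Subgroup.closure ({gDbl, cubeTwist, gU11, gZ12} : Set (Equiv.Perm GolayPt)) with hK
  have l0 := level_of_check K [] 0 0x5335f m12clev0 4
    (fun c hc => m12c_code_gen (m12clev0_sub c hc)) m12clev0_ok
  have l1 := level_of_check K [0] 1 0x5335f m12clev1 5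
    (fun c hc => m12c_code_gen (m12clev1_sub c hc)) m12clev1_ok
  have l2 := level_of_check K [0, 1] 2 0x5335f m12clev2 6
    (fun c hc => m12c_code_gen (m12clev2_sub c hc)) m12clev2_ok
  have l3 := level_of_check K [0, 1, 2] 3 0x5335f m12clev3 4
    (fun c hc => m12c_code_gen (m12clev3_sub c hc)) m12clev3_ok
  have l4 := level_of_check K [0, 1, 2, 3] 4 0x5335f m12clev4 2
    (fun c hc => m12c_code_gen (m12clev4_sub c hc)) m12clev4_ok
  have p5 : G12 ⊓ fixL ([0, 1, 2, 3] ++ [4]) ≤ K := by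
    show G12 ⊓ fixL [0, 1, 2, 3, 4] ≤ K
    rw [G12_fix5]
    exact bot_le
  have p4 := peel_level K G12 [0, 1, 2, 3] 4 (lvD dMask [0, 1, 2, 3])
    (fun g hg => G12_h1 hg (by norm_num) (by decide +kernel) (by decide) (by decide))
    (lv_h2' l4 le_rfl) K12_le_G12 p5
  have p3 := peel_level K G12 [0, 1, 2] 3 (lvD dMask [0, 1, 2])
    (fun g hg => G12_h1 hg (by norm_num) (by decide +kernel) (by decide) (by decide))
    (lv_h2' l3 le_rfl) K12_le_G12 p4
  have p2 := peel_level K G12 [0, 1] 2 (lvD dMask [0, 1])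
    (fun g hg => G12_h1 hg (by norm_num) (by decide +kernel) (by decide) (by decide))
    (lv_h2' l2 le_rfl) K12_le_G12 p3
  have p1 := peel_level K G12 [0] 1 (lvD dMask [0])
    (fun g hg => G12_h1 hg (by norm_num) (by decide +kernel) (by decide) (by decide))
    (lv_h2' l1 le_rfl) K12_le_G12 p2
  have p0 := peel_level K G12 [] 0 (lvD dMask [])
    (fun g hg => G12_h1 hg (by norm_num) (by decide +kernel) (by decide) (by decide))
    (lv_h2' l0 le_rfl) K12_le_G12 p1
  rw [fixL_nil, inf_top_eq] at p0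
  exact p0

/-- The stabiliser of the point 0 in `G12` is generated by `gDbl`, `cubeTwist` and `gU11`. -/
theorem G11_le_closure :
    G12 ⊓ fixL [0] ≤ Subgroup.closure ({gDbl, cubeTwist, gU11} : Set (Equiv.Perm GolayPt)) := by
  set K := Subgroup.closure ({gDbl, cubeTwist, gU11} : Set (Equiv.Perm GolayPt)) with hK
  have l1 := level_of_check K [0] 1 0x5335f m11clev0 4
    (fun c hc => m11c_code_gen (m11clev0_sub c hc)) m11clev0_ok
  have l2 := level_of_check K [0, 1] 2 0x5335f m11clev1 6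
    (fun c hc => m11c_code_gen (m11clev1_sub c hc)) m11clev1_ok
  have l3 := level_of_check K [0, 1, 2] 3 0x5335f m11clev2 4
    (fun c hc => m11c_code_gen (m11clev2_sub c hc)) m11clev2_ok
  have l4 := level_of_check K [0, 1, 2, 3] 4 0x5335f m11clev3 3
    (fun c hc => m11c_code_gen (m11clev3_sub c hc)) m11clev3_ok
  have p5 : G12 ⊓ fixL ([0, 1, 2, 3] ++ [4]) ≤ K := by
    show G12 ⊓ fixL [0, 1, 2, 3, 4] ≤ K
    rw [G12_fix5]
    exact bot_le
  have p4 := peel_level K G12 [0, 1, 2, 3] 4 (lvD dMask [0, 1, 2, 3])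
    (fun g hg => G12_h1 hg (by norm_num) (by decide +kernel) (by decide) (by decide))
    (lv_h2' l4 le_rfl) K11_le_G12 p5
  have p3 := peel_level K G12 [0, 1, 2] 3 (lvD dMask [0, 1, 2])
    (fun g hg => G12_h1 hg (by norm_num) (by decide +kernel) (by decide) (by decide))
    (lv_h2' l3 le_rfl) K11_le_G12 p4
  have p2 := peel_level K G12 [0, 1] 2 (lvD dMask [0, 1])
    (fun g hg => G12_h1 hg (by norm_num) (by decide +kernel) (by decide) (by decide))
    (lv_h2' l2 le_rfl) K11_le_G12 p3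
  exact peel_level K G12 [0] 1 (lvD dMask [0])
    (fun g hg => G12_h1 hg (by norm_num) (by decide +kernel) (by decide) (by decide))
    (lv_h2' l1 le_rfl) K11_le_G12 p2

theorem M12_le :
    Spor.M12 ≤ Subgroup.closure ({gDbl, cubeTwist, gU11, gZ12} : Set (Equiv.Perm GolayPt)) := by
  rw [M12_eq_G12]
  exact G12_le_closure

theorem mem_M11_iff {g : Equiv.Perm GolayPt} :
    g ∈ Spor.M11 ↔ g ∈ Spor.M12 ∧ g (some 0) = some 0 := Iff.rfl

theorem M11_le :
    Spor.M11 ≤ Subgroup.closure ({gDbl, cubeTwist, gU11} : Set (Equiv.Perm GolayPt)) := by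
  intro g hg
  apply G11_le_closure
  refine ⟨?_, mem_fixL_one.mpr ?_⟩
  · rw [← M12_eq_G12]
    exact hg.1
  · rw [pt_0]
    exact hg.2

theorem M12_le_M24 : Spor.M12 ≤ M24 := inf_le_left

theorem M11_le_M24 : Spor.M11 ≤ M24 := inf_le_left.trans inf_le_left

/-- Elements of `Spor.M12` stabilise the set of the mask `dMask`. -/
theorem M12_smul {y : Equiv.Perm GolayPt} (hy : y ∈ Spor.M12) : y • setOf dMask = setOf dMask := by
  rw [M12_eq_G12] at hy
  exact hy.2

theorem mem_M12_of {y : Equiv.Perm GolayPt} (hM : y ∈ M24) (hd : y • setOf dMask = setOf dMask) :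
    y ∈ Spor.M12 := by
  rw [M12_eq_G12]
  exact ⟨hM, hd⟩

theorem gDbl_mem_M12 : gDbl ∈ Spor.M12 := M12_eq_G12 ▸ gDbl_mem_G12
theorem cubeTwist_mem_M12 : cubeTwist ∈ Spor.M12 := M12_eq_G12 ▸ cubeTwist_mem_G12
theorem gU11_mem_M12 : gU11 ∈ Spor.M12 := M12_eq_G12 ▸ gU11_mem_G12
theorem gZ12_mem_M12 : gZ12 ∈ Spor.M12 := M12_eq_G12 ▸ gZ12_mem_G12

theorem gDbl_mem_M11 : gDbl ∈ Spor.M11 := ⟨gDbl_mem_M12, gDbl_zero⟩
theorem cubeTwist_mem_M11 : cubeTwist ∈ Spor.M11 := ⟨cubeTwist_mem_M12, cubeTwist_zero⟩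
theorem gU11_mem_M11 : gU11 ∈ Spor.M11 := ⟨gU11_mem_M12, gU11_zero⟩

end Cfsg.Agent.Helper7
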