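/-
Helper7 library: simplicity of `M24` and of the dodecad stabilizers (from the simplicity of the
point stabilizers), in the subgroup-of-`↥M24` form used by the statements.
-/
import Cfsg.Agent.Helper7.MathieuSimple

set_option autoImplicit false
open scoped Pointwise

namespace Cfsg.Agent.Helper7

open Cfsg

/-- A point stabiliser in `↥M24` is simple. -/
theorem simple_stabilizer_pt (p : GolayPt) : IsSimpleGroup (MulAction.stabilizer (↥M24) p) := by
  have := simple_stab_pt p
  exact (stabSubEquiv M24 p).isSimpleGroup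

/-- A two-point stabiliser in `↥M24` is simple. -/
theorem simple_stabilizer_pair {p q : GolayPt} (hpq : p ≠ q) :
    IsSimpleGroup ↥(MulAction.stabilizer (↥M24) p ⊓ MulAction.stabilizer (↥M24) q) := by
  have hstab : MulAction.stabilizer (↥M24) p ⊓ MulAction.stabilizer (↥M24) q
      = MulAction.stabilizer (↥M24) (p, q) := by
    ext g
    simp only [MulAction.mem_stabilizer_iff, Subgroup.mem_inf, Prod.smul_mk, Prod.mk.injEq]
  have := simple_stab_pair hpq
  exact ((MulEquiv.subgroupCongr hstab).trans (stabSubEquiv M24 (p, q))).isSimpleGroup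

/-- The stabiliser in `↥M24` of a dodecad and a point of it is simple. -/
theorem simple_stabilizer_flag {d : Finset GolayPt} (hd : d ∈ dodecads) {p : GolayPt}
    (hp : p ∈ d) :
    IsSimpleGroup ↥(MulAction.stabilizer (↥M24) d ⊓ MulAction.stabilizer (↥M24) p) := by
  have hstab : MulAction.stabilizer (↥M24) d ⊓ MulAction.stabilizer (↥M24) p
      = MulAction.stabilizer (↥M24) (d, p) := by
    ext g
    simp only [MulAction.mem_stabilizer_iff, Subgroup.mem_inf, Prod.smul_mk, Prod.mk.injEq]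
  have := simple_stab_flag hd hp
  exact ((MulEquiv.subgroupCongr hstab).trans (stabSubEquiv M24 (d, p))).isSimpleGroup

/-- `M24` is simple. -/
theorem simple_M24 : IsSimpleGroup ↥M24 := by
  refine simple_of_three_trans (G := ↥M24) (Ω := GolayPt) Set.univ (fun _ _ _ => Set.mem_univ _)
    ?_ ?_ Set.finite_univ 3 (by norm_num) (by norm_num) ?_ ?_ (pt 0) (Set.mem_univ _)
    (simple_stabilizer_pt (pt 0))
  · intro g hg
    exact Subtype.ext (Equiv.ext fun x => hg x (Set.mem_univ x))
  · intro a _ b _ c _ a' _ b' _ c' _ hab hac hbc hab' hac' hbc'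
    obtain ⟨g, hg, h1, h2, h3⟩ := m24_trans3 hab hac hbc hab' hac' hbc'
    exact ⟨⟨g, hg⟩, h1, h2, h3⟩
  · rw [Set.ncard_univ, Nat.card_eq_fintype_card]
    decide
  · rw [Set.ncard_univ, Nat.card_eq_fintype_card]
    decide

/-- `M12grp` is transitive on triples of distinct points of the dodecad. -/
theorem m12_triple {a b c : GolayPt} (ha : a ∈ setOf D1) (hb : b ∈ setOf D1) (hc : c ∈ setOf D1)
    (hab : a ≠ b) (hac : a ≠ c) (hbc : b ≠ c) :
    ∃ k ∈ M12grp, k (pt 0) = a ∧ k (pt 1) = b ∧ k (pt 2) = c := by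
  obtain ⟨k, hk, h⟩ := chain_tuple M12grp (setOf 0xaf101f) M12grp_D1 [0, 1, 2]
    ⟨m12levelA0, m12levelA1, m12levelA2, trivial⟩ [a, b, c] rfl
    (by simp [hab, hac, hbc])
    (by
      intro y hy
      simp only [List.mem_cons, List.not_mem_nil, or_false] at hy
      rcases hy with rfl | rfl | rfl
      exacts [ha, hb, hc])
  simp only [List.map_cons, List.map_nil, List.cons.injEq, and_true] at h
  exact ⟨k, hk, h.1, h.2.1, h.2.2⟩

/-- An element of `M24` stabilizing a dodecad and fixing all its points is the identity. -/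
theorem dodecad_fix_eq_one {d : Finset GolayPt} (hd : d ∈ dodecads) {g : Equiv.Perm GolayPt}
    (hg : g ∈ M24) (hgd : g • d = d) (hfix : ∀ x ∈ d, g x = x) : g = 1 := by
  obtain ⟨h, hh, rfl⟩ := dodecad_eq_smul_D1 hd
  have hk : h⁻¹ * g * h ∈ M12grp ⊓ fixL [0, 1, 2, 3, 4] := by
    refine ⟨conj_mem_M12grp hh hg hgd, ?_⟩
    intro j hj
    have hjD : pt j ∈ setOf D1 := by
      simp only [List.mem_cons, List.not_mem_nil, or_false] at hj
      rcases hj with rfl | rfl | rfl | rfl | rfl <;> decide +kernel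
    have hmem : h (pt j) ∈ h • setOf D1 := Finset.smul_mem_smul_finset hjD
    rw [Equiv.Perm.mul_apply, Equiv.Perm.mul_apply, hfix _ hmem]
    simp
  rw [M12grp_fix5, Subgroup.mem_bot] at hk
  have : g = h * (h⁻¹ * g * h) * h⁻¹ := by group
  rw [this, hk]
  group

/-- The stabilizer of a dodecad in `M24` is transitive on triples of distinct points of it. -/
theorem dodecad_trans3 {d : Finset GolayPt} (hd : d ∈ dodecads) {a b c a' b' c' : GolayPt}
    (ha : a ∈ d) (hb : b ∈ d) (hc : c ∈ d) (ha' : a' ∈ d) (hb' : b' ∈ d) (hc' : c' ∈ d)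
    (hab : a ≠ b) (hac : a ≠ c) (hbc : b ≠ c) (hab' : a' ≠ b') (hac' : a' ≠ c') (hbc' : b' ≠ c') :
    ∃ g ∈ M24, g • d = d ∧ g a = a' ∧ g b = b' ∧ g c = c' := by
  obtain ⟨h, hh, rfl⟩ := dodecad_eq_smul_D1 hd
  have key : ∀ {x : GolayPt}, x ∈ h • setOf D1 → h⁻¹ x ∈ setOf D1 := fun hx =>
    Finset.inv_smul_mem_iff.mpr hx
  have inj : ∀ {x y : GolayPt}, x ≠ y → h⁻¹ x ≠ h⁻¹ y := fun hxy h' => hxy (h⁻¹.injective h')
  obtain ⟨k, hk, k0, k1, k2⟩ := m12_triple (key ha) (key hb) (key hc) (inj hab) (inj hac) (inj hbc)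
  obtain ⟨k', hk', k0', k1', k2'⟩ := m12_triple (key ha') (key hb') (key hc') (inj hab')
    (inj hac') (inj hbc')
  have hkk : k' * k⁻¹ ∈ M12grp := M12grp.mul_mem hk' (M12grp.inv_mem hk)
  refine ⟨h * (k' * k⁻¹) * h⁻¹, M24.mul_mem (M24.mul_mem hh hkk.1) (M24.inv_mem hh),
    conj_M12grp_smul hkk, ?_, ?_, ?_⟩
  · simp only [Equiv.Perm.mul_apply]
    rw [← k0]
    simp [k0']
  · simp only [Equiv.Perm.mul_apply]
    rw [← k1]
    simp [k1']
  · simp only [Equiv.Perm.mul_apply]
    rw [← k2]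
    simp [k2']

/-- The stabiliser in `↥M24` of a dodecad is simple. -/
theorem simple_stabilizer_dodecad {d : Finset GolayPt} (hd : d ∈ dodecads) :
    IsSimpleGroup (MulAction.stabilizer (↥M24) d) := by
  have hcard : d.card = 12 := hd.2
  obtain ⟨a, ha⟩ : d.Nonempty := Finset.card_pos.mp (by omega)
  have hsimple : IsSimpleGroup (MulAction.stabilizer (↥(MulAction.stabilizer (↥M24) d)) a) := by
    have := simple_stabilizer_flag hd ha
    exact (stabSubEquiv (MulAction.stabilizer (↥M24) d) a).isSimpleGroup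
  refine simple_of_three_trans (G := ↥(MulAction.stabilizer (↥M24) d)) (Ω := GolayPt)
    (d : Set GolayPt) ?_ ?_ ?_ (Finset.finite_toSet d) 3 (by norm_num) (by norm_num) ?_ ?_ a
    (Finset.mem_coe.mpr ha) hsimple
  · intro g x hx
    have hg : g.1.1 • d = d := g.2
    rw [Finset.mem_coe] at hx ⊢
    have h2 : g.1.1 x ∈ g.1.1 • d := Finset.smul_mem_smul_finset hx
    rw [hg] at h2
    exact h2
  · intro g hg
    have hg' : g.1.1 • d = d := g.2
    have h1 : g.1.1 = 1 := dodecad_fix_eq_one hd g.1.2 hg' (fun x hx => hg x (Finset.mem_coe.mpr hx))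
    exact Subtype.ext (Subtype.ext h1)
  · intro a ha b hb c hc a' ha' b' hb' c' hc' hab hac hbc hab' hac' hbc'
    obtain ⟨g, hg, hgd, h1, h2, h3⟩ := dodecad_trans3 hd ha hb hc ha' hb' hc' hab hac hbc
      hab' hac' hbc'
    exact ⟨⟨⟨g, hg⟩, hgd⟩, h1, h2, h3⟩
  · rw [Set.ncard_coe_finset, hcard]
    norm_num
  · rw [Set.ncard_coe_finset, hcard]
    norm_num

end Cfsg.Agent.Helper7
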