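/-
Helper7 library: every automorphism of `M11` (the stabiliser in `M12` of a point of the dodecad)
is inner.
-/
import Cfsg.Agent.Helper7.M12Gens

set_option autoImplicit false
open scoped Pointwise

namespace Cfsg.Agent.Helper7

open Cfsg

/-! ### Fingerprints -/

def codes11 : List ℕ := [cDbl, cC, cU11]

def cand11 (ε i : ℕ) : List ℕ := [pwDbl.getD ε 0, cC, comp cU11 (pwTw.getD i 0)]

def words11 : List (List ℕ × ℕ) := [([0, 2, 1], 5)]

theorem words11_orig :
    words11.all (fun wn => Nat.beq (powC (evalC codes11 wn.1) wn.2) idCode) = true := by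
  decide +kernel

def fp11 (ε i : ℕ) : Bool :=
  (Nat.beq ε 1 && Nat.beq i 0) ||
    words11.any (fun wn => moves (powC (evalC (cand11 ε i) wn.1) wn.2))

theorem fp11_all : [1, 10].all (fun ε => (List.range 5).all fun i => fp11 ε i) = true := by
  decide +kernel

/-- Every automorphism of `M11` is inner. -/
theorem aut_M11_inner (α : MulAut ↥Spor.M11) : α ∈ Inn ↥Spor.M11 := by
  have : Fact (Nat.Prime 11) := ⟨by norm_num⟩
  have hp2 : ¬ 11 ^ 2 ∣ Nat.card ↥Spor.M11 := not_sq11_dvd_card M11_le_M24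
  let eDbl : ↥Spor.M11 := ⟨gDbl, gDbl_mem_M11⟩
  let eTw : ↥Spor.M11 := ⟨cubeTwist, cubeTwist_mem_M11⟩
  let eU : ↥Spor.M11 := ⟨gU11, gU11_mem_M11⟩
  have hA : orderOf eDbl = 11 := by
    rw [← Subgroup.orderOf_coe]; exact orderOf_gDbl
  have hBA : eTw * eDbl * eTw⁻¹ = eDbl ^ 3 := Subtype.ext rel_tw_dbl
  have hcent : ∀ y : ↥Spor.M11, y * eDbl = eDbl * y → ∃ i : ℕ, y = eDbl ^ i := by
    intro y hy
    obtain ⟨e, -, he⟩ := cent_gDbl (y := y.1) (M11_le_M24 y.2) (congrArg Subtype.val hy)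
    exact ⟨e, Subtype.ext he⟩
  obtain ⟨β, hβ, ε, hε, hγA, hγB⟩ :=
    normalize_frob hp2 hA hBA hcent [1, 10] (by decide) (by decide) α
  have hc := tied_commute (β * α) (S := eTw) (S' := eTw ^ 2) (U := eU) hγB
    (by rw [map_pow, hγB]) (Subtype.ext rel_u11_tw)
  obtain ⟨c, hcmem, hcT⟩ := cent_tw_M11 (y := (eU⁻¹ * (β * α) eU).1)
    (M11_le_M24 (eU⁻¹ * (β * α) eU).2) (M12_smul (eU⁻¹ * (β * α) eU).2.1)
    (by rw [pt_0]; exact (eU⁻¹ * (β * α) eU).2.2) (congrArg Subtype.val hc)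
  obtain ⟨i, hi, hyi⟩ := eq_pow_of_mem_pwTw hcmem hcT
  have hγU : (β * α) eU = eU * eTw ^ i := by
    have : eU⁻¹ * (β * α) eU = eTw ^ i := Subtype.ext hyi
    rw [← this]; group
  have hε11 : ε < 11 := by
    simp only [List.mem_cons, List.not_mem_nil, or_false] at hε
    omega
  have key : ε = 1 ∧ i = 0 := by
    have hfp : fp11 ε i = true := by
      have h1 := List.all_eq_true.mp fp11_all ε hε
      exact List.all_eq_true.mp h1 i (List.mem_range.mpr hi)
    rw [fp11, Bool.or_eq_true] at hfp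
    rcases hfp with hfp | hfp
    · rw [Bool.and_eq_true] at hfp
      exact ⟨Nat.eq_of_beq_eq_true hfp.1, Nat.eq_of_beq_eq_true hfp.2⟩
    · exfalso
      rw [List.any_eq_true] at hfp
      obtain ⟨wn, hwn, hmv⟩ := hfp
      have horig := List.all_eq_true.mp words11_orig wn hwn
      refine fingerprint (β * α) [eDbl, eTw, eU] (codes := codes11)
        (codes' := cand11 ε i) ?_ ?_ wn.1 wn.2 horig hmv
      · exact .cons isTbl_gDbl (.cons isTbl_cubeTwist (.cons isTbl_gU11 .nil))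
      · simp only [List.map_cons, List.map_nil, hγA, hγB, hγU]
        refine .cons ?_ (.cons isTbl_cubeTwist (.cons ?_ .nil))
        · rw [pwDbl_eq, getD_powList hε11]
          exact isTbl_pow isTbl_gDbl ε
        · rw [pwTw_eq, getD_powList hi]
          exact isTbl_gU11.mul (isTbl_pow isTbl_cubeTwist i)
  obtain ⟨rfl, rfl⟩ := key
  have hγ1 : β * α = 1 := by
    apply aut_eq_one_of_closure (S := ({gDbl, cubeTwist, gU11} : Set (Equiv.Perm GolayPt)))
      M11_le (by
        rintro g (rfl | rfl | rfl)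
        exacts [gDbl_mem_M11, cubeTwist_mem_M11, gU11_mem_M11])
    intro x hx
    rcases hx with rfl | rfl | rfl
    · rw [show (⟨gDbl, _⟩ : ↥Spor.M11) = eDbl from rfl, hγA, pow_one]
    · exact hγB
    · rw [show (⟨gU11, _⟩ : ↥Spor.M11) = eU from rfl, hγU, pow_zero, mul_one]
  exact inn_of_mul hβ (hγ1 ▸ Subgroup.one_mem _)

end Cfsg.Agent.Helper7
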