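/-
Helper7 library: the outer automorphism group of `M12` (the stabiliser of a dodecad in `M24`)
has order 2.
-/
import Cfsg.Agent.Helper7.M12Gens

set_option autoImplicit false
open scoped Pointwise

namespace Cfsg.Agent.Helper7

open Cfsg

/-! ### The outer element -/

theorem projInv_smul_dMask : projInv • setOf dMask = setOf cMask := by
  rw [← setOf_pm isTbl_projInv, show pm cB dMask = cMask by decide +kernel]

theorem projInv_smul_cMask : projInv • setOf cMask = setOf dMask := by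
  rw [← setOf_pm isTbl_projInv, show pm cB cMask = dMask by decide +kernel]

theorem setOf_cMask_ne : setOf cMask ≠ setOf dMask := by
  intro h
  have h1 : pt 0 ∈ setOf dMask := pt_mem_dMask (Or.inl rfl)
  rw [← h, mem_cMask_iff] at h1
  exact h1 (pt_mem_dMask (Or.inl rfl))

theorem projInv_not_mem_M12 : projInv ∉ Spor.M12 := by
  intro h
  have h1 := M12_smul h
  rw [projInv_smul_dMask] at h1
  exact setOf_cMask_ne h1

theorem projInv_conj_M12 {x : Equiv.Perm GolayPt} (hx : x ∈ Spor.M12) :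
    projInv * x * projInv⁻¹ ∈ Spor.M12 := by
  refine mem_M12_of (M24.mul_mem (M24.mul_mem projInv_mem (M12_le_M24 hx))
    (M24.inv_mem projInv_mem)) ?_
  have h1 : projInv⁻¹ • setOf dMask = setOf cMask := by
    rw [inv_smul_eq_iff, projInv_smul_cMask]
  rw [mul_smul, mul_smul, h1, stab_cMask (M12_smul hx), projInv_smul_cMask]

theorem projInv_conj_inv_M12 {x : Equiv.Perm GolayPt} (hx : x ∈ Spor.M12) :
    projInv⁻¹ * x * projInv ∈ Spor.M12 := by
  refine mem_M12_of (M24.mul_mem (M24.mul_mem (M24.inv_mem projInv_mem) (M12_le_M24 hx))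
    projInv_mem) ?_
  have h1 : projInv⁻¹ • setOf cMask = setOf dMask := by
    rw [inv_smul_eq_iff, projInv_smul_dMask]
  rw [mul_smul, mul_smul, projInv_smul_dMask, stab_cMask (M12_smul hx), h1]

/-! ### Fingerprints -/

def codes12 : List ℕ := [cDbl, cC, cU11, cZ12]

def cand12 (c c' : ℕ) : List ℕ := [cDbl, cC, comp cU11 c, comp cZ12 c']

def words12 : List (List ℕ × ℕ) := [([0, 2, 1], 5), ([0, 2, 3], 3)]

theorem words12_orig :
    words12.all (fun wn => Nat.beq (powC (evalC codes12 wn.1) wn.2) idCode) = true := by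
  decide +kernel

def fp12 (c c' : ℕ) : Bool :=
  (Nat.beq c idCode && Nat.beq c' idCode) ||
    words12.any (fun wn => moves (powC (evalC (cand12 c c') wn.1) wn.2))

theorem fp12_all : c12list.all (fun c => c12list.all fun c' => fp12 c c') = true := by
  decide +kernel

/-- The outer automorphism group of `M12` has order 2. -/
theorem card_out_M12 : Nat.card (Out ↥Spor.M12) = 2 := by
  have : Fact (Nat.Prime 11) := ⟨by norm_num⟩
  have hp2 : ¬ 11 ^ 2 ∣ Nat.card ↥Spor.M12 := not_sq11_dvd_card M12_le_M24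
  let eDbl : ↥Spor.M12 := ⟨gDbl, gDbl_mem_M12⟩
  let eTw : ↥Spor.M12 := ⟨cubeTwist, cubeTwist_mem_M12⟩
  let eU : ↥Spor.M12 := ⟨gU11, gU11_mem_M12⟩
  let eZ : ↥Spor.M12 := ⟨gZ12, gZ12_mem_M12⟩
  have hA : orderOf eDbl = 11 := by
    rw [← Subgroup.orderOf_coe]; exact orderOf_gDbl
  have hBA : eTw * eDbl * eTw⁻¹ = eDbl ^ 3 := Subtype.ext rel_tw_dbl
  have hcent : ∀ y : ↥Spor.M12, y * eDbl = eDbl * y → ∃ i : ℕ, y = eDbl ^ i := by
    intro y hy
    obtain ⟨e, -, he⟩ := cent_gDbl (y := y.1) (M12_le_M24 y.2) (congrArg Subtype.val hy)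
    exact ⟨e, Subtype.ext he⟩
  have hn1 : ∀ x ∈ Spor.M12, projInv * x * projInv⁻¹ ∈ Spor.M12 := fun x hx => projInv_conj_M12 hx
  have hn2 : ∀ x ∈ Spor.M12, projInv⁻¹ * x * projInv ∈ Spor.M12 :=
    fun x hx => projInv_conj_inv_M12 hx
  have hτ : conjAut Spor.M12 projInv hn1 hn2 ∉ Inn ↥Spor.M12 := by
    refine conjAut_not_inner_of_le Spor.M12 M24 M12_le_M24 projInv projInv_mem hn1 hn2
      projInv_not_mem_M12 gDbl gDbl_mem_M12 ?_
    intro y hy hcomm
    obtain ⟨e, -, rfl⟩ := cent_gDbl hy hcomm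
    exact Spor.M12.pow_mem gDbl_mem_M12 e
  have hτA : conjAut Spor.M12 projInv hn1 hn2 eDbl = eDbl ^ 10 := Subtype.ext rel_inv_dbl
  have hτB : conjAut Spor.M12 projInv hn1 hn2 eTw = eTw := Subtype.ext rel_inv_tw
  have key : ∀ γ : MulAut ↥Spor.M12, γ eDbl = eDbl → γ eTw = eTw → γ = 1 := by
    intro γ h1 h2
    have hcU := tied_commute γ (S := eTw) (S' := eTw ^ 2) (U := eU) h2 (by rw [map_pow, h2])
      (Subtype.ext rel_u11_tw)
    have hcZ := tied_commute γ (S := eTw) (S' := eTw) (U := eZ) h2 h2 (Subtype.ext rel_z12_tw)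
    obtain ⟨c, hcmem, hcT⟩ := cent_tw_M12 (y := (eU⁻¹ * γ eU).1)
      (M12_le_M24 (eU⁻¹ * γ eU).2) (M12_smul (eU⁻¹ * γ eU).2) (congrArg Subtype.val hcU)
    obtain ⟨c', hcmem', hcT'⟩ := cent_tw_M12 (y := (eZ⁻¹ * γ eZ).1)
      (M12_le_M24 (eZ⁻¹ * γ eZ).2) (M12_smul (eZ⁻¹ * γ eZ).2) (congrArg Subtype.val hcZ)
    have hU : ((γ eU : ↥Spor.M12) : Equiv.Perm GolayPt) = gU11 * (eU⁻¹ * γ eU).1 := by
      show _ = gU11 * (gU11⁻¹ * (γ eU).1)
      rw [mul_inv_cancel_left]
    have hZ : ((γ eZ : ↥Spor.M12) : Equiv.Perm GolayPt) = gZ12 * (eZ⁻¹ * γ eZ).1 := by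
      show _ = gZ12 * (gZ12⁻¹ * (γ eZ).1)
      rw [mul_inv_cancel_left]
    have hcc : c = idCode ∧ c' = idCode := by
      have hfp : fp12 c c' = true := by
        have h3 := List.all_eq_true.mp fp12_all c hcmem
        exact List.all_eq_true.mp h3 c' hcmem'
      rw [fp12, Bool.or_eq_true] at hfp
      rcases hfp with hfp | hfp
      · rw [Bool.and_eq_true] at hfp
        exact ⟨Nat.eq_of_beq_eq_true hfp.1, Nat.eq_of_beq_eq_true hfp.2⟩
      · exfalso
        rw [List.any_eq_true] at hfp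
        obtain ⟨wn, hwn, hmv⟩ := hfp
        have horig := List.all_eq_true.mp words12_orig wn hwn
        refine fingerprint γ [eDbl, eTw, eU, eZ] (codes := codes12) (codes' := cand12 c c') ?_ ?_
          wn.1 wn.2 horig hmv
        · exact .cons isTbl_gDbl (.cons isTbl_cubeTwist (.cons isTbl_gU11
            (.cons isTbl_gZ12 .nil)))
        · simp only [List.map_cons, List.map_nil, h1, h2]
          refine .cons isTbl_gDbl (.cons isTbl_cubeTwist (.cons ?_ (.cons ?_ .nil)))
          · rw [hU]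
            exact isTbl_gU11.mul hcT
          · rw [hZ]
            exact isTbl_gZ12.mul hcT'
    obtain ⟨rfl, rfl⟩ := hcc
    have hγU : γ eU = eU := by
      apply Subtype.ext
      rw [hU, hcT.eq IsTbl.one, mul_one]
    have hγZ : γ eZ = eZ := by
      apply Subtype.ext
      rw [hZ, hcT'.eq IsTbl.one, mul_one]
    apply aut_eq_one_of_closure
      (S := ({gDbl, cubeTwist, gU11, gZ12} : Set (Equiv.Perm GolayPt))) M12_le (by
        rintro g (rfl | rfl | rfl | rfl)
        exacts [gDbl_mem_M12, cubeTwist_mem_M12, gU11_mem_M12, gZ12_mem_M12])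
    intro x hx
    rcases hx with rfl | rfl | rfl | rfl
    · exact h1
    · exact h2
    · exact hγU
    · exact hγZ
  refine card_out_eq_two _ hτ (fun α => ?_)
  obtain ⟨β, hβ, ε, hε, hγA, hγB⟩ :=
    normalize_frob hp2 hA hBA hcent [1, 10] (by decide) (by decide) α
  apply inn_or_of_normalized hβ
  simp only [List.mem_cons, List.not_mem_nil, or_false] at hε
  rcases hε with rfl | rfl
  · left
    exact key _ (by rw [hγA, pow_one]) hγB
  · right
    obtain ⟨h1, h2⟩ := normalize_outer hA _ (β * α) hτA hτB hγA hγB (by norm_num)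
    exact key _ h1 h2

end Cfsg.Agent.Helper7
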