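/-
Helper7 library: the outer automorphism group of `M22` (the stabiliser of two points in `M24`)
has order 2.
-/
import Cfsg.Agent.Helper7.M22Closure
import Cfsg.Agent.Helper7.OutTools

set_option autoImplicit false
open scoped Pointwise

namespace Cfsg.Agent.Helper7

open Cfsg

theorem m22c_code_gen {c : ℕ} (hc : c ∈ m22ccodes) :
    ∃ g ∈ Subgroup.closure ({gDbl, cubeTwist, gU22} : Set (Equiv.Perm GolayPt)), IsTbl g c := by
  rw [← m22ccodes_eq] at hc
  refine closure_codes _ m22cprog [gU22, cubeTwist, gDbl] m22cgens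
    (.cons isTbl_gU22 (.cons isTbl_cubeTwist (.cons isTbl_gDbl .nil))) ?_ c hc
  intro g hg
  simp only [List.mem_cons, List.not_mem_nil, or_false] at hg
  rcases hg with rfl | rfl | rfl <;> simp

/-- The stabiliser of the points 23 and 0 in `M24` is generated by `gDbl`, `cubeTwist`, `gU22`. -/
theorem M22_le_closure :
    M24 ⊓ fixL [23, 0]
      ≤ Subgroup.closure ({gDbl, cubeTwist, gU22} : Set (Equiv.Perm GolayPt)) := by
  set K := Subgroup.closure ({gDbl, cubeTwist, gU22} : Set (Equiv.Perm GolayPt)) with hK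
  have hKG : K ≤ M24 := (Subgroup.closure_le _).mpr (by
    rintro g (rfl | rfl | rfl)
    exacts [gDbl_mem, cubeTwist_mem, gU22_mem])
  have l0 := level_of_check K [23, 0] 1 0xffffff m22clev0 6
    (fun c hc => m22c_code_gen (m22clev0_sub c hc)) m22clev0_ok
  have l1 := level_of_check K [23, 0, 1] 2 0xffffff m22clev1 7
    (fun c hc => m22c_code_gen (m22clev1_sub c hc)) m22clev1_ok
  have l2 := level_of_check K [23, 0, 1, 2] 3 0xffffff m22clev2 5
    (fun c hc => m22c_code_gen (m22clev2_sub c hc)) m22clev2_ok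
  have l3 := level_of_check K [23, 0, 1, 2, 3] 5 0x82402f m22clev3 2
    (fun c hc => m22c_code_gen (m22clev3_sub c hc)) m22clev3_ok
  have l4 := level_of_check K [23, 0, 1, 2, 3, 5] 4 0x7dbfd0 m22clev4 4
    (fun c hc => m22c_code_gen (m22clev4_sub c hc)) m22clev4_ok
  have hO : ∀ g ∈ M24, ∀ pre : List ℕ, g ∈ fixL pre →
      (∀ j, j < 24 → (0x80000f : ℕ).testBit j = true → j ∈ pre) → g • setOf O23 = setOf O23 :=
    fun g hg pre hfix hF => octad_fixed_of_fixL hg (X := O23) (F := 0x80000f) (by decide +kernel)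
      (by decide +kernel) (by decide +kernel) hfix hF
  have p7 : M24 ⊓ fixL [23, 0, 1, 2, 3, 5, 4] ≤ K := by
    intro g hg
    have h1 : g = 1 := rigid_of_check [] m23crigid 0x80003f m23crigid_ok g hg.1
      (by intro P hP; cases hP) (fixL_setOf hg.2 (by decide))
    rw [h1]
    exact K.one_mem
  have p6 := peel_level K M24 [23, 0, 1, 2, 3, 5] 4 (lvD (0xffffff ^^^ O23) [23, 0, 1, 2, 3, 5])
    (fun g hg => lvOut_h1 hg.2 (hO g hg.1 _ hg.2 (by decide)) (by norm_num) (by decide +kernel)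
      (by decide) (by decide)) (lv_h2' l4 le_rfl) hKG p7
  have p5 := peel_level K M24 [23, 0, 1, 2, 3] 5 (lvD O23 [23, 0, 1, 2, 3])
    (fun g hg => lvIn_h1 hg.2 (hO g hg.1 _ hg.2 (by decide)) (by norm_num) (by decide +kernel)
      (by decide) (by decide)) (lv_h2' l3 le_rfl) hKG p6
  have p4 := peel_level K M24 [23, 0, 1, 2] 3 (lvD 0xffffff [23, 0, 1, 2])
    (fun g hg => lv_h1 hg.2 (by norm_num) (by decide) (by decide)) (lv_h2' l2 le_rfl) hKG p5
  have p3 := peel_level K M24 [23, 0, 1] 2 (lvD 0xffffff [23, 0, 1])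
    (fun g hg => lv_h1 hg.2 (by norm_num) (by decide) (by decide)) (lv_h2' l1 le_rfl) hKG p4
  exact peel_level K M24 [23, 0] 1 (lvD 0xffffff [23, 0])
    (fun g hg => lv_h1 hg.2 (by norm_num) (by decide) (by decide)) (lv_h2' l0 le_rfl) hKG p3

theorem mem_M22_iff {g : Equiv.Perm GolayPt} :
    g ∈ Spor.M22 ↔ (g ∈ M24 ∧ g none = none) ∧ g (some 0) = some 0 := Iff.rfl

theorem M22_le :
    Spor.M22 ≤ Subgroup.closure ({gDbl, cubeTwist, gU22} : Set (Equiv.Perm GolayPt)) := by
  intro g hg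
  apply M22_le_closure
  refine ⟨hg.1.1, mem_fixL_two.mpr ⟨?_, ?_⟩⟩
  · rw [pt_23]
    exact hg.1.2
  · rw [pt_0]
    exact hg.2

/-! ### Fingerprints -/

def codes22 : List ℕ := [cDbl, cC, cU22]

def cand22 (i : ℕ) : List ℕ := [cDbl, cC, comp cU22 (pwTw.getD i 0)]

def words22 : List (List ℕ × ℕ) := [([0, 2], 11)]

theorem words22_orig :
    words22.all (fun wn => Nat.beq (powC (evalC codes22 wn.1) wn.2) idCode) = true := by
  decide +kernel

def fp22 (i : ℕ) : Bool :=
  Nat.beq i 0 || words22.any (fun wn => moves (powC (evalC (cand22 i) wn.1) wn.2))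

theorem fp22_all : (List.range 5).all fp22 = true := by decide +kernel

/-- The outer automorphism group of `M22` has order 2. -/
theorem card_out_M22 : Nat.card (Out ↥Spor.M22) = 2 := by
  have : Fact (Nat.Prime 11) := ⟨by norm_num⟩
  have hp2 : ¬ 11 ^ 2 ∣ Nat.card ↥Spor.M22 :=
    not_sq11_dvd_card (show Spor.M22 ≤ M24 from inf_le_left.trans inf_le_left)
  let eDbl : ↥Spor.M22 := ⟨gDbl, ⟨gDbl_mem, gDbl_none⟩, gDbl_zero⟩
  let eTw : ↥Spor.M22 := ⟨cubeTwist, ⟨cubeTwist_mem, cubeTwist_none⟩, cubeTwist_zero⟩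
  let eU : ↥Spor.M22 := ⟨gU22, ⟨gU22_mem, gU22_none⟩, gU22_zero⟩
  have hA : orderOf eDbl = 11 := by
    rw [← Subgroup.orderOf_coe]; exact orderOf_gDbl
  have hBA : eTw * eDbl * eTw⁻¹ = eDbl ^ 3 := Subtype.ext rel_tw_dbl
  have hcent : ∀ y : ↥Spor.M22, y * eDbl = eDbl * y → ∃ i : ℕ, y = eDbl ^ i := by
    intro y hy
    obtain ⟨e, -, he⟩ := cent_gDbl (y := y.1) y.2.1.1 (congrArg Subtype.val hy)
    exact ⟨e, Subtype.ext he⟩
  have hn1 : ∀ x ∈ Spor.M22, projInv * x * projInv⁻¹ ∈ Spor.M22 := fun x hx =>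
    ⟨⟨M24.mul_mem (M24.mul_mem projInv_mem hx.1.1) (M24.inv_mem projInv_mem),
      conj_apply_of_fix projInv_zero hx.2⟩, conj_apply_of_fix projInv_none hx.1.2⟩
  have hn2 : ∀ x ∈ Spor.M22, projInv⁻¹ * x * projInv ∈ Spor.M22 := fun x hx =>
    ⟨⟨M24.mul_mem (M24.mul_mem (M24.inv_mem projInv_mem) hx.1.1) projInv_mem,
      conj_inv_apply_of_fix projInv_none hx.2⟩, conj_inv_apply_of_fix projInv_zero hx.1.2⟩
  have hτ : conjAut Spor.M22 projInv hn1 hn2 ∉ Inn ↥Spor.M22 := by
    refine conjAut_not_inner_of_le Spor.M22 M24 (inf_le_left.trans inf_le_left) projInv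
      projInv_mem hn1 hn2 ?_ gDbl eDbl.2 ?_
    · intro h
      have h1 : projInv none = none := h.1.2
      rw [projInv_none] at h1
      cases h1
    · intro y hy hcomm
      obtain ⟨e, -, rfl⟩ := cent_gDbl hy hcomm
      exact Spor.M22.pow_mem eDbl.2 e
  have hτA : conjAut Spor.M22 projInv hn1 hn2 eDbl = eDbl ^ 10 := Subtype.ext rel_inv_dbl
  have hτB : conjAut Spor.M22 projInv hn1 hn2 eTw = eTw := Subtype.ext rel_inv_tw
  have key : ∀ γ : MulAut ↥Spor.M22, γ eDbl = eDbl → γ eTw = eTw → γ = 1 := by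
    intro γ h1 h2
    have hc := tied_commute γ (S := eTw) (S' := eTw ^ 2) (U := eU) h2 (by rw [map_pow, h2])
      (Subtype.ext rel_u22_tw)
    obtain ⟨c, hcmem, hcT⟩ := cent_tw_M22 (y := (eU⁻¹ * γ eU).1) (eU⁻¹ * γ eU).2.1.1
      (by rw [pt_23]; exact (eU⁻¹ * γ eU).2.1.2) (by rw [pt_0]; exact (eU⁻¹ * γ eU).2.2)
      (congrArg Subtype.val hc)
    obtain ⟨i, hi, hyi⟩ := eq_pow_of_mem_pwTw hcmem hcT
    have hγU : γ eU = eU * eTw ^ i := by
      have : eU⁻¹ * γ eU = eTw ^ i := Subtype.ext hyi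
      rw [← this]; group
    have hi0 : i = 0 := by
      have hfp := List.all_eq_true.mp fp22_all i (List.mem_range.mpr hi)
      rw [fp22, Bool.or_eq_true] at hfp
      rcases hfp with hfp | hfp
      · exact Nat.eq_of_beq_eq_true hfp
      · exfalso
        rw [List.any_eq_true] at hfp
        obtain ⟨wn, hwn, hmv⟩ := hfp
        have horig := List.all_eq_true.mp words22_orig wn hwn
        refine fingerprint γ [eDbl, eTw, eU] (codes := codes22) (codes' := cand22 i) ?_ ?_
          wn.1 wn.2 horig hmv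
        · exact .cons isTbl_gDbl (.cons isTbl_cubeTwist (.cons isTbl_gU22 .nil))
        · simp only [List.map_cons, List.map_nil, h1, h2, hγU]
          refine .cons isTbl_gDbl (.cons isTbl_cubeTwist (.cons ?_ .nil))
          rw [pwTw_eq, getD_powList hi]
          exact isTbl_gU22.mul (isTbl_pow isTbl_cubeTwist i)
    subst hi0
    apply aut_eq_one_of_closure (S := ({gDbl, cubeTwist, gU22} : Set (Equiv.Perm GolayPt)))
      M22_le (by
        rintro g (rfl | rfl | rfl)
        exacts [eDbl.2, eTw.2, eU.2])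
    intro x hx
    rcases hx with rfl | rfl | rfl
    · exact h1
    · exact h2
    · rw [show (⟨gU22, _⟩ : ↥Spor.M22) = eU from rfl, hγU, pow_zero, mul_one]
  refine card_out_eq_two _ hτ (fun α => ?_)
  obtain ⟨β, hβ, ε, hε, hγA, hγB⟩ :=
    normalize_frob hp2 hA hBA hcent [1, 10] (by decide) (by decide) α
  apply inn_or_of_normalized hβ
  simp only [List.mem_cons, List.not_mem_nil, or_false] at hε
  rcases hε with rfl | rfl
  · left
    exact key _ (by rw [hγA, pow_one]) hγB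
  · right
    obtain ⟨h1, h2⟩ := normalize_outer hA _ (β * α) hτA hτB hγA hγB (by norm_num)
    exact key _ h1 h2

end Cfsg.Agent.Helper7
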