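import Mathlib
import Cfsg.Prelude.Def_GeometricClasses
import Cfsg.Prelude.Def_Classical
import Cfsg.Agent.Helper35.S88Defs
import Cfsg.Agent.Helper35.TSSTDM
import Cfsg.Agent.Helper80.S88SCAL
import Cfsg.Agent.Helper97.OForm
import Cfsg.Agent.Helper96.OHAux
import Cfsg.Agent.Helper7.S90OEGGen

set_option autoImplicit false
set_option linter.unusedSectionVars false
set_option linter.unusedVariables false

/-!
# CALL S90 (row S5990, helper98), stage OEG (helper7): `s90_even_good`, verbatim.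
Port of helper96's `Cfsg.Agent.Helper96.S88.s88_even_good` to the minus-type ambient space.
-/

namespace Cfsg.Agent.Helper7.S90

open Module Cfsg Cfsg.Geo Cfsg.Agent.Helper35.S88
open Cfsg.Agent.Helper96.OH Cfsg.Agent.Helper96.OHAux Cfsg.Agent.Helper7.S90G
open scoped MatrixGroups

variable {F : Type*} [Field F] [Fintype F]

/-- OEG [BIG] (`r` odd `≠ p`, `i` even, `⟸`; mirror of S88 OEG = `Helper96.S88.s88_even_good`). -/
theorem s90_even_good {p : ℕ} [Fact p.Prime] [CharP F p] {q : ℕ} (hq : Fintype.card F = q)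
    (d m : ℕ) (hd : 4 ≤ d) (hm : 2 ≤ m) (hme : Even m) (hmn : m + 2 ≤ 2 * d) (a b : F)
    (hab : ∀ x y : F, x ^ 2 + a * x * y + b * y ^ 2 = 0 → x = 0 ∧ y = 0) (r : ℕ) [Fact r.Prime]
    (hr2 : 2 < r) (hrp : r ≠ p) (i : ℕ) (hi : i = orderOf (q : ZMod r)) (heven : Even i)
    (hcond : ((2 * d) % i = 0 ∧ (Even ((2 * d) / i) ∨ (m % i = 0 ∧ Odd (m / i)))) ∨
      (0 < (2 * d) % i ∧ i ≤ m ∧ ((0 < m % i ∧ m % i < (2 * d) % i) ∨
        (m % i = 0 ∧ Odd (m / i)) ∨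
        (m % i = (2 * d) % i ∧ Even ((2 * d + m - 2 * ((2 * d) % i)) / i))))) :
    AllEll (Cfsg.quadFormMinus (d - 1) F a b) r m := by
  classical
  subst hq
  have hrpr : r.Prime := Fact.out
  have hrodd : Odd r := hrpr.odd_of_ne_two (by omega)
  have hrF : (r : F) ≠ 0 := oh_rF p r hrp
  have hQ := (Cfsg.Agent.Helper35.TS5973.ts_std_minus (F := F) (d - 1) a b hab).1
  have hmi := (Cfsg.Agent.Helper35.TS5973.ts_std_minus (F := F) (d - 1) a b hab).2
  have hcard : Fintype.card ((Fin (d - 1) ⊕ Fin (d - 1)) ⊕ Fin 2) = 2 * d := by simp; omega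
  intro x hx hxr hns
  have hxiso := Cfsg.Agent.Helper97.Gen.omegaGL_le _ hx
  obtain ⟨x', hx', hx'r, hx'1, -, htrans⟩ :=
    Cfsg.Agent.Helper80.S88.s88_scal (Cfsg.quadFormMinus (d - 1) F a b) hQ r hrodd x hxiso hxr hns
  apply htrans m
  have hT := oh_opres_toLin' (Cfsg.quadFormMinus (d - 1) F a b) x' hx'
  have hTr : Matrix.toLin'
      (x' : Matrix ((Fin (d - 1) ⊕ Fin (d - 1)) ⊕ Fin 2) ((Fin (d - 1) ⊕ Fin (d - 1)) ⊕ Fin 2) F)
        ^ r = 1 := by
    have h2 : (x' : Matrix ((Fin (d - 1) ⊕ Fin (d - 1)) ⊕ Fin 2)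
        ((Fin (d - 1) ⊕ Fin (d - 1)) ⊕ Fin 2) F) ^ r = 1 := by
      rw [← Units.val_pow_eq_pow_val, hx'r]; rfl
    rw [oh_toLin'_pow_eq, h2, Matrix.toLin'_one]; rfl
  have hT1 : Matrix.toLin'
      (x' : Matrix ((Fin (d - 1) ⊕ Fin (d - 1)) ⊕ Fin 2) ((Fin (d - 1) ⊕ Fin (d - 1)) ⊕ Fin 2) F)
        ≠ 1 := by
    intro h
    apply hx'1
    apply Units.ext
    apply Matrix.toLin'.injective
    rw [h, Units.val_one, Matrix.toLin'_one]
    rfl
  exact s90g_even_good (Cfsg.quadFormMinus (d - 1) F a b) hQ d m hcard hmi hm hme hmn _ hT r hr2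
    hrF hTr hT1 i hi heven hcond

end Cfsg.Agent.Helper7.S90
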