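import Mathlib

set_option autoImplicit false

/-!
# Sub-CALL S90T2 (helper98), piece ARITH (helper7, double): the choice of blocks, pure `ℕ`.
-/

namespace Cfsg.Agent.Helper7.S90T2

/-- ARITH [M, pure ℕ]: choose `e'` odd; if `t` is odd: `e' = min e t`, then four-blocks, then
hyperbolic planes; if `t` is even then `d` is even, so `h` is odd (`e` odd) and one hyperbolic
plane fixes the parity. -/
theorem t2_arith (d t A h e : ℕ) (hsum : 2 * A + h + e = d) (he : Odd e) (ht1 : 1 ≤ t)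
    (htd : t + 1 ≤ d) (hcond : Even d ∨ Odd t) :
    ∃ a' h' e', a' ≤ A ∧ h' ≤ h ∧ e' ≤ e ∧ Odd e' ∧ 2 * a' + h' + e' = t := by
  obtain ⟨ε, hε⟩ := he
  rcases Nat.even_or_odd t with ⟨ν, hν⟩ | ⟨ν, hν⟩
  · -- `t` even: `d` even, `h` odd
    have hd : Even d := by
      rcases hcond with h1 | ⟨c, hc⟩
      · exact h1
      · omega
    obtain ⟨δ, hδ⟩ := hd
    by_cases h1 : t ≤ e + 1
    · exact ⟨0, 1, t - 1, by omega, by omega, by omega, ⟨ν - 1, by omega⟩, by omega⟩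
    · by_cases h2 : (t - e - 1) / 2 ≤ A
      · exact ⟨(t - e - 1) / 2, 1, e, h2, by omega, le_rfl, ⟨ε, hε⟩, by omega⟩
      · exact ⟨A, t - e - 2 * A, e, le_rfl, by omega, le_rfl, ⟨ε, hε⟩, by omega⟩
  · -- `t` odd
    by_cases h1 : t ≤ e
    · exact ⟨0, 0, t, by omega, by omega, h1, ⟨ν, hν⟩, by omega⟩
    · by_cases h2 : (t - e) / 2 ≤ A
      · exact ⟨(t - e) / 2, 0, e, h2, by omega, le_rfl, ⟨ε, hε⟩, by omega⟩
      · exact ⟨A, t - e - 2 * A, e, le_rfl, by omega, le_rfl, ⟨ε, hε⟩, by omega⟩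

end Cfsg.Agent.Helper7.S90T2
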