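/-
Helper7: piece PCOUNT of CALL S2316 (helper44): counting `p`-elements through a surjection with
`p`-group kernel.
-/
import Mathlib
import Cfsg.Agent.Helper44.SPUDefs

set_option autoImplicit false
open Classical

namespace Cfsg.Agent.Helper7.SPUPCOUNT

open Matrix Cfsg.Agent.Helper44.SPU

/-- PCOUNT: counting `p`-elements through a surjection with `p`-group kernel. -/
theorem spu_pcount {G H : Type*} [Group G] [Group H] [Finite G] (π : G →* H)
    (hπ : Function.Surjective π) (p : ℕ) [Fact p.Prime] (e : ℕ) (hker : Nat.card π.ker = p ^ e) :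
    Nat.card {g : G // ∃ j : ℕ, orderOf g = p ^ j} =
      Nat.card π.ker * Nat.card {h : H // ∃ j : ℕ, orderOf h = p ^ j} := by
  have hpp : p.Prime := Fact.out
  -- `g` is a `p`-element iff `π g` is
  have key : ∀ g : G, (∃ j : ℕ, orderOf g = p ^ j) ↔ (∃ j : ℕ, orderOf (π g) = p ^ j) := by
    intro g
    constructor
    · rintro ⟨j, hj⟩
      have h1 : orderOf (π g) ∣ p ^ j := by
        rw [← hj]
        exact orderOf_map_dvd π g
      obtain ⟨i, -, hi⟩ := (Nat.dvd_prime_pow hpp).mp h1
      exact ⟨i, hi⟩
    · rintro ⟨j, hj⟩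
      have h1 : (π g) ^ (p ^ j) = 1 := by
        rw [← hj]
        exact pow_orderOf_eq_one _
      have h2 : g ^ (p ^ j) ∈ π.ker := by
        rw [MonoidHom.mem_ker, map_pow, h1]
      have h3 : (⟨g ^ (p ^ j), h2⟩ : π.ker) ^ (p ^ e) = 1 := by
        rw [← hker]
        exact pow_card_eq_one'
      have h4 : (g ^ (p ^ j)) ^ (p ^ e) = 1 := by
        have := congrArg (fun x : π.ker => (x : G)) h3
        simpa using this
      have h5 : orderOf g ∣ p ^ (j + e) := by
        apply orderOf_dvd_of_pow_eq_one
        rw [pow_add, pow_mul]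
        exact h4
      obtain ⟨i, -, hi⟩ := (Nat.dvd_prime_pow hpp).mp h5
      exact ⟨i, hi⟩
  -- a section of `π`
  have hs : ∀ h : H, π (Function.surjInv hπ h) = h := Function.surjInv_eq hπ
  set s : H → G := Function.surjInv hπ with hsdef
  have e1 : {g : G // ∃ j : ℕ, orderOf g = p ^ j} ≃
      π.ker × {h : H // ∃ j : ℕ, orderOf h = p ^ j} :=
    { toFun := fun g => (⟨g.1 * (s (π g.1))⁻¹, by
          rw [MonoidHom.mem_ker, map_mul, map_inv, hs, mul_inv_cancel]⟩,
        ⟨π g.1, (key g.1).mp g.2⟩)
      invFun := fun x => ⟨x.1.1 * s x.2.1, by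
          apply (key _).mpr
          have h1 : π (x.1.1 * s x.2.1) = x.2.1 := by
            rw [map_mul, hs, MonoidHom.mem_ker.mp x.1.2, one_mul]
          rw [h1]
          exact x.2.2⟩
      left_inv := by
        intro g
        apply Subtype.ext
        simp
      right_inv := by
        rintro ⟨⟨k, hk⟩, ⟨h, hh⟩⟩
        have h1 : π (k * s h) = h := by
          rw [map_mul, hs, MonoidHom.mem_ker.mp hk, one_mul]
        apply Prod.ext
        · apply Subtype.ext
          simp only [h1]
          group
        · apply Subtype.ext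
          exact h1 }
  rw [Nat.card_congr e1, Nat.card_prod]

end Cfsg.Agent.Helper7.SPUPCOUNT
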